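import Cfsg.Agent.Lib.IcoLeech.Order

/-!
The centre of the reflection group of the icosian lattice and the number of reflections.
-/

set_option autoImplicit false
set_option maxRecDepth 100000
set_option maxHeartbeats 4000000

namespace Cfsg.Agent.IcoLeech

open Cfsg.Spor Quaternion

theorem only_e0 : (lineV.all fun l => !(l.y == Ico.zero && l.z == Ico.zero) || l == E0) = true := by
  decide +kernel

/-- Two vectors with the same reflection are unit multiples of each other. -/
theorem refl_line {f : Equiv.Perm icoLeech} {r s : icoLeech} (hr : IsMin (vec r)) (hs : IsMin (vec s))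
    (hfr : ∀ x : icoLeech, (f x : Fin 3 → ℍ[ℝ]) = qrefl (r : Fin 3 → ℍ[ℝ]) (x : Fin 3 → ℍ[ℝ]))
    (hfs : ∀ x : icoLeech, (f x : Fin 3 → ℍ[ℝ]) = qrefl (s : Fin 3 → ℍ[ℝ]) (x : Fin 3 → ℍ[ℝ])) :
    ∃ u ∈ Data.units, r = sml u s := by
  obtain ⟨g, hg⟩ := exists_map_e0 hs
  obtain ⟨r', hr'⟩ : ∃ r', (g : Equiv.Perm icoLeech) r' = r := ⟨_, Equiv.apply_symm_apply _ r⟩
  have h1 := conj_refl g⁻¹ hfr r'
  have h2 := conj_refl g⁻¹ hfs r'
  have er : ((g⁻¹ : twoJ2) : Equiv.Perm icoLeech) r = r' := by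
    rw [← hr', InvMemClass.coe_inv]; exact Equiv.symm_apply_apply _ _
  have es : ((g⁻¹ : twoJ2) : Equiv.Perm icoLeech) s = e0 := by
    rw [← hg, InvMemClass.coe_inv]; exact Equiv.symm_apply_apply _ _
  rw [er] at h1
  rw [es] at h2
  have hm : IsMin (vec r') := er ▸ isMin_image g⁻¹ hr
  have hneg : qrefl (r' : Fin 3 → ℍ[ℝ]) (r' : Fin 3 → ℍ[ℝ]) = -(r' : Fin 3 → ℍ[ℝ]) := by
    funext t
    simp only [qrefl, (isMin_iff r').1 hm, Pi.neg_apply]
    rw [show (4 : ℍ[ℝ]) = ((4 : ℝ) : ℍ[ℝ]) by norm_cast, Quaternion.smul_coe, Quaternion.coe_mul_eq_smul,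
      show (1 / 2 : ℝ) * 4 = 2 by norm_num, two_smul]
    abel
  rw [hneg] at h1
  have h3 := h2.symm.trans h1
  have hz : ∀ t : Fin 3, t ≠ 0 → (r' : Fin 3 → ℍ[ℝ]) t = 0 := fun t ht => by
    have h4 := congrFun h3 t
    have e : (e0 : Fin 3 → ℍ[ℝ]) t = 0 := by
      fin_cases t
      · exact absurd rfl ht
      · exact Ico.toH_zero
      · exact Ico.toH_zero
    simp only [qrefl, e, mul_zero, sub_zero, Pi.neg_apply] at h4
    rw [eq_neg_iff_add_eq_zero, ← two_mul, mul_eq_zero] at h4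
    exact h4.resolve_left Ico.two_ne
  obtain ⟨u, hu, l, hl, e⟩ := exists_line hm
  have hy : l.y = Ico.zero := by
    have h4 := hz 1 (by decide)
    rw [← toV_vec r', e, V3.sm_toV, mul_eq_zero] at h4
    refine Ico.toH_injective ((h4.resolve_left fun h5 => ?_).trans Ico.toH_zero.symm)
    have h6 := units_nrm u hu
    rw [Ico.toH_injective (h5.trans Ico.toH_zero.symm)] at h6
    exact absurd h6 (by decide)
  have hz' : l.z = Ico.zero := by
    have h4 := hz 2 (by decide)
    rw [← toV_vec r', e, V3.sm_toV, mul_eq_zero] at h4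
    refine Ico.toH_injective ((h4.resolve_left fun h5 => ?_).trans Ico.toH_zero.symm)
    have h6 := units_nrm u hu
    rw [Ico.toH_injective (h5.trans Ico.toH_zero.symm)] at h6
    exact absurd h6 (by decide)
  have hl0 := List.all_eq_true.1 only_e0 l hl
  simp only [hy, hz', beq_self_eq_true, Bool.and_self, Bool.not_true, Bool.false_or, beq_iff_eq] at hl0
  subst hl0
  refine ⟨u, hu, ?_⟩
  have e' : r' = sml u e0 := vec_injective (by rw [e, vec_sml, vec_e0])
  rw [← hr', e', iso_sml, hg]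

/-- The commutation check for the centre. -/
def centerOK : Bool :=
  Data.units.all fun u0 => Data.units.all fun u1 => Ico.mul u0 (G 4).y != Ico.mul (G 4).y u1 ||
    Data.units.all fun u2 => Ico.mul u0 (G 4).z != Ico.mul (G 4).z u2 ||
      Data.units.all fun u3 => Ico.mul u3 (G 3).x != Ico.mul (G 3).x u0 ||
        Ico.mul u3 (G 3).y != Ico.mul (G 3).y u1 || Ico.mul u3 (G 3).z != Ico.mul (G 3).z u2 ||
          ((u0 == Ico.one || u0 == Ico.neg Ico.one) && u1 == u0 && u2 == u0)

theorem center_ok : centerOK = true := by decide +kernel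

theorem G_frame : G 0 = E0 ∧ G 1 = E1 ∧ G 2 = E2 ∧ (G 4).x = Ico.one := by decide +kernel

theorem center_cases {z : twoJ2} (hz : z ∈ Subgroup.center twoJ2) : z = 1 ∨ z = negI := by
  have hG : ∀ k, ∃ u ∈ Data.units, (z : Equiv.Perm icoLeech) (el (G k) (G_facts k).1) = sml u (el (G k) (G_facts k).1) := by
    intro k
    have hm : IsMin (vec (el (G k) (G_facts k).1)) := by rw [vec_el]; exact ⟨(G_facts k).1, (G_facts k).2.1⟩
    refine refl_line (f := gperm k) (isMin_image z hm) hm (fun x => ?_) (fun x => coe_gfun k x)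
    have hc : (z : Equiv.Perm icoLeech) * gperm k * (z : Equiv.Perm icoLeech)⁻¹ = gperm k := by
      have h := congrArg Subtype.val (Subgroup.mem_center_iff.1 hz ⟨gperm k, gperm_mem k⟩)
      simp only [Subgroup.coe_mul] at h
      rw [← h, mul_inv_cancel_right]
    rw [← hc]
    exact conj_refl z (f := gperm k) (r := el (G k) (G_facts k).1) (fun y => coe_gfun k y) x
  obtain ⟨f0, f1, f2, f4⟩ := G_frame
  have hframe : ∀ (t : Fin 3), ∃ u ∈ Data.units, (z : Equiv.Perm icoLeech) (frame t) = sml u (frame t) := by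
    intro t
    obtain ⟨u, hu, e⟩ := hG t.1
    have he : el (G t.1) (G_facts t.1).1 = frame t := by
      refine vec_injective ?_
      fin_cases t
      · exact (vec_el _ _).trans (f0.trans (vec_el E0 inLam_facts.1).symm)
      · exact (vec_el _ _).trans (f1.trans (vec_el E1 inLam_facts.2.1).symm)
      · exact (vec_el _ _).trans (f2.trans (vec_el E2 inLam_facts.2.2.1).symm)
    rw [he] at e
    exact ⟨u, hu, e⟩
  choose d hd hdz using hframe
  have hcomp : ∀ (x : icoLeech) (t : Fin 3),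
      ((z : Equiv.Perm icoLeech) x : Fin 3 → ℍ[ℝ]) t = (x : Fin 3 → ℍ[ℝ]) t * Ico.toH (d t) := by
    intro x t
    have h := iso_of_mem z x (frame t)
    have e1 : star (Ico.toH (d t)) * Ico.toH (d t) = 1 := by
      rw [← Ico.toH_conj, ← Ico.toH_mul, Ico.conj_mul_unit (units_nrm _ (hd t)), Ico.toH_one]
    rw [hdz, coe_sml, ← qip_star, qip_scal, star_mul, qip_star, qip_frame, qip_frame] at h
    have h2 := congrArg (fun w => w * Ico.toH (d t)) h
    simp only [mul_assoc, e1, mul_one] at h2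
    rw [show (2 : ℍ[ℝ]) * Ico.toH (d t) = Ico.toH (d t) * 2 by rw [two_mul, mul_two], ← mul_assoc] at h2
    exact mul_right_cancel₀ Ico.two_ne h2
  have hrel : ∀ k, ∃ u ∈ Data.units, Ico.mul u (G k).x = Ico.mul (G k).x (d 0) ∧
      Ico.mul u (G k).y = Ico.mul (G k).y (d 1) ∧ Ico.mul u (G k).z = Ico.mul (G k).z (d 2) := by
    intro k
    obtain ⟨u, hu, e⟩ := hG k
    refine ⟨u, hu, ?_⟩
    have h := fun t => (hcomp (el (G k) (G_facts k).1) t).symm
    simp only [e, coe_sml] at h
    exact ⟨(Ico.toH_injective (by rw [Ico.toH_mul, Ico.toH_mul]; exact h 0)).symm,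
      (Ico.toH_injective (by rw [Ico.toH_mul, Ico.toH_mul]; exact h 1)).symm,
      (Ico.toH_injective (by rw [Ico.toH_mul, Ico.toH_mul]; exact h 2)).symm⟩
  obtain ⟨u4, hu4, a4, b4, c4⟩ := hrel 4
  rw [f4, Ico.mul_one', Ico.one_mul'] at a4
  subst a4
  obtain ⟨u3, hu3, a3, b3, c3⟩ := hrel 3
  have hchk := center_ok
  simp only [centerOK, List.all_eq_true, Bool.or_eq_true, Bool.and_eq_true, bne_iff_ne, beq_iff_eq] at hchk
  have h1 := ((hchk _ (hd 0) _ (hd 1)).resolve_left (fun h => h b4) _ (hd 2)).resolve_left (fun h => h c4) _ hu3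
  rcases h1 with ((h1 | h1) | h1) | ⟨⟨h1, e1⟩, e2⟩
  · exact absurd a3 h1
  · exact absurd b3 h1
  · exact absurd c3 h1
  have hall : ∀ t, d t = d 0 := fun t => by fin_cases t; exacts [rfl, e1, e2]
  rcases h1 with h1 | h1
  · left
    refine Subtype.ext (Equiv.ext fun x => Subtype.ext (funext fun t => ?_))
    rw [hcomp, hall, h1, Ico.toH_one, mul_one]
    rfl
  · right
    refine Subtype.ext (Equiv.ext fun x => Subtype.ext (funext fun t => ?_))
    rw [hcomp, hall, h1, negI_apply, Ico.toH_neg, Ico.toH_one, mul_neg_one]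
    rfl

theorem card_center : Nat.card (Subgroup.center twoJ2) = 2 := by
  classical
  rw [Nat.card_eq_two_iff' (1 : Subgroup.center twoJ2)]
  refine ⟨⟨negI, negI_central⟩, fun h => negI_ne_one (congrArg Subtype.val h), fun c hc => ?_⟩
  rcases center_cases c.2 with e | e
  · exact absurd (Subtype.ext e) hc
  · exact Subtype.ext e

theorem finite_J2 : Finite J2 :=
  haveI := finite_twoJ2
  inferInstance

theorem card_J2 : Nat.card J2 = 604800 := by
  have h := Subgroup.card_eq_card_quotient_mul_card_subgroup (Subgroup.center twoJ2)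
  rw [card_twoJ2, card_center] at h
  show Nat.card (twoJ2 ⧸ Subgroup.center twoJ2) = _
  omega

/-- Every reflection is a conjugate of the first. -/
theorem isConj_refl {f f' : Equiv.Perm icoLeech} (hf : IsIcoReflection f) (hf' : IsIcoReflection f') :
    ∃ g ∈ twoJ2, g * f * g⁻¹ = f' := by
  obtain ⟨r, hr, hfr⟩ := hf
  obtain ⟨s, hs, hfs⟩ := hf'
  obtain ⟨g, hg⟩ := exists_map_e0 ((isMin_iff r).2 hr)
  obtain ⟨h, hh⟩ := exists_map_e0 ((isMin_iff s).2 hs)
  refine ⟨((h * g⁻¹ : twoJ2) : Equiv.Perm icoLeech), (h * g⁻¹).2, ?_⟩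
  have e : ((h * g⁻¹ : twoJ2) : Equiv.Perm icoLeech) r = s := by
    rw [← hg, ← hh, Subgroup.coe_mul, Equiv.Perm.mul_apply, InvMemClass.coe_inv]
    exact congrArg _ (Equiv.symm_apply_apply _ _)
  refine refl_eq (r := s) (fun x => ?_) hfs
  rw [← e]
  exact conj_refl _ hfr x

theorem inLam_lineV (i : Fin 315) : (lineV.getD i.1 E0).inLam = true := inLam_ln i.1

/-- The number of reflections. -/
theorem card_refl : {f : Equiv.Perm icoLeech | IsIcoReflection f}.ncard = 315 := by
  classical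
  have hlt : ∀ i : Fin 315, i.1 < lineV.length := fun i => by rw [lines_length]; exact i.2
  let L : Fin 315 → icoLeech := fun i => el (lineV.getD i.1 E0) (inLam_lineV i)
  have hL : ∀ i, IsMin (vec (L i)) ∧ vec (L i) ∈ lineV := fun i => by
    rw [vec_el, List.getD_eq_getElem _ _ (hlt i)]
    exact ⟨isMin_line (List.getElem_mem _), List.getElem_mem _⟩
  choose g hg using fun i => exists_map_e0 (hL i).1
  let F : Fin 315 → Equiv.Perm icoLeech := fun i =>
    (g i : Equiv.Perm icoLeech) * gperm 0 * (g i : Equiv.Perm icoLeech)⁻¹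
  have he : el (G 0) (G_facts 0).1 = e0 := vec_injective (by rw [vec_el, vec_e0, G_frame.1])
  have hF : ∀ i (x : icoLeech), (F i x : Fin 3 → ℍ[ℝ]) = qrefl (L i : Fin 3 → ℍ[ℝ]) (x : Fin 3 → ℍ[ℝ]) :=
    fun i x => by
      rw [← hg i, ← he]
      exact conj_refl (g i) (f := gperm 0) (r := el (G 0) (G_facts 0).1) (fun y => coe_gfun 0 y) x
  have e : {f : Equiv.Perm icoLeech | IsIcoReflection f} = Set.range F := by
    ext f
    constructor
    · rintro ⟨r, hr, hfr⟩
      obtain ⟨u, hu, l, hl, el'⟩ := exists_line ((isMin_iff r).2 hr)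
      obtain ⟨i, hi, rfl⟩ := List.getElem_of_mem hl
      refine ⟨⟨i, lines_length ▸ hi⟩, refl_eq (hF _) fun x => ?_⟩
      rw [hfr]
      have er : r = sml u (L ⟨i, lines_length ▸ hi⟩) :=
        vec_injective (by rw [vec_sml, vec_el, List.getD_eq_getElem _ _ hi, el'])
      have e1 : star (Ico.toH u) * Ico.toH u = 1 := by
        rw [← Ico.toH_conj, ← Ico.toH_mul, Ico.conj_mul_unit (units_nrm _ hu), Ico.toH_one]
      funext t
      simp only [qrefl, er, coe_sml]
      rw [← qip_star _ (x : Fin 3 → ℍ[ℝ]), qip_scal, star_mul, qip_star, ← smul_mul_assoc, mul_assoc,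
        ← mul_assoc (star (Ico.toH u)), e1, one_mul]
    · rintro ⟨i, rfl⟩
      exact ⟨L i, (isMin_iff _).1 (hL i).1, hF i⟩
  rw [e, Set.ncard_range_of_injective, Nat.card_eq_fintype_card, Fintype.card_fin]
  intro i j hij
  obtain ⟨u, hu, h⟩ := refl_line (hL i).1 (hL j).1 (hF i) (fun x => hij ▸ hF j x)
  have h' := congrArg vec h
  rw [vec_sml] at h'
  have h2 := (sm_line_inj (mem_units.2 Ico.nrm_one) hu (hL i).2 (hL j).2 (by rw [V3.sm_one]; exact h')).2
  simp only [L, vec_el, List.getD_eq_getElem _ _ (hlt i), List.getD_eq_getElem _ _ (hlt j)] at h2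
  exact Fin.ext ((lines_nodup.getElem_inj_iff).1 h2)

end Cfsg.Agent.IcoLeech
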