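import Cfsg.Agent.Lib.IcoLeech.Sigma

/-!
Computations for the fusion and the self-centralising property in the centraliser of a reflection.
-/

set_option autoImplicit false
set_option maxRecDepth 100000
set_option maxHeartbeats 4000000
set_option Elab.async false

namespace Cfsg.Agent.IcoLeech

open Cfsg.Spor Quaternion

/-- The conjugate of the involution in the subgroup. -/
def xWord : List ℕ := [1]

/-- The check for the self-centralising property. -/
def centOK : Bool :=
  (List.range 32).all fun i => [1, 3].any fun j =>
    wapp (Data.wordW ++ sw i ++ sw j) R2 != wapp (sw j ++ Data.wordW ++ sw i) R2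

/-- A product of conjugates. -/
def prodWord (L : List ℕ) : List ℕ :=
  L.flatMap fun k => (Data.conjWords.getD k []) ++ xWord ++ (Data.conjWords.getD k []).reverse

/-- The check for a product of conjugates. -/
def prodOK (a : ℕ) : Bool :=
  (List.range 8).all fun i => wapp (prodWord (Data.conjProd.getD (a + i) [])) R2 == si (a + i)

/-- The checks for the fusion. -/
def fuseOK : Bool :=
  wapp xWord E0 == E0 && wapp xWord R2 != wapp qWord R2 &&
    (Data.conjWords.all fun w => match wapp w E0 with
      | v => v.y == Ico.zero && v.z == Ico.zero) &&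
    wapp (sw Data.pairA ++ xWord) R2 == wapp (xWord ++ sw Data.pairA) R2 &&
    wapp (sw Data.pairB ++ xWord) R2 == wapp (xWord ++ sw Data.pairB) R2 &&
    wapp (sw Data.pairA ++ sw Data.pairB) R2 != wapp (sw Data.pairB ++ sw Data.pairA) R2 &&
    decide (Data.pairA < 32) && decide (Data.pairB < 32)

theorem cent_ok : centOK = true := by decide +kernel

theorem fuse_ok : fuseOK = true := by decide +kernel

theorem prod_ok0 : prodOK 0 = true := by decide +kernel

theorem prod_ok1 : prodOK 8 = true := by decide +kernel

theorem prod_ok2 : prodOK 16 = true := by decide +kernel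

theorem prod_ok3 : prodOK 24 = true := by decide +kernel

theorem prod_ok {x : ℕ} (hx : x < 32) : wapp (prodWord (Data.conjProd.getD x [])) R2 = si x := by
  have key : ∀ {a : ℕ}, prodOK a = true → a ≤ x → x < a + 8 →
      wapp (prodWord (Data.conjProd.getD x [])) R2 = si x := fun {a} h h1 h2 => by
    have h3 := List.all_eq_true.1 h (x - a) (List.mem_range.2 (by omega))
    rw [Nat.add_sub_cancel' h1] at h3
    exact eq_of_beq h3
  rcases (by omega : x < 8 ∨ (8 ≤ x ∧ x < 16) ∨ (16 ≤ x ∧ x < 24) ∨ (24 ≤ x ∧ x < 32)) with h | h | h | h
  · exact key prod_ok0 (Nat.zero_le _) h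
  · exact key prod_ok1 h.1 h.2
  · exact key prod_ok2 h.1 h.2
  · exact key prod_ok3 h.1 h.2

end Cfsg.Agent.IcoLeech
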