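import Cfsg.Agent.Lib.IcoLeech.Sigma
import Cfsg.Agent.Lib.IcoLeech.CentCheck
import Cfsg.Agent.Lib.LargeExtra.SimpleCrit

/-!
The centraliser of a reflection in `J2`: extraspecial of order 32 by the alternating group of
degree five.
-/

set_option autoImplicit false
set_option maxRecDepth 100000
set_option maxHeartbeats 4000000

namespace Cfsg.Agent.IcoLeech

open Cfsg.Spor Quaternion

/-- The reflection in the first vector. -/
noncomputable def f0 : twoJ2 := ⟨gperm 0, gperm_mem 0⟩

/-- Its image. -/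
noncomputable def zJ : J2 := QuotientGroup.mk' (Subgroup.center twoJ2) f0

theorem f0_apply (x : icoLeech) :
    ((f0 : Equiv.Perm icoLeech) x : Fin 3 → ℍ[ℝ]) = qrefl (e0 : Fin 3 → ℍ[ℝ]) (x : Fin 3 → ℍ[ℝ]) := by
  have he : el (G 0) (G_facts 0).1 = e0 := vec_injective (by rw [vec_el, vec_e0, G_frame.1])
  rw [← he]
  exact coe_gfun 0 x

/-- The stabiliser of the first line. -/
def lineStab : Subgroup twoJ2 where
  carrier := {g | ∃ u ∈ Data.units, (g : Equiv.Perm icoLeech) e0 = sml u e0}
  one_mem' := ⟨Ico.one, mem_units.2 Ico.nrm_one, vec_injective (by rw [vec_sml, V3.sm_one]; rfl)⟩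
  mul_mem' := by
    rintro g h ⟨u, hu, eg⟩ ⟨v, hv, eh⟩
    refine ⟨Ico.mul v u, unit_mul_mem hv hu, ?_⟩
    rw [Subgroup.coe_mul, Equiv.Perm.mul_apply, eh, iso_sml, eg]
    exact vec_injective (by rw [vec_sml, vec_sml, vec_sml, V3.sm_sm])
  inv_mem' := by
    rintro g ⟨u, hu, eg⟩
    refine ⟨Ico.conj u, conj_mem hu, ?_⟩
    have h : (g : Equiv.Perm icoLeech) (sml (Ico.conj u) e0) = e0 := by
      rw [iso_sml, eg]
      exact vec_injective (by rw [vec_sml, vec_sml, V3.sm_sm, Ico.conj_mul_unit (units_nrm u hu), V3.sm_one])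
    rw [InvMemClass.coe_inv]
    exact ((g : Equiv.Perm icoLeech).symm_apply_eq).2 h.symm

theorem mem_lineStab {g : twoJ2} :
    g ∈ lineStab ↔ ∃ u ∈ Data.units, (g : Equiv.Perm icoLeech) e0 = sml u e0 := Iff.rfl

/-- The unit by which an element moves the first vector. -/
noncomputable def lam (g : lineStab) : Ico := (mem_lineStab.1 g.2).choose

theorem lam_mem (g : lineStab) : lam g ∈ Data.units := (mem_lineStab.1 g.2).choose_spec.1

theorem lam_spec (g : lineStab) : (g.1 : Equiv.Perm icoLeech) e0 = sml (lam g) e0 :=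
  (mem_lineStab.1 g.2).choose_spec.2

theorem sml_e0_inj {u v : Ico} (h : sml u e0 = sml v e0) : u = v := by
  have h' := congrArg (fun x : icoLeech => (x : Fin 3 → ℍ[ℝ]) 0) h
  simp only [coe_sml] at h'
  rw [show ((e0 : icoLeech) : Fin 3 → ℍ[ℝ]) 0 = Ico.toH two' from rfl, toH_two'] at h'
  exact Ico.toH_injective (mul_right_cancel₀ Ico.two_ne h')

theorem lam_mul (g h : lineStab) : lam (g * h) = Ico.mul (lam h) (lam g) := by
  refine sml_e0_inj ?_
  rw [← lam_spec, Subgroup.coe_mul, Subgroup.coe_mul, Equiv.Perm.mul_apply, lam_spec h, iso_sml, lam_spec g]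
  exact vec_injective (by rw [vec_sml, vec_sml, vec_sml, V3.sm_sm])

/-- The action on the five ideals. -/
noncomputable def piM : lineStab →* Equiv.Perm (Fin 5) :=
  MonoidHom.mk' (fun g => sigP ⟨lam g, List.mem_toFinset.2 (lam_mem g)⟩) fun g h => Equiv.ext fun k => by
    show sig (lam (g * h)) k = sig (lam g) (sig (lam h) k)
    rw [lam_mul, sig_mul (lam_mem h) (lam_mem g)]

theorem piM_apply (g : lineStab) (k : Fin 5) : piM g k = sig (lam g) k := rfl

theorem negI_lam : negI ∈ lineStab ∧ (negI : Equiv.Perm icoLeech) e0 = sml (Ico.neg Ico.one) e0 := by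
  have h : (negI : Equiv.Perm icoLeech) e0 = sml (Ico.neg Ico.one) e0 :=
    vec_injective (by rw [negI, vec_wel, vec_e0, vec_sml, vec_e0, neg_facts.1])
  exact ⟨⟨_, mem_units.2 (by decide), h⟩, h⟩

theorem center_le : Subgroup.center twoJ2 ≤ lineStab := fun c hc => by
  rcases center_cases hc with rfl | rfl
  · exact one_mem _
  · exact negI_lam.1

theorem lam_eq {g : lineStab} {u : Ico} (h : (g.1 : Equiv.Perm icoLeech) e0 = sml u e0) : lam g = u :=
  sml_e0_inj ((lam_spec g).symm.trans h)

theorem sig_neg_one (k : Fin 5) : sig (Ico.neg Ico.one) k = k :=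
  moves_unique (moves_sig (mem_units.2 (by decide)) k)
    ⟨Ico.neg Ico.one, mem_units.2 (by decide), Ico.toH_injective (by
      simp [Ico.toH_mul, Ico.toH_neg, Ico.toH_one])⟩

theorem piM_center {g : lineStab} (hg : (g : twoJ2) ∈ Subgroup.center twoJ2) : piM g = 1 := by
  rcases center_cases hg with e | e
  · rw [show g = 1 from Subtype.ext e, map_one]
  · refine Equiv.ext fun k => ?_
    rw [piM_apply, lam_eq (g := g) (u := Ico.neg Ico.one) (by rw [e]; exact negI_lam.2), sig_neg_one]
    rfl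

/-- The centraliser. -/
abbrev CJ : Subgroup J2 := Subgroup.centralizer ({zJ} : Set J2)

theorem conj_f0 (g : twoJ2) (x : icoLeech) :
    (((g * f0 * g⁻¹ : twoJ2) : Equiv.Perm icoLeech) x : Fin 3 → ℍ[ℝ]) =
      qrefl ((g : Equiv.Perm icoLeech) e0 : Fin 3 → ℍ[ℝ]) (x : Fin 3 → ℍ[ℝ]) :=
  conj_refl g f0_apply x

theorem f0_frame (t : Fin 3) (ht : t ≠ 0) :
    Cfsg.Spor.qip (frame t : Fin 3 → ℍ[ℝ]) (e0 : Fin 3 → ℍ[ℝ]) = 0 := by
  rw [← frame_zero, qip_frame]
  fin_cases t
  · exact absurd rfl ht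
  · show Ico.toH Ico.zero * 2 = 0
    rw [Ico.toH_zero, zero_mul]
  · show Ico.toH Ico.zero * 2 = 0
    rw [Ico.toH_zero, zero_mul]

theorem centralizes_iff (g : twoJ2) :
    QuotientGroup.mk' (Subgroup.center twoJ2) g * zJ = zJ * QuotientGroup.mk' (Subgroup.center twoJ2) g ↔
      g ∈ lineStab := by
  constructor
  · intro h
    rw [zJ, ← map_mul, ← map_mul, QuotientGroup.mk'_eq_mk'] at h
    obtain ⟨c, hc, e⟩ := h
    rcases center_cases hc with rfl | rfl
    · rw [mul_one] at e
      have hf : g * f0 * g⁻¹ = f0 := by rw [e, mul_inv_cancel_right]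
      obtain ⟨u, hu, eu⟩ := refl_line (f := (f0 : Equiv.Perm icoLeech)) (isMin_image g isMin_e0) isMin_e0
        (fun x => by rw [← conj_f0 g x, hf]) f0_apply
      exact ⟨u, hu, eu⟩
    · exfalso
      have hf : g * f0 * g⁻¹ = f0 * negI := by
        rw [Subgroup.mem_center_iff] at hc
        calc g * f0 * g⁻¹ = g * f0 * (negI * negI) * g⁻¹ := by rw [negI_sq, mul_one]
          _ = (g * f0 * negI) * negI * g⁻¹ := by group
          _ = f0 * g * negI * g⁻¹ := by rw [e]
          _ = f0 * negI * g * g⁻¹ := by rw [mul_assoc f0 g, hc g, ← mul_assoc]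
          _ = f0 * negI := mul_inv_cancel_right _ _
      set s : Fin 3 → ℍ[ℝ] := ((g : Equiv.Perm icoLeech) e0 : Fin 3 → ℍ[ℝ]) with hs
      have key : ∀ t : Fin 3, t ≠ 0 → ∀ j : Fin 3, (frame t : Fin 3 → ℍ[ℝ]) j * 2 =
          ((1 / 2 : ℝ) • Cfsg.Spor.qip (frame t : Fin 3 → ℍ[ℝ]) s) * s j := by
        intro t ht j
        have h1 := conj_f0 g (frame t)
        rw [hf, Subgroup.coe_mul, Equiv.Perm.mul_apply, f0_apply, negI_apply] at h1
        have h2 : qrefl (e0 : Fin 3 → ℍ[ℝ]) (-(frame t : Fin 3 → ℍ[ℝ])) = -(frame t : Fin 3 → ℍ[ℝ]) := by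
          funext i
          have h3 : Cfsg.Spor.qip (-(frame t : Fin 3 → ℍ[ℝ])) (e0 : Fin 3 → ℍ[ℝ]) = 0 := by
            have := f0_frame t ht
            simp only [Cfsg.Spor.qip, Pi.neg_apply, neg_mul, Finset.sum_neg_distrib, neg_eq_zero] at this ⊢
            exact this
          simp [qrefl, h3]
        rw [h2] at h1
        have h4 := congrFun h1 j
        simp only [qrefl, Pi.neg_apply] at h4
        rw [mul_two]
        linear_combination (norm := abel) -h4
      have hd : ∀ t : Fin 3, t ≠ 0 → s t ≠ 0 ∧ ∀ j, j ≠ t → s j = 0 := by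
        intro t ht
        have htt : (frame t : Fin 3 → ℍ[ℝ]) t = 2 := by fin_cases t <;> exact toH_two'
        have hne : ∀ j, j ≠ t → (frame t : Fin 3 → ℍ[ℝ]) j = 0 := by
          intro j hj
          fin_cases t <;> fin_cases j <;> first | exact absurd rfl hj | exact Ico.toH_zero
        have h1 := key t ht t
        rw [htt] at h1
        have h22 : (2 : ℍ[ℝ]) * 2 ≠ 0 := mul_ne_zero Ico.two_ne Ico.two_ne
        refine ⟨fun e' => h22 (by rw [h1, e', mul_zero]), fun j hj => ?_⟩
        have h2 := key t ht j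
        rw [hne j hj, zero_mul, eq_comm, mul_eq_zero] at h2
        exact h2.resolve_left fun e' => h22 (by rw [h1, e', zero_mul])
      exact (hd 1 (by decide)).1 ((hd 2 (by decide)).2 1 (by decide))
  · rintro ⟨u, hu, eu⟩
    rw [zJ, ← map_mul, ← map_mul]
    congr 1
    rw [← mul_inv_eq_iff_eq_mul]
    refine Subtype.ext (refl_eq (r := e0) (fun x => ?_) f0_apply)
    rw [conj_f0, eu, coe_sml]
    have e1 : star (Ico.toH u) * Ico.toH u = 1 := by
      rw [← Ico.toH_conj, ← Ico.toH_mul, Ico.conj_mul_unit (units_nrm _ hu), Ico.toH_one]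
    funext t
    simp only [qrefl]
    rw [← qip_star _ (x : Fin 3 → ℍ[ℝ]), qip_scal, star_mul, qip_star, ← smul_mul_assoc, mul_assoc,
      ← mul_assoc (star (Ico.toH u)), e1, one_mul]
where
  negI_sq : negI * negI = 1 := by
    refine Subtype.ext (Equiv.ext fun x => Subtype.ext ?_)
    rw [Subgroup.coe_mul, Equiv.Perm.mul_apply, negI_apply, negI_apply, neg_neg]
    rfl

/-- The map onto the centraliser. -/
noncomputable def toC : lineStab →* CJ :=
  ((QuotientGroup.mk' (Subgroup.center twoJ2)).comp lineStab.subtype).codRestrict CJ fun g => by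
    rw [Subgroup.mem_centralizer_singleton_iff]
    exact (centralizes_iff g.1).2 g.2

theorem toC_surjective : Function.Surjective toC := by
  rintro ⟨c, hc⟩
  obtain ⟨g, rfl⟩ := QuotientGroup.mk'_surjective _ c
  rw [Subgroup.mem_centralizer_singleton_iff] at hc
  exact ⟨⟨g, (centralizes_iff g).1 hc⟩, rfl⟩

theorem toC_eq_one {g : lineStab} : toC g = 1 ↔ (g : twoJ2) ∈ Subgroup.center twoJ2 := by
  rw [Subtype.ext_iff]
  exact QuotientGroup.eq_one_iff _

/-- The action of the centraliser on the five ideals. -/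
noncomputable def piC : CJ →* Equiv.Perm (Fin 5) :=
  toC.liftOfSurjective toC_surjective
    ⟨piM, fun _ hg => MonoidHom.mem_ker.2 (piM_center (toC_eq_one.1 hg))⟩

theorem piC_toC (g : lineStab) : piC (toC g) = piM g :=
  MonoidHom.liftOfRightInverse_comp_apply _ _ _ _ g

theorem piC_range : piC.range = alternatingGroup (Fin 5) := by
  refine Subgroup.eq_of_le_of_card_ge ?_ ?_
  · rintro _ ⟨c, rfl⟩
    obtain ⟨g, rfl⟩ := toC_surjective c
    rw [piC_toC, Equiv.Perm.mem_alternatingGroup]
    exact sigP_sign _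
  · obtain ⟨-, -, hnd, hlen⟩ := sig_table
    have hel : ∀ i : Fin 120, ∃ g : lineStab, lam g = uI i := fun i => by
      obtain ⟨g, hg⟩ := reach_units (uI_mem i)
      have e : (g : Equiv.Perm icoLeech) e0 = sml (uI i) e0 := vec_injective (by rw [vec_sml, vec_e0, hg])
      exact ⟨⟨g, uI i, uI_mem i, e⟩, lam_eq e⟩
    choose el hel using hel
    let F : Fin 60 → piC.range := fun a => ⟨piM (el (Fin.ofNat 120 (Data.sigPick.getD a.1 0))), _, piC_toC _⟩
    have hF : Function.Injective F := by
      intro a c e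
      have e' : ∀ k, sigI (Fin.ofNat 120 (Data.sigPick.getD a.1 0)) k =
          sigI (Fin.ofNat 120 (Data.sigPick.getD c.1 0)) k := fun k => by
        have := Equiv.ext_iff.1 (congrArg Subtype.val e) k
        simp only [F, piM_apply, hel, sig_uI] at this
        exact this
      refine Fin.ext ((hnd.getElem_inj_iff (hi := by rw [List.length_map, hlen]; exact a.2)
        (hj := by rw [List.length_map, hlen]; exact c.2)).1 ?_)
      rw [List.getElem_map, List.getElem_map]
      refine List.map_congr_left fun k _ => ?_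
      rw [← List.getD_eq_getElem _ 0, ← List.getD_eq_getElem _ 0]
      exact e' k
    have := Nat.card_le_card_of_injective F hF
    rw [Nat.card_eq_fintype_card (α := Fin 60), Fintype.card_fin] at this
    rw [show Nat.card (alternatingGroup (Fin 5)) = 60 by rw [Nat.card_eq_fintype_card]; decide +kernel]
    exact this

/-- The normal 2-subgroup. -/
noncomputable abbrev QJ : Subgroup CJ := piC.ker

theorem Stab_le : (Stab : Subgroup twoJ2) ≤ lineStab := fun g hg =>
  ⟨Ico.one, mem_units.2 Ico.nrm_one, vec_injective (by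
    rw [vec_sml, V3.sm_one, mem_Stab.1 hg])⟩

theorem piM_Stab (g : Stab) : piM (Subgroup.inclusion Stab_le g) = 1 := Equiv.ext fun k => by
  rw [piM_apply, lam_eq (g := Subgroup.inclusion Stab_le g) (u := Ico.one) (vec_injective (by
    rw [vec_sml, V3.sm_one]; exact congrArg vec g.2)), sig_one]
  rfl

/-- The stabiliser maps onto the 2-subgroup. -/
noncomputable def toQJ : Stab →* QJ :=
  (toC.comp (Subgroup.inclusion Stab_le)).codRestrict QJ fun g =>
    MonoidHom.mem_ker.2 ((piC_toC _).trans (piM_Stab g))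

theorem eq_of_center {g h : twoJ2} (hg : (g : Equiv.Perm icoLeech) e0 = (h : Equiv.Perm icoLeech) e0)
    (hc : g⁻¹ * h ∈ Subgroup.center twoJ2) : g = h := by
  rcases center_cases hc with e | e
  · exact inv_mul_eq_one.1 e
  · exfalso
    have h1 : ((g⁻¹ * h : twoJ2) : Equiv.Perm icoLeech) e0 = e0 := by
      rw [Subgroup.coe_mul, Equiv.Perm.mul_apply, ← hg, InvMemClass.coe_inv]
      exact Equiv.symm_apply_apply _ _
    rw [e, negI_lam.2] at h1
    have h2 : sml (Ico.neg Ico.one) e0 = sml Ico.one e0 := by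
      rw [h1]; exact vec_injective (by rw [vec_sml, V3.sm_one])
    exact absurd (sml_e0_inj h2) (by decide)

theorem toQJ_bijective : Function.Bijective toQJ := by
  constructor
  · intro a b e
    have e' : toC ((Subgroup.inclusion Stab_le a)⁻¹ * Subgroup.inclusion Stab_le b) = 1 := by
      rw [map_mul, map_inv, inv_mul_eq_one]
      exact congrArg Subtype.val e
    exact Subtype.ext (eq_of_center (a.2.trans b.2.symm) (toC_eq_one.1 e'))
  · rintro ⟨c, hc⟩
    obtain ⟨g, rfl⟩ := toC_surjective c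
    rw [MonoidHom.mem_ker, piC_toC] at hc
    have hid : ∀ k, sig (lam g) k = k := fun k => by rw [← piM_apply, hc]; rfl
    rcases sig_eq_id (lam_mem g) hid with e | e
    · refine ⟨⟨g.1, ?_⟩, Subtype.ext rfl⟩
      rw [mem_Stab, lam_spec, e]
      exact vec_injective (by rw [vec_sml, V3.sm_one])
    · refine ⟨⟨negI * g.1, ?_⟩, Subtype.ext (Subtype.ext ?_)⟩
      · rw [mem_Stab, Subgroup.coe_mul, Equiv.Perm.mul_apply, lam_spec, e, iso_sml, negI_lam.2]
        exact vec_injective (by
          rw [vec_sml, vec_sml, V3.sm_sm, show Ico.mul (Ico.neg Ico.one) (Ico.neg Ico.one) = Ico.one by decide,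
            V3.sm_one])
      · show QuotientGroup.mk' _ (negI * g.1) = QuotientGroup.mk' _ g.1
        rw [map_mul, show QuotientGroup.mk' (Subgroup.center twoJ2) negI = 1 from
          (QuotientGroup.eq_one_iff _).2 negI_central, one_mul]

theorem isExtraspecial_QJ : Cfsg.IsExtraspecial 2 ↥QJ :=
  Cfsg.Agent.LargeExtra.isExtraspecial_of_equiv isExtraspecial_Stab (MulEquiv.ofBijective toQJ toQJ_bijective)

theorem card_QJ : Nat.card QJ = 32 := by
  rw [← Nat.card_congr (MulEquiv.ofBijective toQJ toQJ_bijective).toEquiv, card_Stab.2]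

/-- The quotient. -/
noncomputable def quotEquiv : CJ ⧸ QJ ≃* alternatingGroup (Fin 5) :=
  (QuotientGroup.quotientKerEquivRange piC).trans (MulEquiv.subgroupCongr piC_range)

theorem orderOf_zJ : orderOf zJ = 2 := by
  refine orderOf_eq_prime ?_ ?_
  · rw [pow_two, zJ, ← map_mul]
    refine (QuotientGroup.eq_one_iff _).2 ?_
    rw [show f0 * f0 = 1 from Subtype.ext (Equiv.ext fun x => Subtype.ext (by
      rw [Subgroup.coe_mul, Equiv.Perm.mul_apply, f0_apply, f0_apply,
        qrefl_qrefl ((isMin_iff e0).1 isMin_e0)]; rfl))]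
    exact one_mem _
  · intro h
    have h' := (QuotientGroup.eq_one_iff _).1 h
    have hfix : (f0 : Equiv.Perm icoLeech) (frame 1) = frame 1 := Subtype.ext (by
      rw [f0_apply]
      funext i
      simp [qrefl, f0_frame 1 (by decide)])
    have hfix0 : ((f0 : Equiv.Perm icoLeech) e0 : Fin 3 → ℍ[ℝ]) 0 = -2 := by
      rw [f0_apply]
      simp only [qrefl, (isMin_iff e0).1 isMin_e0]
      rw [show ((e0 : icoLeech) : Fin 3 → ℍ[ℝ]) 0 = Ico.toH two' from rfl, toH_two',
        show (4 : ℍ[ℝ]) = ((4 : ℝ) : ℍ[ℝ]) by norm_cast, Quaternion.smul_coe, Quaternion.coe_mul_eq_smul,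
        show (1 / 2 : ℝ) * 4 = 2 by norm_num, two_smul]
      abel
    have h20 : (2 : ℍ[ℝ]) * 2 ≠ 0 := mul_ne_zero Ico.two_ne Ico.two_ne
    rcases center_cases h' with e | e
    · rw [e] at hfix0
      rw [show ((((1 : twoJ2) : Equiv.Perm icoLeech) e0) : Fin 3 → ℍ[ℝ]) 0 = Ico.toH two' from rfl, toH_two',
        eq_neg_iff_add_eq_zero, ← two_mul] at hfix0
      exact h20 hfix0
    · have h1 := negI_apply (frame 1)
      rw [← e, hfix] at h1
      have h2 := congrFun h1 1
      rw [Pi.neg_apply, show (frame 1 : Fin 3 → ℍ[ℝ]) 1 = Ico.toH two' from rfl, toH_two', eq_neg_iff_add_eq_zero,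
        ← two_mul] at h2
      exact h20 h2

/-! ### The criterion -/

theorem wel_append (a c : List ℕ) : wel (a ++ c) = wel a * wel c := by
  simp [wel]

theorem gperm_sq (k : ℕ) : (⟨gperm k, gperm_mem k⟩ : twoJ2) * ⟨gperm k, gperm_mem k⟩ = 1 :=
  Subtype.ext (Equiv.ext fun x => Subtype.ext (by
    rw [Subgroup.coe_mul, Equiv.Perm.mul_apply]
    show (gfun k (gfun k x) : Fin 3 → ℍ[ℝ]) = _
    rw [coe_gfun, coe_gfun, qrefl_qrefl (qip_G k)]
    rfl))

theorem wel_reverse : ∀ w : List ℕ, wel w.reverse = (wel w)⁻¹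
  | [] => by simp [wel]
  | k :: w => by
    rw [List.reverse_cons, wel_append, wel_reverse w]
    show _ = (wel ([k] ++ w))⁻¹
    rw [wel_append, mul_inv_rev]
    congr 1

theorem lineStab_of_word {w : List ℕ} (h1 : (wapp w E0).y = Ico.zero) (h2 : (wapp w E0).z = Ico.zero) :
    wel w ∈ lineStab := by
  have hm : IsMin (vec ((wel w : Equiv.Perm icoLeech) e0)) := isMin_image _ isMin_e0
  obtain ⟨u, hu, l, hl, e⟩ := exists_line hm
  rw [vec_wel, vec_e0] at e
  have hz : ∀ x, Ico.mul u x = Ico.zero → x = Ico.zero := fun x hx => by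
    have h := congrArg Ico.toH hx
    rw [Ico.toH_mul, Ico.toH_zero, mul_eq_zero] at h
    refine Ico.toH_injective ((h.resolve_left fun h5 => ?_).trans Ico.toH_zero.symm)
    have h6 := units_nrm u hu
    rw [Ico.toH_injective (h5.trans Ico.toH_zero.symm)] at h6
    exact absurd h6 (by decide)
  rw [e] at h1 h2
  have hl0 := List.all_eq_true.1 only_e0 l hl
  simp only [hz _ h1, hz _ h2, beq_self_eq_true, Bool.and_self, Bool.not_true, Bool.false_or, beq_iff_eq] at hl0
  subst hl0
  exact ⟨u, hu, vec_injective (by rw [vec_wel, vec_e0, e, vec_sml, vec_e0])⟩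

theorem xWord_mem : wel xWord ∈ Stab := by
  have h := fuse_ok
  simp only [fuseOK, Bool.and_eq_true, beq_iff_eq] at h
  rw [mem_Stab]
  exact vec_injective (by rw [vec_wel, vec_e0, h.1.1.1.1.1.1.1])

theorem stab_word_eq {a c : List ℕ} (ha : wel a ∈ Stab) (hc : wel c ∈ Stab) (e : wapp a R2 = wapp c R2) :
    wel a = wel c :=
  stab_ext ha hc (by rw [vec_wel, vec_wel, vec_r2, e])

/-- The hypotheses of the simplicity criterion. -/
theorem dataJ : Cfsg.Agent.LargeExtra.SimpleCrit.Data zJ QJ := by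
  haveI : IsSimpleGroup (alternatingGroup (Fin 5)) := alternatingGroup.isSimpleGroup_five
  have hA : IsSimpleGroup piC.range := by
    rw [piC_range]; infer_instance
  let φ : CJ →* piC.range := piC.rangeRestrict
  have hsurj : Function.Surjective φ := piC.rangeRestrict_surjective
  have hφ : ∀ c, φ c = 1 ↔ c ∈ QJ := fun c => by rw [Subtype.ext_iff]; exact Iff.rfl
  have hmax : ∀ N : Subgroup CJ, N.Normal → QJ ≤ N → N = QJ ∨ N = ⊤ := by
    intro N hN hQN
    rcases (hN.map φ hsurj).eq_bot_or_eq_top with e | e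
    · left
      refine le_antisymm (fun c hc => ?_) hQN
      have : φ c ∈ N.map φ := ⟨c, hc, rfl⟩
      rw [e, Subgroup.mem_bot] at this
      exact (hφ c).1 this
    · right
      rw [Subgroup.eq_top_iff']
      intro c
      obtain ⟨n, hn, e'⟩ : φ c ∈ N.map φ := by rw [e]; exact Subgroup.mem_top _
      have : n⁻¹ * c ∈ N := hQN ((hφ _).1 (by rw [map_mul, map_inv, e', inv_mul_cancel]))
      simpa using N.mul_mem hn this
  have hproper : QJ ≠ ⊤ := by
    intro e
    haveI : Nontrivial piC.range := hA.toNontrivial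
    obtain ⟨A, hA'⟩ := exists_ne (1 : piC.range)
    obtain ⟨c, rfl⟩ := hsurj A
    exact hA' ((hφ c).2 (by rw [e]; exact Subgroup.mem_top _))
  have hfu := fuse_ok
  simp only [fuseOK, Bool.and_eq_true, beq_iff_eq, bne_iff_ne, List.all_eq_true, List.mem_range,
    decide_eq_true_eq] at hfu
  obtain ⟨⟨⟨⟨⟨⟨⟨hx0, hxq⟩, hconj⟩, hca⟩, hcb⟩, hab⟩, hA32⟩, hB32⟩ := hfu
  have hW : wel Data.wordW ∈ lineStab := by
    refine ⟨Ico.gW, mem_units.2 (by decide), vec_injective ?_⟩
    rw [vec_wel, vec_e0, vec_sml, vec_e0, words_units.2]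
  refine ⟨orderOf_zJ, isExtraspecial_QJ, inferInstance, ?_, hmax, hproper, ?_⟩
  · by_contra hcon
    have hn : (Subgroup.centralizer (QJ : Set CJ) ⊔ QJ).Normal := inferInstance
    rcases hmax _ hn le_sup_right with e | e
    · exact hcon (le_sup_left.trans e.le)
    · haveI : (Subgroup.centralizer (QJ : Set CJ)).Normal := inferInstance
      obtain ⟨c, hc, q, hq, ecq⟩ := Subgroup.mem_sup_of_normal_left.1
        (e ▸ Subgroup.mem_top (toC ⟨_, hW⟩) : toC ⟨_, hW⟩ ∈ Subgroup.centralizer (QJ : Set CJ) ⊔ QJ)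
      obtain ⟨s, hs⟩ := toQJ_bijective.2 ⟨q⁻¹, inv_mem hq⟩
      obtain ⟨i, hi⟩ := se_surjective s.2
      have hk := cent_ok
      simp only [centOK, List.all_eq_true, List.any_eq_true, List.mem_range, List.mem_cons, List.not_mem_nil, or_false, bne_iff_ne] at hk
      obtain ⟨j, hj', hne⟩ := hk i.1 i.2
      have hj : j < 32 := by omega
      have hce : c = toC (⟨_, hW⟩ * Subgroup.inclusion Stab_le s) := by
        rw [map_mul, ← ecq, show toC (Subgroup.inclusion Stab_le s) = q⁻¹ from congrArg Subtype.val hs,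
          mul_inv_cancel_right]
      have hcomm := Subgroup.mem_centralizer_iff.1 hc (toC (Subgroup.inclusion Stab_le ⟨se ⟨j, hj⟩, se_mem _⟩))
        (toQJ ⟨se ⟨j, hj⟩, se_mem _⟩).2
      rw [hce, ← map_mul, ← map_mul] at hcomm
      set a : twoJ2 := wel Data.wordW * s.1 with ha
      have he : ((a * se ⟨j, hj⟩ : twoJ2) : Equiv.Perm icoLeech) e0 =
          ((se ⟨j, hj⟩ * a : twoJ2) : Equiv.Perm icoLeech) e0 := by
        obtain ⟨u, hu, eu⟩ := hW
        have hsa : (s.1 : Equiv.Perm icoLeech) e0 = e0 := s.2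
        have hsj := mem_Stab.1 (se_mem ⟨j, hj⟩)
        simp only [ha, Subgroup.coe_mul, Equiv.Perm.mul_apply, hsa, hsj, eu, iso_sml]
      have hcen : (a * se ⟨j, hj⟩)⁻¹ * (se ⟨j, hj⟩ * a) ∈ Subgroup.center twoJ2 := by
        have h1 : toC ((⟨_, hW⟩ * Subgroup.inclusion Stab_le s * Subgroup.inclusion Stab_le ⟨se ⟨j, hj⟩, se_mem _⟩)⁻¹ *
            (Subgroup.inclusion Stab_le ⟨se ⟨j, hj⟩, se_mem _⟩ * (⟨_, hW⟩ * Subgroup.inclusion Stab_le s))) = 1 := by
          rw [map_mul, map_inv, inv_mul_eq_one]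
          exact hcomm.symm
        exact toC_eq_one.1 h1
      have heq := eq_of_center he hcen
      apply hne
      have h2 := congrArg (fun g : twoJ2 => vec ((g : Equiv.Perm icoLeech) r2)) heq
      simp only [ha, ← hi, se, ← wel_append, vec_wel, vec_r2] at h2
      rw [← List.append_assoc (sw j)] at h2
      exact h2
  · obtain ⟨g, hg⟩ := exists_map_e0 (x := el (G 1) (G_facts 1).1)
      (by rw [vec_el]; exact ⟨(G_facts 1).1, (G_facts 1).2.1⟩)
    have e : g * f0 * g⁻¹ = wel xWord := by
      refine Subtype.ext (refl_eq (r := el (G 1) (G_facts 1).1) (fun x => ?_) (fun x => ?_))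
      · rw [← hg]; exact conj_f0 g x
      · rw [show wel xWord = ⟨gperm 1, gperm_mem 1⟩ by simp [wel, xWord]]
        exact coe_gfun 1 x
    set X : CJ := toC (Subgroup.inclusion Stab_le ⟨wel xWord, xWord_mem⟩) with hX
    have eX : QuotientGroup.mk' (Subgroup.center twoJ2) g * zJ * (QuotientGroup.mk' (Subgroup.center twoJ2) g)⁻¹ =
        (X : J2) := by
      rw [zJ, ← map_inv, ← map_mul, ← map_mul, e]
      rfl
    refine ⟨QuotientGroup.mk' (Subgroup.center twoJ2) g, eX ▸ X.2, ?_, ?_, ?_, ?_⟩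
    · rw [show (⟨_, eX ▸ X.2⟩ : CJ) = X from Subtype.ext eX]
      exact (toQJ ⟨_, xWord_mem⟩).2
    · rw [eX]
      intro e'
      have hz : toQJ ⟨zQ, zQ_mem⟩ = toQJ ⟨wel xWord, xWord_mem⟩ := by
        refine Subtype.ext (Subtype.ext ?_)
        refine Eq.trans ?_ e'.symm
        show QuotientGroup.mk' (Subgroup.center twoJ2) (wel qWord) = QuotientGroup.mk' (Subgroup.center twoJ2) f0
        rw [show qWord = negWord ++ [0] from rfl, wel_append, map_mul,
          show QuotientGroup.mk' (Subgroup.center twoJ2) (wel negWord) = 1 from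
            (QuotientGroup.eq_one_iff _).2 negI_central, one_mul]
        simp [wel, f0]
      have h2 := congrArg (fun s : Stab => vec (((s : twoJ2) : Equiv.Perm icoLeech) r2)) (toQJ_bijective.1 hz)
      simp only [vec_zQ, vec_wel, vec_r2] at h2
      exact hxq h2.symm
    · intro N hN hmem
      rw [show (⟨_, eX ▸ X.2⟩ : CJ) = X from Subtype.ext eX] at hmem
      intro q hq
      obtain ⟨s, hs⟩ := toQJ_bijective.2 ⟨q, hq⟩
      obtain ⟨i, hi⟩ := se_surjective s.2
      let T : Subgroup lineStab := N.comap toC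
      have hT : ∀ L : List ℕ, (∀ k ∈ L, k < Data.conjWords.length) →
          ∃ h : wel (prodWord L) ∈ lineStab, (⟨_, h⟩ : lineStab) ∈ T ∧ wel (prodWord L) ∈ Stab := by
        intro L
        induction L with
        | nil => exact fun _ => ⟨one_mem _, one_mem T, one_mem _⟩
        | cons k L ih =>
          intro hk
          obtain ⟨h, hT', hS⟩ := ih fun a ha => hk a (List.mem_cons_of_mem _ ha)
          have hk' := hk k List.mem_cons_self
          set w := Data.conjWords.getD k []
          have hw : wel w ∈ lineStab := by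
            have hm : w ∈ Data.conjWords := by
              show Data.conjWords.getD k [] ∈ _
              rw [List.getD_eq_getElem _ _ hk']; exact List.getElem_mem _
            exact lineStab_of_word (hconj w hm).1 (hconj w hm).2
          have e1 : wel (prodWord (k :: L)) = wel w * wel xWord * (wel w)⁻¹ * wel (prodWord L) := by
            show wel (prodWord ([k] ++ L)) = _
            rw [prodWord, List.flatMap_append, wel_append, List.flatMap_singleton, wel_append, wel_append,
              wel_reverse]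
            rfl
          have hmemS : wel w * wel xWord * (wel w)⁻¹ ∈ Stab := by
            obtain ⟨u, hu, eu⟩ := hw
            rw [mem_Stab]
            obtain ⟨y, hy⟩ : ∃ y, (wel w : Equiv.Perm icoLeech) y = e0 := ⟨_, Equiv.apply_symm_apply _ e0⟩
            have hy' : y = sml (Ico.conj u) e0 := (wel w : Equiv.Perm icoLeech).injective (by
              rw [hy, iso_sml, eu]
              exact vec_injective (by rw [vec_sml, vec_sml, V3.sm_sm, Ico.conj_mul_unit (units_nrm u hu), V3.sm_one]))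
            have hi' : ((wel w)⁻¹ : twoJ2).1 e0 = y := by
              rw [← hy, InvMemClass.coe_inv]; exact Equiv.symm_apply_apply _ _
            rw [Subgroup.coe_mul, Subgroup.coe_mul, Equiv.Perm.mul_apply, Equiv.Perm.mul_apply, hi', hy', iso_sml,
              mem_Stab.1 xWord_mem, ← hy', hy]
          have hS' : wel (prodWord (k :: L)) ∈ Stab := e1 ▸ mul_mem hmemS hS
          refine ⟨Stab_le hS', ?_, hS'⟩
          have e2 : (⟨_, Stab_le hS'⟩ : lineStab) = ⟨wel w, hw⟩ * Subgroup.inclusion Stab_le ⟨_, xWord_mem⟩ *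
              (⟨wel w, hw⟩ : lineStab)⁻¹ * ⟨_, h⟩ := Subtype.ext e1
          rw [e2]
          refine T.mul_mem ?_ hT'
          show toC _ ∈ N
          rw [map_mul, map_mul, map_inv]
          exact hN.conj_mem _ hmem _
      have hlt : ∀ k ∈ Data.conjProd.getD i.1 [], k < Data.conjWords.length := by
        have : ∀ a : Fin 32, ∀ k ∈ Data.conjProd.getD a.1 [], k < Data.conjWords.length := by decide +kernel
        exact this i
      obtain ⟨h, hmemT, hS⟩ := hT _ hlt
      have es : wel (prodWord (Data.conjProd.getD i.1 [])) = s.1 := by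
        rw [← hi, se]
        exact stab_word_eq hS (se_mem i) (prod_ok i.2)
      have : q = toC ⟨_, h⟩ := by
        rw [show q = (toQJ s : CJ) from (congrArg Subtype.val hs).symm]
        show toC (Subgroup.inclusion Stab_le s) = _
        exact congrArg toC (Subtype.ext es.symm)
      rw [this]
      exact hmemT
    · have key : ∀ a c : Fin 32, wapp (sw a.1 ++ sw c.1) R2 = wapp (sw c.1 ++ sw a.1) R2 →
          se a * se c = se c * se a := fun a c h => stab_ext (mul_mem (se_mem a) (se_mem c))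
            (mul_mem (se_mem c) (se_mem a)) (by rw [se, se, ← wel_append, ← wel_append, vec_wel, vec_wel, vec_r2, h])
      have keyx : ∀ a : Fin 32, wapp (sw a.1 ++ xWord) R2 = wapp (xWord ++ sw a.1) R2 →
          se a * wel xWord = wel xWord * se a := fun a h => stab_ext (mul_mem (se_mem a) xWord_mem)
            (mul_mem xWord_mem (se_mem a)) (by rw [se, ← wel_append, ← wel_append, vec_wel, vec_wel, vec_r2, h])
      refine ⟨toC (Subgroup.inclusion Stab_le ⟨se ⟨_, hA32⟩, se_mem _⟩), (toQJ ⟨_, se_mem _⟩).2,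
        toC (Subgroup.inclusion Stab_le ⟨se ⟨_, hB32⟩, se_mem _⟩), (toQJ ⟨_, se_mem _⟩).2, ?_, ?_, ?_⟩
      · rw [eX]
        exact congrArg (QuotientGroup.mk' (Subgroup.center twoJ2)) (keyx ⟨_, hA32⟩ hca)
      · rw [eX]
        exact congrArg (QuotientGroup.mk' (Subgroup.center twoJ2)) (keyx ⟨_, hB32⟩ hcb)
      · intro e'
        have e'' : toQJ (⟨_, se_mem ⟨_, hA32⟩⟩ * ⟨_, se_mem ⟨_, hB32⟩⟩) =
            toQJ (⟨_, se_mem ⟨_, hB32⟩⟩ * ⟨_, se_mem ⟨_, hA32⟩⟩) := by
          rw [map_mul, map_mul]; exact Subtype.ext e'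
        have h2 := congrArg (fun s : Stab => vec (((s : twoJ2) : Equiv.Perm icoLeech) r2)) (toQJ_bijective.1 e'')
        simp only [Subgroup.coe_mul] at h2
        apply hab
        rw [← vec_r2, ← vec_wel, ← vec_wel, wel_append, wel_append]
        exact h2

theorem not_two_group_CJ : ¬ IsPGroup 2 ↥CJ := by
  intro hp
  haveI := finite_J2
  have h : IsPGroup 2 (alternatingGroup (Fin 5)) := (hp.to_quotient QJ).of_equiv quotEquiv
  haveI : Fact (Nat.Prime 2) := ⟨Nat.prime_two⟩
  obtain ⟨n, hn⟩ := IsPGroup.iff_card.1 h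
  rw [show Nat.card (alternatingGroup (Fin 5)) = 60 by rw [Nat.card_eq_fintype_card]; decide +kernel] at hn
  have : 3 ∣ 2 ^ n := hn ▸ (by norm_num)
  exact absurd (Nat.Prime.dvd_of_dvd_pow (by norm_num) this) (by norm_num)

end Cfsg.Agent.IcoLeech
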