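import Cfsg.Agent.Lib.IcoLeech.PermCheck
import Cfsg.Agent.Lib.IcoLeech.OutData

/-!
Computations for the automorphisms of `J2`.
-/

set_option autoImplicit false
set_option maxRecDepth 100000
set_option maxHeartbeats 4000000
set_option Elab.async false

namespace Cfsg.Agent.IcoLeech

/-- The word of the reflection at a point. -/
def xword (j : ℕ) : List ℕ := tword j ++ [0] ++ (tword j).reverse

/-- A word in reflections at given points. -/
def lword (im w : List ℕ) : List ℕ := w.flatMap fun l => xword (im.getD l 0)

/-- The check that a power of a word is trivial. -/
def powOK (u : List ℕ) (n : ℕ) : Bool :=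
  (wact u)^[n] 0 == 0 && (wact u)^[n] 2 == 2 && (wact u)^[n] 8 == 8

/-- The check that two words agree on the base. -/
def baseEq (u v : List ℕ) : Bool := wact u 0 == wact v 0 && wact u 2 == wact v 2 && wact u 8 == wact v 8

/-- The check of one stabiliser element for squares of order four. -/
def sqOne (i : ℕ) : Bool :=
  let u := cword i
  let p0 := cact i (cact i 0); let p2 := cact i (cact i 2); let p8 := cact i (cact i 8)
  let q0 := cact i (cact i p0); let q2 := cact i (cact i p2); let q8 := cact i (cact i p8)
  if q0 == 0 && q2 == 2 && q8 == 8 && !(p0 == 0 && p2 == 2 && p8 == 8) then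
    decide (pget OutData.sqt 9 i < 315) && baseEq (u ++ u) (xword (pget OutData.sqt 9 i))
  else true

/-- The check of the squares. -/
def sqOK : Bool := (List.range 1920).all sqOne

/-- The check of the witness. -/
def w4OK : Bool :=
  decide (OutData.w4 < 1920) && baseEq (cword OutData.w4 ++ cword OutData.w4) [0] &&
    powOK (cword OutData.w4) 4 && !powOK (cword OutData.w4) 2

/-- The check of the second point. -/
def bOK : Bool :=
  powOK (lword [0, 2] [0, 1]) OutData.oab && (List.range 315).all fun x =>
    x == 0 || !powOK (lword [0, x] [0, 1]) OutData.oab ||
      decide (pget OutData.bto 11 x < 1920) && cact (pget OutData.bto 11 x) 2 == x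

/-- The check of the third point. -/
def cOK : Bool :=
  (OutData.rc.all fun p => powOK (lword [0, 2, 32] p.1) p.2) && (List.range 315).all fun x =>
    !(OutData.rc.all fun p => powOK (lword [0, 2, x] p.1) p.2) ||
      decide (pget OutData.cto 11 x < 1920) && cact (pget OutData.cto 11 x) 2 == 2 &&
        cact (pget OutData.cto 11 x) 32 == x

/-- The check of the fourth point. -/
def dOK : Bool :=
  (OutData.rd.all fun p => powOK (lword [0, 2, 32, 6] p.1) p.2) && (List.range 315).all fun x =>
    !(OutData.rd.all fun p => powOK (lword [0, 2, 32, x] p.1) p.2) || x == 6 || x == 7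

/-- The check of the generators. -/
def gwOK : Bool :=
  (List.range 6).all fun k => baseEq [k] (lword [0, 2, 32, 6] (OutData.gw.getD k []))

/-- The image of a point by the outer permutation. -/
def piF (j : ℕ) : ℕ := pget OutData.pi 9 j

/-- The check of the outer permutation. -/
def piOK : Bool :=
  ((List.range 315).all fun j => decide (piF j < 315) && decide (pget OutData.piInv 9 j < 315) &&
    pget OutData.piInv 9 (piF j) == j && piF (pget OutData.piInv 9 j) == j) &&
    piF 0 == 0 && piF 2 == 2 && piF 32 == 32 && piF 6 == 7

/-- The check that the outer permutation normalises. -/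
def conjOK : Bool :=
  ((List.range 6).all fun k => decide (OutData.gidx.getD k 0 < 315) && baseEq [k] (xword (OutData.gidx.getD k 0))) &&
    ([0, 2, 32, 6] ++ OutData.gidx).all fun p => (List.range 315).all fun i =>
      piF (wact (xword p) i) == wact (xword (piF p)) (piF i)

/-- The check that the outer permutation is not in the group. -/
def outerOK : Bool := (List.range 1920).all fun i => cact i 2 != piF 2 || cact i 32 != piF 32 || cact i 6 != piF 6

theorem sq_ok : sqOK = true := by decide +kernel

theorem w4_ok : w4OK = true := by decide +kernel

theorem b_ok : bOK = true := by decide +kernel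

theorem c_ok : cOK = true := by decide +kernel

theorem d_ok : dOK = true := by decide +kernel

theorem gw_ok : gwOK = true := by decide +kernel

theorem pi_ok : piOK = true := by decide +kernel

theorem conj_ok : conjOK = true := by decide +kernel

theorem outer_ok : outerOK = true := by decide +kernel

end Cfsg.Agent.IcoLeech
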