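import Cfsg.Agent.Lib.IcoLeech.Perm
import Cfsg.Agent.Lib.IcoLeech.OutCheck
import Cfsg.Prelude.Def_KGroupFacts

/-!
The outer automorphism group of `J2` has order two.
-/

set_option autoImplicit false
set_option maxRecDepth 100000
set_option maxHeartbeats 4000000

namespace Cfsg.Agent.IcoLeech

open Cfsg.Spor

theorem wJ_reverse (w : List ℕ) : wJ w.reverse = (wJ w)⁻¹ := by
  rw [wJ, wel_reverse, map_inv]; rfl

theorem zJ_eq : zJ = wJ [0] := by simp [zJ, wJ, wel, f0]

/-- The involution of a point. -/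
noncomputable def xJ (j : ℕ) : J2 := wJ (xword j)

theorem xJ_eq (j : ℕ) : xJ j = wJ (tword j) * zJ * (wJ (tword j))⁻¹ := by
  rw [xJ, xword, wJ_append, wJ_append, wJ_reverse, ← zJ_eq]

theorem xJ_zero : xJ 0 = zJ := by rw [xJ_eq, tword_zero, wJ_nil, one_mul, inv_one, mul_one]

theorem xJ_conj {g : J2} {i j : ℕ} (h : g • cset i = cset j) : g * xJ i * g⁻¹ = xJ j := by
  have h' : (QuotientGroup.mk (g * wJ (tword i)) : J2 ⧸ CJ) = QuotientGroup.mk (wJ (tword j)) := h
  have hc := Subgroup.mem_centralizer_singleton_iff.1 (QuotientGroup.eq.1 h'.symm)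
  rw [xJ_eq, xJ_eq]
  calc g * (wJ (tword i) * zJ * (wJ (tword i))⁻¹) * g⁻¹
      = wJ (tword j) * ((wJ (tword j))⁻¹ * (g * wJ (tword i)) * zJ) * (g * wJ (tword i))⁻¹ := by group
    _ = wJ (tword j) * (zJ * ((wJ (tword j))⁻¹ * (g * wJ (tword i)))) * (g * wJ (tword i))⁻¹ := by rw [hc]
    _ = wJ (tword j) * zJ * (wJ (tword j))⁻¹ := by group

theorem xJ_injective {i j : ℕ} (hi : i < 315) (hj : j < 315) (h : xJ i = xJ j) : i = j := by
  refine cset_injective hi hj (QuotientGroup.eq.2 ?_)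
  rw [Subgroup.mem_centralizer_singleton_iff]
  rw [xJ_eq, xJ_eq] at h
  calc (wJ (tword i))⁻¹ * wJ (tword j) * zJ
      = (wJ (tword i))⁻¹ * (wJ (tword j) * zJ * (wJ (tword j))⁻¹) * wJ (tword j) := by group
    _ = (wJ (tword i))⁻¹ * (wJ (tword i) * zJ * (wJ (tword i))⁻¹) * wJ (tword j) := by rw [h]
    _ = zJ * ((wJ (tword i))⁻¹ * wJ (tword j)) := by group

theorem eq_of_baseEq {u v : List ℕ} (h : baseEq u v = true) : wJ u = wJ v := by
  simp only [baseEq, Bool.and_eq_true, beq_iff_eq] at h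
  refine (inv_mul_eq_one.1 (eq_one_of_base ?_ ?_ ?_)).symm <;>
    rw [mul_smul, inv_smul_eq_iff, smul_cset _ (by norm_num), smul_cset _ (by norm_num)]
  · rw [h.1.1]
  · rw [h.1.2]
  · rw [h.2]

theorem pow_smul_wact (u : List ℕ) : ∀ (n : ℕ) {j : ℕ}, j < 315 →
    (wact u)^[n] j < 315 ∧ wJ u ^ n • cset j = cset ((wact u)^[n] j)
  | 0, j, hj => ⟨hj, by rw [pow_zero, one_smul]; rfl⟩
  | n + 1, j, hj => by
    obtain ⟨h1, h2⟩ := pow_smul_wact u n hj
    rw [Function.iterate_succ_apply', pow_succ', mul_smul, h2, smul_cset _ h1]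
    exact ⟨wact_lt _ h1, rfl⟩

theorem powOK_iff {u : List ℕ} {n : ℕ} : powOK u n = true ↔ wJ u ^ n = 1 := by
  simp only [powOK, Bool.and_eq_true, beq_iff_eq]
  constructor
  · rintro ⟨⟨h0, h2⟩, h8⟩
    refine eq_one_of_base ?_ ?_ ?_
    · rw [(pow_smul_wact u n (by norm_num)).2, h0]
    · rw [(pow_smul_wact u n (by norm_num)).2, h2]
    · rw [(pow_smul_wact u n (by norm_num)).2, h8]
  · intro h
    have key : ∀ {x : ℕ}, x < 315 → (wact u)^[n] x = x := fun {x} hx => by
      obtain ⟨h1, h2⟩ := pow_smul_wact u n hx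
      rw [h, one_smul] at h2
      exact (cset_injective hx h1 h2).symm
    exact ⟨⟨key (by norm_num), key (by norm_num)⟩, key (by norm_num)⟩

theorem exists_word (g : J2) : ∃ w, wJ w = g := by
  obtain ⟨j, hj⟩ := cset_surjective (g • cset 0)
  have h : (wJ (tword j.1))⁻¹ * g ∈ CJ := mem_CJ_iff.2 (by
    rw [mul_smul, ← hj, inv_smul_eq_iff, smul_cset _ (by norm_num), tword_act j.2])
  obtain ⟨i, -, hi⟩ := exists_cword h
  exact ⟨tword j.1 ++ cword i, by rw [wJ_append, hi, mul_inv_cancel_left]⟩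

theorem wJ_lword (φ : J2 →* J2) (im im' : List ℕ) :
    ∀ w : List ℕ, (∀ l ∈ w, φ (xJ (im.getD l 0)) = xJ (im'.getD l 0)) → φ (wJ (lword im w)) = wJ (lword im' w)
  | [], _ => by simp [lword, wJ_nil]
  | l :: w, h => by
    show φ (wJ (xword _ ++ lword im w)) = wJ (xword _ ++ lword im' w)
    rw [wJ_append, wJ_append, map_mul, wJ_lword φ im im' w fun a ha => h a (List.mem_cons_of_mem _ ha)]
    exact congrArg (· * _) (h l List.mem_cons_self)

theorem pow_of_im (φ : J2 →* J2) {im im' w : List ℕ} {n : ℕ} (h : powOK (lword im w) n = true)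
    (hl : ∀ l ∈ w, φ (xJ (im.getD l 0)) = xJ (im'.getD l 0)) : powOK (lword im' w) n = true := by
  rw [powOK_iff] at h ⊢
  rw [← wJ_lword φ im im' w hl, ← map_pow, h, map_one]

theorem square_class {y : J2} (hy : orderOf y = 4) : ∃ j < 315, y ^ 2 = xJ j := by
  haveI := finite_J2
  haveI : Fact (Nat.Prime 2) := ⟨Nat.prime_two⟩
  obtain ⟨P⟩ : Nonempty (Sylow 2 CJ) := inferInstance
  have hi : ¬ 2 ∣ ((P : Subgroup CJ).map CJ.subtype).index := by
    rw [Subgroup.index_map_subtype]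
    exact Nat.Prime.not_dvd_mul Nat.prime_two P.not_dvd_index (by rw [index_CJ]; norm_num)
  let PS : Sylow 2 J2 := (P.2.map CJ.subtype).toSylow hi
  have hp : IsPGroup 2 (Subgroup.zpowers y) := IsPGroup.of_card (n := 2) (by rw [Nat.card_zpowers, hy]; norm_num)
  obtain ⟨S, hS⟩ := hp.exists_le_sylow
  obtain ⟨c, hc⟩ := MulAction.exists_smul_eq J2 S PS
  have hmem : c * y * c⁻¹ ∈ CJ := by
    have : c * y * c⁻¹ ∈ ((c • S : Sylow 2 J2) : Subgroup J2) :=
      Subgroup.smul_mem_pointwise_smul y (MulAut.conj c) (S : Subgroup J2) (hS (Subgroup.mem_zpowers y))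
    rw [hc] at this
    obtain ⟨v, -, hv⟩ := this
    rw [← hv]
    exact v.2
  obtain ⟨i, hi', ei⟩ := exists_cword hmem
  have ho : orderOf (wJ (cword i)) = 4 := by
    rw [ei, ← hy]
    exact orderOf_injective (MulAut.conj c).toMonoidHom (MulAut.conj c).injective y
  have h := List.all_eq_true.1 sq_ok i (List.mem_range.2 hi')
  have hlt : ∀ {x}, x < 315 → cact i x < 315 := fun {x} hx => cact_eq hi' hx ▸ wact_lt _ hx
  have it2 : ∀ {x}, x < 315 → (wact (cword i))^[2] x = cact i (cact i x) := fun {x} hx => by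
    show wact (cword i) (wact (cword i) x) = _
    rw [cact_eq hi' hx, cact_eq hi' (hlt hx)]
  have it4 : ∀ {x}, x < 315 → (wact (cword i))^[4] x = cact i (cact i (cact i (cact i x))) := fun {x} hx => by
    show (wact (cword i))^[2] ((wact (cword i))^[2] x) = _
    rw [it2 hx, it2 (hlt (hlt hx))]
  have h4 : powOK (cword i) 4 = true := powOK_iff.2 (by rw [← ho]; exact pow_orderOf_eq_one _)
  have h2 : powOK (cword i) 2 = false := Bool.eq_false_iff.2 fun e => by
    have := orderOf_dvd_of_pow_eq_one (powOK_iff.1 e)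
    rw [ho] at this
    norm_num at this
  simp only [powOK] at h4 h2
  rw [it4 (by norm_num), it4 (by norm_num), it4 (by norm_num)] at h4
  rw [it2 (by norm_num), it2 (by norm_num), it2 (by norm_num)] at h2
  simp only [sqOne, h4, h2, Bool.not_false, Bool.and_self, if_true, Bool.and_eq_true, decide_eq_true_eq] at h
  obtain ⟨hs, he⟩ := h
  have e2 := eq_of_baseEq he
  rw [wJ_append, ← pow_two, ei, conj_pow] at e2
  obtain ⟨j, hj⟩ := cset_surjective (c⁻¹ • cset (pget OutData.sqt 9 i))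
  refine ⟨j, j.2, ?_⟩
  rw [← xJ_conj hj.symm, show xJ (pget OutData.sqt 9 i) = wJ (xword (pget OutData.sqt 9 i)) from rfl, ← e2]
  group

theorem exists_image (φ : MulAut J2) (p : ℕ) : ∃ j < 315, φ (xJ p) = xJ j := by
  have h := w4_ok
  simp only [w4OK, Bool.and_eq_true, decide_eq_true_eq, Bool.not_eq_true'] at h
  obtain ⟨⟨⟨-, e⟩, h4⟩, h2⟩ := h
  have he := eq_of_baseEq e
  rw [wJ_append, ← pow_two, ← zJ_eq] at he
  have ho : orderOf (wJ (cword OutData.w4)) = 4 := by
    haveI : Fact (Nat.Prime 2) := ⟨Nat.prime_two⟩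
    exact orderOf_eq_prime_pow (p := 2) (n := 1)
      (fun e' => by rw [powOK_iff.2 (by simpa using e')] at h2; exact Bool.noConfusion h2)
      (by simpa using powOK_iff.1 h4)
  have hq : orderOf (φ (wJ (cword OutData.w4))) = 4 := by rw [MulEquiv.orderOf_eq, ho]
  obtain ⟨j, hj, ej⟩ := square_class hq
  rw [← map_pow, he] at ej
  obtain ⟨k, hk⟩ := cset_surjective (φ (wJ (tword p)) • cset j)
  refine ⟨k, k.2, ?_⟩
  rw [← xJ_conj hk.symm, ← ej, xJ_eq, map_mul, map_mul, map_inv]

/-! ### The outer automorphism -/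

theorem piF_facts {j : ℕ} (hj : j < 315) : piF j < 315 ∧ pget OutData.piInv 9 j < 315 ∧
    pget OutData.piInv 9 (piF j) = j ∧ piF (pget OutData.piInv 9 j) = j := by
  have h := pi_ok
  simp only [piOK, Bool.and_eq_true, List.all_eq_true, List.mem_range, decide_eq_true_eq, beq_iff_eq] at h
  obtain ⟨⟨⟨⟨hall, -⟩, -⟩, -⟩, -⟩ := h
  exact ⟨(hall j hj).1.1.1, (hall j hj).1.1.2, (hall j hj).1.2, (hall j hj).2⟩

/-- The points as cosets. -/
noncomputable def cEquiv : Fin 315 ≃ J2 ⧸ CJ :=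
  Equiv.ofBijective (fun j => cset j.1)
    ⟨fun i j h => Fin.ext (cset_injective i.2 j.2 h), cset_surjective⟩

/-- The permutation representation. -/
noncomputable def rho : J2 →* Equiv.Perm (Fin 315) :=
  (cEquiv.symm.permCongrHom.toMonoidHom).comp (MulAction.toPermHom J2 (J2 ⧸ CJ))

theorem rho_apply (w : List ℕ) (i : Fin 315) : (rho (wJ w) i : ℕ) = wact w i.1 := by
  show ((cEquiv.symm (wJ w • cEquiv i) : Fin 315) : ℕ) = _
  have : wJ w • cEquiv i = cEquiv ⟨wact w i.1, wact_lt w i.2⟩ := smul_cset w i.2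
  rw [this, Equiv.symm_apply_apply]

theorem rho_injective : Function.Injective rho := by
  rw [injective_iff_map_eq_one]
  intro g hg
  obtain ⟨w, rfl⟩ := exists_word g
  have key : ∀ {j}, j < 315 → wJ w • cset j = cset j := fun {j} hj => by
    rw [smul_cset w hj, ← rho_apply w ⟨j, hj⟩, hg]
    rfl
  exact eq_one_of_base (key (by norm_num)) (key (by norm_num)) (key (by norm_num))

/-- The outer permutation. -/
def piPerm : Equiv.Perm (Fin 315) where
  toFun i := ⟨piF i.1, (piF_facts i.2).1⟩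
  invFun i := ⟨pget OutData.piInv 9 i.1, (piF_facts i.2).2.1⟩
  left_inv i := Fin.ext (piF_facts i.2).2.2.1
  right_inv i := Fin.ext (piF_facts i.2).2.2.2

theorem conj_facts : (∀ k, k < 6 → OutData.gidx.getD k 0 < 315 ∧ wJ [k] = xJ (OutData.gidx.getD k 0)) ∧
    ∀ p ∈ [0, 2, 32, 6] ++ OutData.gidx, piPerm * rho (xJ p) * piPerm⁻¹ = rho (xJ (piF p)) := by
  have h := conj_ok
  simp only [conjOK, Bool.and_eq_true, List.all_eq_true, List.mem_range, decide_eq_true_eq, beq_iff_eq] at h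
  refine ⟨fun k hk => ⟨(h.1 k hk).1, eq_of_baseEq (h.1 k hk).2⟩, fun p hp => ?_⟩
  rw [mul_inv_eq_iff_eq_mul]
  refine Equiv.ext fun i => Fin.ext ?_
  show piF (rho (wJ (xword p)) i).1 = (rho (wJ (xword (piF p))) (piPerm i) : ℕ)
  rw [rho_apply, rho_apply]
  exact h.2 p hp i.1 i.2

theorem gperm_min (k : ℕ) : wJ [k] = wJ [min k 5] := by
  refine eq_of_baseEq ?_
  simp [baseEq, wact, gperm']

theorem conj_mem_range (g : J2) : piPerm * rho g * piPerm⁻¹ ∈ rho.range := by
  obtain ⟨w, rfl⟩ := exists_word g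
  induction w with
  | nil => rw [wJ_nil, map_one, mul_one, mul_inv_cancel]; exact one_mem _
  | cons k w ih =>
    obtain ⟨hk, ek⟩ := conj_facts.1 (min k 5) (by omega)
    have hp : OutData.gidx.getD (min k 5) 0 ∈ [0, 2, 32, 6] ++ OutData.gidx := by
      refine List.mem_append_right _ ?_
      have hlen : OutData.gidx.length = 6 := rfl
      rw [List.getD_eq_getElem _ _ (by omega)]
      exact List.getElem_mem _
    rw [show wJ (k :: w) = wJ [k] * wJ w from wJ_append [k] w, gperm_min, ek, map_mul,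
      show piPerm * (rho (xJ (OutData.gidx.getD (min k 5) 0)) * rho (wJ w)) * piPerm⁻¹ =
        (piPerm * rho (xJ (OutData.gidx.getD (min k 5) 0)) * piPerm⁻¹) * (piPerm * rho (wJ w) * piPerm⁻¹) by group,
      conj_facts.2 _ hp]
    exact mul_mem ⟨_, rfl⟩ ih

/-- The representation onto its image. -/
noncomputable def rhoEquiv : J2 ≃* rho.range := MonoidHom.ofInjective rho_injective

theorem rhoEquiv_apply (g : J2) : (rhoEquiv g : Equiv.Perm (Fin 315)) = rho g := rfl

/-- The conjugation by the outer permutation. -/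
noncomputable def alphaHom : J2 →* J2 :=
  rhoEquiv.symm.toMonoidHom.comp
    (((MulAut.conj piPerm).toMonoidHom.comp rho).codRestrict rho.range fun g => conj_mem_range g)

theorem rho_alphaHom (g : J2) : rho (alphaHom g) = piPerm * rho g * piPerm⁻¹ := by
  rw [← rhoEquiv_apply, alphaHom, MonoidHom.comp_apply]
  show ((rhoEquiv (rhoEquiv.symm _) : rho.range) : Equiv.Perm (Fin 315)) = _
  rw [MulEquiv.apply_symm_apply]
  rfl

theorem alphaHom_bijective : Function.Bijective alphaHom := by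
  haveI := finite_J2
  refine Finite.injective_iff_bijective.1 fun g h e => rho_injective ?_
  have := congrArg rho e
  rw [rho_alphaHom, rho_alphaHom] at this
  exact mul_left_cancel (mul_right_cancel this)

/-- The outer automorphism. -/
noncomputable def alpha : MulAut J2 := MulEquiv.ofBijective alphaHom alphaHom_bijective

theorem alpha_xJ {p : ℕ} (hp : p ∈ [0, 2, 32, 6] ++ OutData.gidx) : alpha (xJ p) = xJ (piF p) :=
  rho_injective ((rho_alphaHom _).trans (conj_facts.2 p hp))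

theorem alpha_not_inner : alpha ∉ Cfsg.Inn J2 := by
  rintro ⟨g, hg⟩
  have hh : ∀ x, g * x * g⁻¹ = alpha x := fun x => DFunLike.congr_fun hg x
  have h := pi_ok
  simp only [piOK, Bool.and_eq_true, beq_iff_eq] at h
  obtain ⟨⟨⟨⟨-, e0⟩, e2⟩, e32⟩, e6⟩ := h
  have hfix : ∀ {p}, p ∈ [0, 2, 32, 6] ++ OutData.gidx → p < 315 → g • cset p = cset (piF p) := by
    intro p hp hlt
    obtain ⟨k, hk⟩ := cset_surjective (g • cset p)
    rw [← hk, ← xJ_injective (piF_facts hlt).1 k.2 (by rw [← alpha_xJ hp, ← hh, xJ_conj hk.symm])]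
  have g0 := hfix (p := 0) (by simp) (by norm_num)
  rw [e0] at g0
  obtain ⟨i, hi, rfl⟩ := exists_cword (mem_CJ_iff.2 g0)
  have key : ∀ {p q}, p < 315 → q < 315 → wJ (cword i) • cset p = cset q → cact i p = q := fun {p q} hp hq e => by
    rw [smul_cset _ hp, cact_eq hi hp] at e
    exact cset_injective (cact_eq hi hp ▸ wact_lt _ hp) hq e
  have k2 := key (by norm_num) (piF_facts (by norm_num)).1 (hfix (p := 2) (by simp) (by norm_num))
  have k6 := key (by norm_num) (piF_facts (by norm_num)).1 (hfix (p := 6) (by simp) (by norm_num))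
  have k32 := key (by norm_num) (piF_facts (by norm_num)).1 (hfix (p := 32) (by simp) (by norm_num))
  have ho := List.all_eq_true.1 outer_ok i (List.mem_range.2 hi)
  simp only [Bool.or_eq_true, bne_iff_ne] at ho
  rcases ho with (ho | ho) | ho
  · exact ho k2
  · exact ho k32
  · exact ho k6

theorem ext_four {φ ψ : J2 →* J2} (h : ∀ l < 4, φ (xJ ([0, 2, 32, 6].getD l 0)) = ψ (xJ ([0, 2, 32, 6].getD l 0))) :
    φ = ψ := by
  refine MonoidHom.ext fun g => ?_
  obtain ⟨w, rfl⟩ := exists_word g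
  induction w with
  | nil => rw [wJ_nil, map_one, map_one]
  | cons k w ih =>
    rw [show wJ (k :: w) = wJ [k] * wJ w from wJ_append [k] w, map_mul, map_mul, ih, gperm_min]
    congr 1
    have hg := List.all_eq_true.1 gw_ok (min k 5) (List.mem_range.2 (by omega))
    rw [eq_of_baseEq hg]
    generalize hu : OutData.gw.getD (min k 5) [] = u
    have hl : ∀ l ∈ u, l < 4 := by
      have : ∀ a : Fin 6, ∀ l ∈ OutData.gw.getD a.1 [], l < 4 := by decide +kernel
      exact hu ▸ this ⟨min k 5, by omega⟩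
    clear hu hg
    induction u with
    | nil => simp [lword, wJ_nil]
    | cons l u ihu =>
      show φ (wJ (xword _ ++ lword _ u)) = ψ (wJ (xword _ ++ lword _ u))
      rw [wJ_append, map_mul, map_mul, ihu fun a ha => hl a (List.mem_cons_of_mem _ ha)]
      exact congrArg (· * _) (h l (hl l List.mem_cons_self))

theorem outer_cases (φ : MulAut J2) : φ ∈ Cfsg.Inn J2 ∨ alpha⁻¹ * φ ∈ Cfsg.Inn J2 := by
  -- normalise the first point
  obtain ⟨j0, hj0, e0⟩ := exists_image φ 0
  set φ1 : MulAut J2 := MulAut.conj (wJ (tword j0))⁻¹ * φ with h1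
  have f1 : φ1 (xJ 0) = xJ 0 := by
    show (wJ (tword j0))⁻¹ * φ (xJ 0) * ((wJ (tword j0))⁻¹)⁻¹ = _
    refine e0 ▸ xJ_conj ?_
    rw [inv_smul_eq_iff, smul_cset _ (by norm_num), tword_act hj0]
  -- the second point
  obtain ⟨b, hb, eb⟩ := exists_image φ1 2
  have hb0 : b ≠ 0 := fun e => by
    rw [e, ← f1] at eb
    exact absurd (xJ_injective (by norm_num) (by norm_num) (φ1.injective eb)) (by norm_num)
  have hbok := b_ok
  simp only [bOK, Bool.and_eq_true, List.all_eq_true, List.mem_range, Bool.or_eq_true, beq_iff_eq,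
    Bool.not_eq_true', decide_eq_true_eq] at hbok
  obtain ⟨hbi, hbc⟩ := ((hbok.2 b hb).resolve_left fun h => by
    rcases h with h | h
    · exact hb0 h
    · have := pow_of_im φ1.toMonoidHom (im' := [0, b]) hbok.1 (by
        intro l hl
        simp only [List.mem_cons, List.not_mem_nil, or_false] at hl
        rcases hl with rfl | rfl
        exacts [f1, eb])
      rw [h] at this
      exact Bool.noConfusion this)
  set cb := wJ (cword (pget OutData.bto 11 b)) with hcb
  set φ2 : MulAut J2 := MulAut.conj cb⁻¹ * φ1 with h2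
  have hcb0 : cb • cset 0 = cset 0 := mem_CJ_iff.1 (cel ⟨_, hbi⟩).2
  have g0 : φ2 (xJ 0) = xJ 0 := by
    show cb⁻¹ * φ1 (xJ 0) * cb⁻¹⁻¹ = _
    rw [f1]
    exact xJ_conj (by rw [inv_smul_eq_iff, hcb0])
  have g2 : φ2 (xJ 2) = xJ 2 := by
    show cb⁻¹ * φ1 (xJ 2) * cb⁻¹⁻¹ = _
    rw [eb]
    exact xJ_conj (by rw [inv_smul_eq_iff, hcb, smul_cset _ (by norm_num), cact_eq hbi (by norm_num), hbc])
  -- the third point
  obtain ⟨c, hc, ec⟩ := exists_image φ2 32
  have hcok := c_ok
  simp only [cOK, Bool.and_eq_true, List.all_eq_true, List.mem_range, Bool.or_eq_true, beq_iff_eq,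
    Bool.not_eq_true', decide_eq_true_eq] at hcok
  obtain ⟨⟨hci, hc2⟩, hc32⟩ := ((hcok.2 c hc).resolve_left fun h => by
    have hsmall : ∀ p ∈ OutData.rc, ∀ l ∈ p.1, l < 3 := by decide +kernel
    have := (List.all_eq_true (p := fun p => powOK (lword [0, 2, c] p.1) p.2)).2 fun p hp =>
      pow_of_im φ2.toMonoidHom (im' := [0, 2, c]) (hcok.1 p hp) (by
        intro l hl
        have := hsmall p hp l hl
        interval_cases l
        exacts [g0, g2, ec])
    rw [h] at this
    exact Bool.noConfusion this)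
  set cc := wJ (cword (pget OutData.cto 11 c)) with hcc
  set φ3 : MulAut J2 := MulAut.conj cc⁻¹ * φ2 with h3
  have hcc0 : cc • cset 0 = cset 0 := mem_CJ_iff.1 (cel ⟨_, hci⟩).2
  have k0 : φ3 (xJ 0) = xJ 0 := by
    show cc⁻¹ * φ2 (xJ 0) * cc⁻¹⁻¹ = _
    rw [g0]
    exact xJ_conj (by rw [inv_smul_eq_iff, hcc0])
  have k2 : φ3 (xJ 2) = xJ 2 := by
    show cc⁻¹ * φ2 (xJ 2) * cc⁻¹⁻¹ = _
    rw [g2]
    exact xJ_conj (by rw [inv_smul_eq_iff, hcc, smul_cset _ (by norm_num), cact_eq hci (by norm_num), hc2])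
  have k32 : φ3 (xJ 32) = xJ 32 := by
    show cc⁻¹ * φ2 (xJ 32) * cc⁻¹⁻¹ = _
    rw [ec]
    exact xJ_conj (by rw [inv_smul_eq_iff, hcc, smul_cset _ (by norm_num), cact_eq hci (by norm_num), hc32])
  -- the fourth point
  obtain ⟨d, hd, ed⟩ := exists_image φ3 6
  have hdok := d_ok
  simp only [dOK, Bool.and_eq_true, List.all_eq_true, List.mem_range, Bool.or_eq_true, beq_iff_eq,
    Bool.not_eq_true'] at hdok
  have hd67 : d = 6 ∨ d = 7 := by
    rcases hdok.2 d hd with (h | h) | h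
    · exfalso
      have hsmall : ∀ p ∈ OutData.rd, ∀ l ∈ p.1, l < 4 := by decide +kernel
      have := (List.all_eq_true (p := fun p => powOK (lword [0, 2, 32, d] p.1) p.2)).2 fun p hp =>
        pow_of_im φ3.toMonoidHom (im' := [0, 2, 32, d]) (hdok.1 p hp) (by
          intro l hl
          have := hsmall p hp l hl
          interval_cases l
          exacts [k0, k2, k32, ed])
      rw [h] at this
      exact Bool.noConfusion this
    · exact Or.inl h
    · exact Or.inr h
  have h3φ : ∃ a : J2, φ3 = MulAut.conj a * φ := ⟨cc⁻¹ * cb⁻¹ * (wJ (tword j0))⁻¹, by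
    rw [h3, h2, h1, map_mul, map_mul, mul_assoc, mul_assoc]⟩
  obtain ⟨a, ha⟩ := h3φ
  have hpi := pi_ok
  simp only [piOK, Bool.and_eq_true, beq_iff_eq] at hpi
  obtain ⟨⟨⟨⟨-, p0⟩, p2⟩, p32⟩, p6⟩ := hpi
  rcases hd67 with rfl | rfl
  · left
    have : φ3 = 1 := MulEquiv.toMonoidHom_injective (ext_four (φ := φ3.toMonoidHom) (ψ := MonoidHom.id J2) fun l hl => by
      interval_cases l
      exacts [k0, k2, k32, ed])
    refine ⟨a⁻¹, ?_⟩
    rw [map_inv, inv_eq_iff_mul_eq_one, ← ha, this]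
  · right
    have hφ3 : φ3 = alpha := MulEquiv.toMonoidHom_injective (ext_four (φ := φ3.toMonoidHom) (ψ := alpha.toMonoidHom)
      fun l hl => by
        interval_cases l
        · exact k0.trans (by rw [← p0]; exact (alpha_xJ (by simp)).symm.trans (by rw [p0]; rfl))
        · exact k2.trans (by rw [← p2]; exact (alpha_xJ (by simp)).symm.trans (by rw [p2]; rfl))
        · exact k32.trans (by rw [← p32]; exact (alpha_xJ (by simp)).symm.trans (by rw [p32]; rfl))
        · exact ed.trans (by rw [← p6]; exact (alpha_xJ (by simp)).symm))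
    refine ⟨alpha⁻¹ a⁻¹, ?_⟩
    have hφ : φ = MulAut.conj a⁻¹ * alpha := by
      rw [map_inv, ← hφ3, ha, inv_mul_cancel_left]
    rw [hφ]
    refine MulEquiv.ext fun x => ?_
    show alpha⁻¹ a⁻¹ * x * (alpha⁻¹ a⁻¹)⁻¹ = alpha⁻¹ (a⁻¹ * alpha x * a⁻¹⁻¹)
    simp only [map_mul, map_inv, MulAut.inv_apply_self, inv_inv]

/-- The outer automorphism group. -/
theorem card_Out : Nat.card (Cfsg.Out J2) = 2 := by
  rw [Nat.card_eq_two_iff' (1 : Cfsg.Out J2)]
  refine ⟨QuotientGroup.mk alpha, fun h => alpha_not_inner ((QuotientGroup.eq_one_iff _).1 h), fun q hq => ?_⟩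
  obtain ⟨φ, rfl⟩ := QuotientGroup.mk_surjective q
  refine ((outer_cases φ).resolve_left fun h => hq ((QuotientGroup.eq_one_iff _).2 h)) |> fun h => ?_
  exact (QuotientGroup.eq.2 h).symm

end Cfsg.Agent.IcoLeech
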