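import Mathlib.Init

/-!
Tables for the centraliser of a reflection in the icosian lattice group.
-/

set_option autoImplicit false
set_option maxRecDepth 20000

namespace Cfsg.Agent.IcoLeech.Data

/-- The action of the units on the five ideals. -/
def sigTab : List (List Nat) := [[0, 1, 2, 3, 4], [0, 2, 4, 3, 1], [0, 2, 3, 1, 4], [0, 1, 4, 2, 3], [0, 4, 2, 1, 3], [2, 1, 4, 3, 0], [3, 0, 2, 1, 4], [1, 2, 0, 3, 4], [4, 1, 2, 0, 3], [4, 0, 2, 3, 1], [2, 1, 3, 0, 4], [3, 1, 0, 2, 4], [1, 4, 2, 3, 0], [3, 1, 2, 4, 0], [2, 0, 1, 3, 4], [1, 3, 2, 0, 4], [4, 1, 0, 3, 2], [0, 3, 2, 4, 1], [0, 1, 3, 4, 2], [0, 3, 1, 2, 4], [0, 4, 1, 3, 2], [4, 2, 3, 0, 1], [1, 4, 0, 2, 3], [1, 2, 4, 0, 3], [4, 2, 0, 1, 3], [2, 3, 4, 0, 1], [4, 0, 3, 1, 2], [1, 3, 4, 2, 0], [3, 4, 0, 1, 2], [2, 3, 1,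 4, 0], [3, 0, 1, 4, 2], [2, 0, 3, 4, 1], [3, 4, 1, 2, 0], [3, 0, 4, 2, 1], [2, 4, 3, 1, 0], [3, 2, 4, 1, 0], [2, 0, 4, 1, 3], [3, 2, 0, 4, 1], [1, 2, 3, 4, 0], [4, 0, 1, 2, 3], [2, 4, 1, 0, 3], [1, 3, 0, 4, 2], [4, 3, 1, 0, 2], [4, 3, 0, 2, 1], [1, 4, 3, 0, 2], [0, 4, 3, 2, 1], [2, 4, 0, 3, 1], [1, 0, 3, 2, 4], [4, 1, 3, 2, 0], [3, 4, 2, 0, 1], [4, 2, 1, 3, 0], [3, 2, 1, 0, 4], [2, 1, 0, 4, 3], [1, 0, 2, 4, 3], [1, 0, 4, 3, 2], [2, 3, 0, 1, 4], [3, 1, 4, 0, 2], [4, 3, 2, 1, 0], [0, 3, 4, 1, 2], [0, 2, 1, 4, 3], [0, 2, 1, 4, 3], [0, 3, 4, 1, 2], [4, 3, 2, 1, 0], [3, 1, 4, 0, 2], [2, 3, 0, 1, 4], [1, 0, 4, 3, 2], [1, 0, 2, 4, 3], [2, 1, 0, 4, 3], [3, 2, 1, 0, 4], [4, 2, 1, 3, 0], [3, 4, 2, 0, 1], [4, 1, 3, 2, 0], [1, 0, 3, 2, 4], [2, 4, 0, 3, 1], [0, 4, 3, 2, 1], [1, 4, 3, 0,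 2], [4, 3, 0, 2, 1], [4, 3, 1, 0, 2], [1, 3, 0, 4, 2], [2, 4, 1, 0, 3], [4, 0, 1, 2, 3], [1, 2, 3, 4, 0], [3, 2, 0, 4, 1], [2, 0, 4, 1, 3], [3, 2, 4, 1, 0], [2, 4, 3, 1, 0], [3, 0, 4, 2, 1], [3, 4, 1, 2, 0], [2, 0, 3, 4, 1], [3, 0, 1, 4, 2], [2, 3, 1, 4, 0], [3, 4, 0, 1, 2], [1, 3, 4, 2, 0], [4, 0, 3, 1, 2], [2, 3, 4, 0, 1], [4, 2, 0, 1, 3], [1, 2, 4, 0, 3], [1, 4, 0, 2, 3], [4, 2, 3, 0, 1], [0, 4, 1, 3, 2], [0, 3, 1, 2, 4], [0, 1, 3, 4, 2], [0, 3, 2, 4, 1], [4, 1, 0, 3, 2], [1, 3, 2, 0, 4], [2, 0, 1, 3, 4], [3, 1, 2, 4, 0], [1, 4, 2, 3, 0], [3, 1, 0, 2, 4], [2, 1, 3, 0, 4], [4, 0, 2, 3, 1], [4, 1, 2, 0, 3], [1, 2, 0, 3, 4], [3, 0, 2, 1, 4], [2, 1, 4, 3, 0], [0, 4, 2, 1, 3], [0, 1, 4, 2, 3], [0, 2, 3, 1, 4], [0, 2, 4, 3, 1], [0, 1, 2, 3, 4]]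

/-- The units normalising the products. -/
def sigUnit : List (List Nat) := [[0, 0, 0, 0, 0], [18, 13, 41, 18, 86], [20, 30, 113, 84, 8], [17, 7, 43, 75, 7], [19, 85, 20, 85, 23], [0, 16, 97, 16, 31], [83, 32, 19, 83, 15], [10, 63, 18, 10, 4], [11, 1, 4, 75, 1], [7, 13, 3, 13, 80], [4, 9, 72, 81, 9], [80, 12, 17, 47, 12], [8, 81, 18, 8, 14], [86, 20, 17, 20, 10], [3, 11, 56, 11, 17], [21, 78, 2, 78, 6], [22, 5, 0, 5, 88], [2, 76, 1, 30, 76], [4, 14, 86, 14, 34], [1, 77, 23, 104, 13], [3, 75, 8, 3, 36], [16, 6, 66, 23, 32], [15, 31, 74, 22, 24], [25, 35, 16, 22, 2], [28, 51, 20, 28, 21], [2, 27, 67, 27, 27], [24, 30, 83, 24, 46], [23, 29, 73, 78, 29], [26, 26, 19, 26, 52], [1, 25, 68, 32, 25], [31, 28, 42, 19, 5], [45, 6, 31, 29, 22], [30, 21, 15, 53, 5], [105, 70, 37, 54,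 116], [20, 117, 93, 117, 73], [113, 32, 91, 113, 67], [19, 68, 95, 115, 68], [110, 70, 58, 60, 108], [40, 86, 110, 40, 40], [37, 37, 75, 107, 37], [61, 109, 49, 107, 59], [51, 102, 2, 51, 90], [52, 104, 21, 104, 94], [46, 100, 1, 92, 100], [49, 101, 65, 112, 40], [74, 74, 89, 23, 74], [18, 72, 116, 67, 72], [44, 86, 105, 7, 57], [43, 54, 39, 81, 85], [54, 71, 61, 54, 71], [41, 11, 109, 71, 83], [66, 28, 94, 66, 66], [17, 69, 115, 69, 69], [42, 84, 74, 42, 84], [63, 63, 7, 63, 105], [60, 61, 60, 61, 49], [47, 46, 11, 47, 109], [64, 64, 60, 64, 64], [60, 57, 55, 57, 55], [58, 37, 79, 80, 38], [61, 82, 40, 39, 81], [59, 62, 64, 62, 64], [55, 55, 59, 55, 55], [72, 73, 108, 72, 10], [59, 58, 59, 58, 70], [56, 56, 112, 56, 14], [77, 35, 45, 77, 35], [102, 50, 4, 50, 50], [53, 91,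 25, 53, 53], [78, 108, 10, 48, 36], [65, 48, 58, 65, 48], [76, 65, 80, 38, 34], [75, 33, 14, 112, 62], [101, 47, 3, 52, 47], [45, 45, 30, 96, 45], [70, 18, 54, 7, 79], [73, 19, 118, 27, 19], [67, 15, 98, 15, 25], [68, 17, 117, 68, 29], [58, 10, 70, 12, 60], [82, 82, 44, 12, 82], [79, 33, 9, 79, 79], [9, 49, 61, 59, 11], [100, 51, 24, 4, 51], [6, 87, 28, 6, 52], [99, 2, 26, 2, 46], [14, 49, 82, 65, 3], [89, 98, 104, 66, 114], [74, 113, 88, 90, 97], [88, 91, 77, 100, 114], [118, 94, 51, 87, 94], [93, 93, 100, 93, 67], [96, 90, 46, 41, 90], [95, 89, 36, 95, 73], [117, 92, 52, 92, 92], [91, 68, 99, 91, 98], [94, 84, 103, 97, 117], [104, 88, 45, 97, 95], [103, 113, 53, 96, 87], [116, 44, 111, 116, 83], [118, 42, 96, 15, 106], [115, 105, 33, 105, 85], [117, 43, 118, 89, 43], [97,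 114, 119, 114, 31], [98, 41, 117, 41, 113], [116, 108, 63, 108, 102], [33, 99, 102, 99, 109], [111, 38, 101, 111, 105], [39, 107, 102, 72, 107], [115, 110, 47, 38, 110], [112, 106, 116, 106, 39], [108, 118, 115, 44, 118], [109, 56, 101, 109, 115], [36, 87, 100, 36, 104], [119, 103, 22, 103, 88], [100, 34, 99, 34, 96], [102, 112, 76, 44, 112], [99, 89, 6, 35, 111], [101, 106, 78, 101, 33], [119, 119, 119, 119, 119]]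

/-- Units with pairwise different actions. -/
def sigPick : List Nat := [0, 1, 2, 3, 4, 5, 6, 7, 8, 9, 10, 11, 12, 13, 14, 15, 16, 17, 18, 19, 20, 21, 22, 23, 24, 25, 26, 27, 28, 29, 30, 31, 32, 33, 34, 35, 36, 37, 38, 39, 40, 41, 42, 43, 44, 45, 46, 47, 48, 49, 50, 51, 52, 53, 54, 55, 56, 57, 58, 59]

/-- Conjugators. -/
def conjWords : List (List Nat) := [[], [4, 1, 4, 1, 3, 0, 3, 4, 1, 0, 4, 1, 3, 0], [4, 1, 3, 0, 3, 4, 1, 4, 1, 3, 4, 1, 3, 0, 4, 3], [4, 1, 4, 1, 3, 0, 3, 4, 1, 0, 4, 1, 3, 0, 4, 1, 4, 1, 3, 0, 3, 4, 1, 0, 4, 1, 3, 0], [4, 1, 3, 0, 3, 4, 1, 4, 1, 3, 4, 1, 3, 0, 4, 3, 4, 1, 4, 1, 3, 0, 3, 4, 1, 0, 4, 1, 3, 0], [4, 1, 4, 1, 3, 0, 3, 4, 1, 0, 4, 1, 3, 0, 4, 1, 3, 0, 3, 4, 1, 4, 1, 3, 4, 1, 3, 0, 4, 3], [4, 1, 4, 1, 3, 0, 3, 4, 1, 0, 4, 1, 3, 0, 4, 1, 4, 1,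 3, 0, 3, 4, 1, 0, 4, 1, 3, 0, 4, 1, 3, 0, 3, 4, 1, 4, 1, 3, 4, 1, 3, 0, 4, 3], [4, 1, 3, 0, 3, 4, 1, 4, 1, 3, 4, 1, 3, 0, 4, 3, 4, 1, 3, 0, 3, 4, 1, 4, 1, 3, 4, 1, 3, 0, 4, 3], [4, 1, 4, 1, 3, 0, 3, 4, 1, 0, 4, 1, 3, 0, 4, 1, 4, 1, 3, 0, 3, 4, 1, 0, 4, 1, 3, 0, 4, 1, 4, 1, 3, 0, 3, 4, 1, 0, 4, 1, 3, 0], [4, 1, 4, 1, 3, 0, 3, 4, 1, 0, 4, 1, 3, 0, 4, 1, 4, 1, 3, 0, 3, 4, 1, 0, 4, 1, 3, 0, 4, 1, 4, 1, 3, 0, 3, 4, 1, 0, 4, 1, 3, 0, 4, 1, 4, 1, 3, 0, 3, 4, 1, 0, 4, 1, 3, 0], [4, 1, 4, 1, 3, 0, 3, 4, 1, 0, 4, 1, 3, 0, 4, 1, 4, 1, 3, 0, 3, 4, 1, 0, 4, 1, 3, 0, 4, 1, 4, 1, 3, 0, 3, 4, 1, 0, 4, 1, 3, 0, 4, 1, 4, 1, 3, 0, 3, 4, 1, 0, 4, 1, 3, 0, 4, 1, 4, 1, 3, 0, 3, 4, 1, 0, 4, 1, 3, 0]]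

/-- The stabiliser elements as products of conjugates. -/
def conjProd : List (List Nat) := [[], [0], [0, 1, 4, 3], [3], [6], [0, 2], [1, 4], [2], [1, 4, 3], [0, 1, 3, 4], [4, 1], [1, 3, 4], [4], [0, 2, 4], [5], [0, 3], [0, 6], [0, 1, 4], [0, 4, 1], [0, 4], [2, 4], [0, 5], [0, 1, 6], [0, 1, 3], [0, 3, 4], [1, 3], [1, 6], [4, 3], [3, 4], [0, 4, 3], [0, 1], [1]]

/-- A commuting pair. -/
def pairA : Nat := 6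

/-- Its partner. -/
def pairB : Nat := 22

end Cfsg.Agent.IcoLeech.Data
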