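import Cfsg.Agent.Lib.IcoLeech.Model

/-!
Tables for the icosian lattice: small norms, the lines of minimal vectors with a spanning tree, and
words in five reflections.
-/

set_option autoImplicit false
set_option maxRecDepth 20000

namespace Cfsg.Agent.IcoLeech.Data

/-- The units. -/
def units : List Ico := [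
  ⟨-1, 0, 0, 0, 0, 0, 0, 0⟩,
  ⟨-2, -1, 1, -1, 1, 0, -1, 1⟩,
  ⟨-1, 1, -1, -1, 0, -1, 1, 1⟩,
  ⟨0, -2, 1, 1, 0, 1, -1, -1⟩,
  ⟨1, 0, -1, 1, -1, 0, 1, -1⟩,
  ⟨0, 0, -1, 0, 0, 0, 0, 0⟩,
  ⟨-1, -1, 1, 0, 0, 1, 0, 0⟩,
  ⟨-2, 1, 0, -2, 1, -1, 0, 1⟩,
  ⟨1, -1, 0, 2, -1, 0, 0, -1⟩,
  ⟨-1, -2, 2, 1, 0, 1, -1, 0⟩,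
  ⟨1, 1, -2, 1, -1, -1, 1, 0⟩,
  ⟨-2, -1, 2, -1, 1, 1, -1, 0⟩,
  ⟨0, 2, -2, -1, 0, -1, 1, 0⟩,
  ⟨-2, 1, 0, -2, 1, 0, 0, 1⟩,
  ⟨1, -1, 0, 2, -1, 1, 0, -1⟩,
  ⟨0, 1, -1, 0, 0, -1, 0, 0⟩,
  ⟨-1, 0, 1, 0, 0, 0, 0, 0⟩,
  ⟨-2, 0, 1, -1, 1, 0, -1, 1⟩,
  ⟨-1, 2, -1, -1, 0, -1, 1, 1⟩,
  ⟨0, -1, 1, 1, 0, 1, -1, -1⟩,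
  ⟨1, 1, -1, 1, -1, 0, 1, -1⟩,
  ⟨0, -1, 0, 1, 0, 0, 0, 0⟩,
  ⟨-1, 0, 0, -1, 1, 0, 0, 0⟩,
  ⟨-1, -1, 1, 0, 1, 0, -1, 0⟩,
  ⟨0, 1, -1, 0, 0, -1, 1, 0⟩,
  ⟨-1, 1, -1, -1, 1, -1, 0, 1⟩,
  ⟨-2, 0, 1, -1, 1, 0, 0, 1⟩,
  ⟨1, 0, -1, 1, 0, 0, 0, -1⟩,
  ⟨0, -1, 1, 1, 0, 1, 0, -1⟩,
  ⟨-1, -1, 1, 0, 1, 1, -1, 0⟩,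
  ⟨0, 1, -1, 0, 0, 0, 1, 0⟩,
  ⟨0, 0, 0, 1, 0, 0, 0, 0⟩,
  ⟨-1, 1, 0, -1, 1, 0, 0, 0⟩,
  ⟨-1, -2, 2, 0, 0, 1, -1, 0⟩,
  ⟨1, 1, -2, 0, -1, -1, 1, 0⟩,
  ⟨-1, 0, 0, -1, 0, 0, 0, 1⟩,
  ⟨1, -1, 0, 1, -1, 1, 0, -1⟩,
  ⟨-2, 0, 1, -2, 1, 0, -1, 1⟩,
  ⟨-1, 2, -1, -2, 0, -1, 1, 1⟩,
  ⟨1, -2, 1, 2, -1, 1, -1, -1⟩,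
  ⟨2, 0, -1, 2, -2, 0, 1, -1⟩,
  ⟨-1, 1, 0, -1, 0, -1, 0, 1⟩,
  ⟨1, 0, 0, 1, -1, 0, 0, -1⟩,
  ⟨-1, -1, 2, 0, 0, 1, -1, 0⟩,
  ⟨1, 2, -2, 0, -1, -1, 1, 0⟩,
  ⟨0, -1, 0, 0, 0, 0, 0, 0⟩,
  ⟨-1, 1, -1, -2, 1, -1, 0, 1⟩,
  ⟨-2, 0, 1, -2, 1, 0, 0, 1⟩,
  ⟨2, -1, -1, 2, -1, 0, 0, -1⟩,
  ⟨1, -2, 1, 2, -1, 1, 0, -1⟩,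
  ⟨0, -2, 1, 1, 0, 1, -1, 0⟩,
  ⟨1, 0, -1, 1, -1, 0, 1, 0⟩,
  ⟨-1, -1, 1, -1, 1, 1, -1, 0⟩,
  ⟨0, 1, -1, -1, 0, 0, 1, 0⟩,
  ⟨-2, -1, 2, -1, 1, 0, -1, 1⟩,
  ⟨0, 2, -2, -1, 0, -2, 1, 1⟩,
  ⟨0, -2, 2, 1, 0, 1, -1, -1⟩,
  ⟨2, 1, -2, 1, -1, -1, 1, -1⟩,
  ⟨-2, 1, 0, -2, 1, -1, 0, 2⟩,
  ⟨-1, -2, 2, 0, 1, 1, -2, 0⟩,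
  ⟨1, 2, -2, 0, -1, -1, 2, 0⟩,
  ⟨2, -1, 0, 2, -1, 1, 0, -2⟩,
  ⟨-2, -1, 2, -1, 1, 1, -1, 1⟩,
  ⟨0, 2, -2, -1, 0, -1, 1, 1⟩,
  ⟨0, -2, 2, 1, 0, 2, -1, -1⟩,
  ⟨2, 1, -2, 1, -1, 0, 1, -1⟩,
  ⟨0, -1, 1, 1, 0, 0, -1, 0⟩,
  ⟨1, 1, -1, 1, -1, -1, 1, 0⟩,
  ⟨-1, 0, 1, -1, 1, 0, -1, 0⟩,
  ⟨0, 2, -1, -1, 0, -1, 1, 0⟩,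
  ⟨-1, 2, -1, -2, 1, -1, 0, 1⟩,
  ⟨-2, 1, 1, -2, 1, 0, 0, 1⟩,
  ⟨2, 0, -1, 2, -1, 0, 0, -1⟩,
  ⟨1, -1, 1, 2, -1, 1, 0, -1⟩,
  ⟨0, 1, 0, 0, 0, 0, 0, 0⟩,
  ⟨-1, -2, 2, 0, 1, 1, -1, 0⟩,
  ⟨1, 1, -2, 0, 0, -1, 1, 0⟩,
  ⟨-1, 0, 0, -1, 1, 0, 0, 1⟩,
  ⟨1, -1, 0, 1, 0, 1, 0, -1⟩,
  ⟨-2, 0, 1, -2, 2, 0, -1, 1⟩,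
  ⟨-1, 2, -1, -2, 1, -1, 1, 1⟩,
  ⟨1, -2, 1, 2, 0, 1, -1, -1⟩,
  ⟨2, 0, -1, 2, -1, 0, 1, -1⟩,
  ⟨-1, 1, 0, -1, 1, -1, 0, 1⟩,
  ⟨1, 0, 0, 1, 0, 0, 0, -1⟩,
  ⟨-1, -1, 2, 0, 1, 1, -1, 0⟩,
  ⟨1, 2, -2, 0, 0, -1, 1, 0⟩,
  ⟨1, -1, 0, 1, -1, 0, 0, 0⟩,
  ⟨0, 0, 0, -1, 0, 0, 0, 0⟩,
  ⟨0, -1, 1, 0, 0, 0, -1, 0⟩,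
  ⟨1, 1, -1, 0, -1, -1, 1, 0⟩,
  ⟨0, 1, -1, -1, 0, -1, 0, 1⟩,
  ⟨-1, 0, 1, -1, 0, 0, 0, 1⟩,
  ⟨2, 0, -1, 1, -1, 0, 0, -1⟩,
  ⟨1, -1, 1, 1, -1, 1, 0, -1⟩,
  ⟨0, -1, 1, 0, 0, 1, -1, 0⟩,
  ⟨1, 1, -1, 0, -1, 0, 1, 0⟩,
  ⟨1, 0, 0, 1, -1, 0, 0, 0⟩,
  ⟨0, 1, 0, -1, 0, 0, 0, 0⟩,
  ⟨-1, -1, 1, -1, 1, 0, -1, 1⟩,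
  ⟨0, 1, -1, -1, 0, -1, 1, 1⟩,
  ⟨1, -2, 1, 1, 0, 1, -1, -1⟩,
  ⟨2, 0, -1, 1, -1, 0, 1, -1⟩,
  ⟨1, 0, -1, 0, 0, 0, 0, 0⟩,
  ⟨0, -1, 1, 0, 0, 1, 0, 0⟩,
  ⟨-1, 1, 0, -2, 1, -1, 0, 1⟩,
  ⟨2, -1, 0, 2, -1, 0, 0, -1⟩,
  ⟨0, -2, 2, 1, 0, 1, -1, 0⟩,
  ⟨2, 1, -2, 1, -1, -1, 1, 0⟩,
  ⟨-1, -1, 2, -1, 1, 1, -1, 0⟩,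
  ⟨1, 2, -2, -1, 0, -1, 1, 0⟩,
  ⟨-1, 1, 0, -2, 1, 0, 0, 1⟩,
  ⟨2, -1, 0, 2, -1, 1, 0, -1⟩,
  ⟨1, 1, -1, 0, 0, -1, 0, 0⟩,
  ⟨0, 0, 1, 0, 0, 0, 0, 0⟩,
  ⟨-1, 0, 1, -1, 1, 0, -1, 1⟩,
  ⟨0, 2, -1, -1, 0, -1, 1, 1⟩,
  ⟨1, -1, 1, 1, 0, 1, -1, -1⟩,
  ⟨2, 1, -1, 1, -1, 0, 1, -1⟩,
  ⟨1, 0, 0, 0, 0, 0, 0, 0⟩]

/-- Norm `1 + τ`. -/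
def nTau : List Ico := [
  ⟨0, -1, 0, 1, -1, 0, 0, 0⟩,
  ⟨-1, 0, 0, -1, 0, 0, 0, 0⟩,
  ⟨-1, -1, 1, 0, 0, 0, -1, 0⟩,
  ⟨0, 1, -1, 0, -1, -1, 1, 0⟩,
  ⟨-1, 1, -1, -1, 0, -1, 0, 1⟩,
  ⟨-2, 0, 1, -1, 0, 0, 0, 1⟩,
  ⟨1, 0, -1, 1, -1, 0, 0, -1⟩,
  ⟨0, -1, 1, 1, -1, 1, 0, -1⟩,
  ⟨-1, -1, 1, 0, 0, 1, -1, 0⟩,
  ⟨0, 1, -1, 0, -1, 0, 1, 0⟩,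
  ⟨0, 0, 0, 1, -1, 0, 0, 0⟩,
  ⟨-1, 1, 0, -1, 0, 0, 0, 0⟩,
  ⟨0, 0, -1, 0, 0, -1, 0, 0⟩,
  ⟨-1, -1, 1, 0, 0, 0, 0, 0⟩,
  ⟨-1, 0, 0, 0, 0, -1, 0, 1⟩,
  ⟨0, 0, 0, 0, 0, 0, 0, -1⟩,
  ⟨0, -1, 0, 1, 0, 0, -1, 0⟩,
  ⟨0, 0, 0, 1, -1, 0, 1, 0⟩,
  ⟨-1, 0, 0, -1, 1, 0, -1, 0⟩,
  ⟨-1, 1, 0, -1, 0, 0, 1, 0⟩,
  ⟨-1, 0, 0, 0, 0, 0, 0, 1⟩,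
  ⟨0, 0, 0, 0, 0, 1, 0, -1⟩,
  ⟨0, 1, -1, 0, 0, 0, 0, 0⟩,
  ⟨-1, 0, 1, 0, 0, 1, 0, 0⟩,
  ⟨0, 0, 0, 0, -1, 0, 0, 0⟩,
  ⟨-1, 0, 0, -1, 0, -1, 0, 1⟩,
  ⟨1, -1, 0, 1, -1, 0, 0, -1⟩,
  ⟨0, -1, 0, 0, 0, 0, -1, 0⟩,
  ⟨0, 0, 0, 0, -1, 0, 1, 0⟩,
  ⟨1, 0, -1, 1, -1, -1, 0, 0⟩,
  ⟨0, -1, 1, 1, -1, 0, 0, 0⟩,
  ⟨0, 1, -1, -1, 0, -1, 0, 0⟩,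
  ⟨-1, 0, 1, -1, 0, 0, 0, 0⟩,
  ⟨-1, -1, 1, 0, 0, 0, -1, 1⟩,
  ⟨0, 1, -1, 0, -1, -1, 1, 1⟩,
  ⟨0, -1, 1, 0, 0, 1, -1, -1⟩,
  ⟨1, 1, -1, 0, -1, 0, 1, -1⟩,
  ⟨1, 0, -1, 1, -1, 0, 0, 0⟩,
  ⟨0, -1, 1, 1, -1, 1, 0, 0⟩,
  ⟨0, 1, -1, -1, 0, 0, 0, 0⟩,
  ⟨-1, 0, 1, -1, 0, 1, 0, 0⟩,
  ⟨0, 0, 0, 0, 0, 0, -1, 0⟩,
  ⟨0, 1, 0, 0, -1, 0, 1, 0⟩,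
  ⟨-1, 1, 0, -1, 0, 0, 0, 1⟩,
  ⟨1, 0, 0, 1, -1, 1, 0, -1⟩,
  ⟨0, -2, 1, 1, 0, 0, -1, 0⟩,
  ⟨1, 0, -1, 1, -1, -1, 1, 0⟩,
  ⟨-1, -1, 1, -1, 1, 0, -1, 0⟩,
  ⟨0, 1, -1, -1, 0, -1, 1, 0⟩,
  ⟨0, 0, -1, 0, 0, -1, 0, 1⟩,
  ⟨-1, -1, 1, 0, 0, 0, 0, 1⟩,
  ⟨1, 0, -1, 0, 0, 0, 0, -1⟩,
  ⟨0, -1, 1, 0, 0, 1, 0, -1⟩,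
  ⟨0, 0, 0, 0, 0, -1, 0, 0⟩,
  ⟨-1, 0, 0, -1, 1, -1, -1, 1⟩,
  ⟨-1, 1, 0, -1, 0, -1, 1, 1⟩,
  ⟨1, -1, 0, 1, 0, 0, -1, -1⟩,
  ⟨1, 0, 0, 1, -1, 0, 1, -1⟩,
  ⟨1, -1, 0, 2, -1, 0, 0, 0⟩,
  ⟨1, 1, -2, 0, 0, -1, 0, 0⟩,
  ⟨-1, -1, 2, 0, 0, 1, 0, 0⟩,
  ⟨-1, 1, 0, -2, 1, 0, 0, 0⟩,
  ⟨-1, 0, 0, -1, 1, 0, -1, 1⟩,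
  ⟨-1, 1, 0, -1, 0, 0, 1, 1⟩,
  ⟨1, -1, 0, 1, 0, 1, -1, -1⟩,
  ⟨1, 0, 0, 1, -1, 1, 1, -1⟩,
  ⟨0, 0, 0, 0, 0, 1, 0, 0⟩,
  ⟨0, 1, -1, 0, 0, -1, 0, 1⟩,
  ⟨-1, 0, 1, 0, 0, 0, 0, 1⟩,
  ⟨1, 1, -1, 0, 0, 0, 0, -1⟩,
  ⟨0, 0, 1, 0, 0, 1, 0, -1⟩,
  ⟨0, -1, 1, 1, 0, 1, -1, 0⟩,
  ⟨1, 1, -1, 1, -1, 0, 1, 0⟩,
  ⟨-1, 0, 1, -1, 1, 1, -1, 0⟩,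
  ⟨0, 2, -1, -1, 0, 0, 1, 0⟩,
  ⟨-1, 0, 0, -1, 1, -1, 0, 1⟩,
  ⟨1, -1, 0, 1, 0, 0, 0, -1⟩,
  ⟨0, -1, 0, 0, 1, 0, -1, 0⟩,
  ⟨0, 0, 0, 0, 0, 0, 1, 0⟩,
  ⟨1, 0, -1, 1, 0, -1, 0, 0⟩,
  ⟨0, -1, 1, 1, 0, 0, 0, 0⟩,
  ⟨0, 1, -1, -1, 1, -1, 0, 0⟩,
  ⟨-1, 0, 1, -1, 1, 0, 0, 0⟩,
  ⟨-1, -1, 1, 0, 1, 0, -1, 1⟩,
  ⟨0, 1, -1, 0, 0, -1, 1, 1⟩,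
  ⟨0, -1, 1, 0, 1, 1, -1, -1⟩,
  ⟨1, 1, -1, 0, 0, 0, 1, -1⟩,
  ⟨1, 0, -1, 1, 0, 0, 0, 0⟩,
  ⟨0, -1, 1, 1, 0, 1, 0, 0⟩,
  ⟨0, 1, -1, -1, 1, 0, 0, 0⟩,
  ⟨-1, 0, 1, -1, 1, 1, 0, 0⟩,
  ⟨0, 0, 0, 0, 1, 0, -1, 0⟩,
  ⟨0, 1, 0, 0, 0, 0, 1, 0⟩,
  ⟨-1, 1, 0, -1, 1, 0, 0, 1⟩,
  ⟨1, 0, 0, 1, 0, 1, 0, -1⟩,
  ⟨0, 0, 0, 0, 1, 0, 0, 0⟩,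
  ⟨1, 0, -1, 0, 0, -1, 0, 0⟩,
  ⟨0, -1, 1, 0, 0, 0, 0, 0⟩,
  ⟨0, 0, 0, 0, 0, -1, 0, 1⟩,
  ⟨1, 0, 0, 0, 0, 0, 0, -1⟩,
  ⟨1, -1, 0, 1, 0, 0, -1, 0⟩,
  ⟨1, 0, 0, 1, -1, 0, 1, 0⟩,
  ⟨0, 0, 0, -1, 1, 0, -1, 0⟩,
  ⟨0, 1, 0, -1, 0, 0, 1, 0⟩,
  ⟨0, 0, 0, 0, 0, 0, 0, 1⟩,
  ⟨1, 0, 0, 0, 0, 1, 0, -1⟩,
  ⟨1, 1, -1, 0, 0, 0, 0, 0⟩,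
  ⟨0, 0, 1, 0, 0, 1, 0, 0⟩,
  ⟨1, -1, 0, 1, 0, 0, 0, 0⟩,
  ⟨0, 0, 0, -1, 1, 0, 0, 0⟩,
  ⟨0, -1, 1, 0, 1, 0, -1, 0⟩,
  ⟨1, 1, -1, 0, 0, -1, 1, 0⟩,
  ⟨0, 1, -1, -1, 1, -1, 0, 1⟩,
  ⟨-1, 0, 1, -1, 1, 0, 0, 1⟩,
  ⟨2, 0, -1, 1, 0, 0, 0, -1⟩,
  ⟨1, -1, 1, 1, 0, 1, 0, -1⟩,
  ⟨0, -1, 1, 0, 1, 1, -1, 0⟩,
  ⟨1, 1, -1, 0, 0, 0, 1, 0⟩,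
  ⟨1, 0, 0, 1, 0, 0, 0, 0⟩,
  ⟨0, 1, 0, -1, 1, 0, 0, 0⟩]

/-- Norm `2 - τ`. -/
def nSig : List Ico := [
  ⟨-2, -2, 2, 0, 1, 1, -1, 0⟩,
  ⟨0, 1, -2, 0, 0, -1, 1, 0⟩,
  ⟨-2, 0, 0, -1, 1, 0, 0, 1⟩,
  ⟨0, -1, 0, 1, 0, 1, 0, -1⟩,
  ⟨-3, 0, 1, -2, 2, 0, -1, 1⟩,
  ⟨-2, 2, -1, -2, 1, -1, 1, 1⟩,
  ⟨0, -2, 1, 2, 0, 1, -1, -1⟩,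
  ⟨1, 0, -1, 2, -1, 0, 1, -1⟩,
  ⟨-2, 1, 0, -1, 1, -1, 0, 1⟩,
  ⟨0, 0, 0, 1, 0, 0, 0, -1⟩,
  ⟨-2, -1, 2, 0, 1, 1, -1, 0⟩,
  ⟨0, 2, -2, 0, 0, -1, 1, 0⟩,
  ⟨-1, 0, 0, 0, 1, 0, 0, 0⟩,
  ⟨-2, 0, 0, -2, 1, 0, 0, 1⟩,
  ⟨1, -2, 0, 2, -1, 1, 0, -1⟩,
  ⟨-2, -3, 3, 0, 1, 2, -2, 0⟩,
  ⟨1, 2, -3, 0, -1, -1, 2, 0⟩,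
  ⟨-4, 0, 2, -3, 2, 0, -1, 2⟩,
  ⟨-2, 3, -2, -3, 1, -2, 1, 2⟩,
  ⟨1, -3, 2, 3, -1, 2, -1, -2⟩,
  ⟨3, 0, -2, 3, -2, 0, 1, -2⟩,
  ⟨-2, -2, 3, 0, 1, 1, -2, 0⟩,
  ⟨1, 3, -3, 0, -1, -2, 2, 0⟩,
  ⟨-2, 2, 0, -2, 1, -1, 0, 1⟩,
  ⟨1, 0, 0, 2, -1, 0, 0, -1⟩,
  ⟨-1, -2, 1, 0, 1, 1, -1, 0⟩,
  ⟨0, 0, -1, 0, 0, 0, 1, 0⟩,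
  ⟨-3, 1, 0, -3, 2, -1, 0, 2⟩,
  ⟨2, -2, 0, 3, -1, 1, 0, -2⟩,
  ⟨-3, -1, 2, -2, 2, 1, -1, 1⟩,
  ⟨-1, 2, -2, -2, 1, -1, 1, 1⟩,
  ⟨0, -3, 2, 2, 0, 2, -1, -1⟩,
  ⟨2, 0, -2, 2, -1, 0, 1, -1⟩,
  ⟨-3, -2, 3, -1, 2, 1, -2, 1⟩,
  ⟨0, 3, -3, -1, 0, -2, 2, 1⟩,
  ⟨-1, -3, 3, 1, 1, 2, -2, -1⟩,
  ⟨2, 2, -3, 1, -1, -1, 2, -1⟩,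
  ⟨-3, 0, 2, -2, 2, 0, -1, 1⟩,
  ⟨-1, 3, -2, -2, 1, -2, 1, 1⟩,
  ⟨0, -2, 2, 2, 0, 1, -1, -1⟩,
  ⟨2, 1, -2, 2, -1, -1, 1, -1⟩,
  ⟨-3, 2, 0, -3, 2, -1, 0, 2⟩,
  ⟨2, -1, 0, 3, -1, 1, 0, -2⟩,
  ⟨-1, 0, 1, 0, 1, 0, -1, 0⟩,
  ⟨0, 2, -1, 0, 0, -1, 1, 0⟩,
  ⟨-2, -2, 2, -1, 1, 1, -1, 1⟩,
  ⟨0, 1, -2, -1, 0, -1, 1, 1⟩,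
  ⟨0, -3, 2, 1, 0, 2, -1, -1⟩,
  ⟨2, 0, -2, 1, -1, 0, 1, -1⟩,
  ⟨0, -1, 0, 0, 0, 1, 0, 0⟩,
  ⟨-3, -2, 3, -2, 2, 1, -2, 1⟩,
  ⟨0, 3, -3, -2, 0, -2, 2, 1⟩,
  ⟨0, -4, 3, 2, 0, 2, -2, -1⟩,
  ⟨3, 1, -3, 2, -2, -1, 2, -1⟩,
  ⟨-3, 0, 1, -3, 2, 0, -1, 2⟩,
  ⟨-2, 2, -1, -3, 1, -1, 1, 2⟩,
  ⟨2, -3, 1, 3, -1, 2, -1, -2⟩,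
  ⟨3, -1, -1, 3, -2, 1, 1, -2⟩,
  ⟨-3, 2, 0, -4, 2, -1, 0, 2⟩,
  ⟨-2, -3, 4, 0, 1, 2, -2, 0⟩,
  ⟨2, 3, -4, 0, -1, -2, 2, 0⟩,
  ⟨3, -2, 0, 4, -2, 1, 0, -2⟩,
  ⟨-3, 1, 1, -3, 2, -1, -1, 2⟩,
  ⟨-2, 3, -1, -3, 1, -2, 1, 2⟩,
  ⟨2, -2, 1, 3, -1, 1, -1, -2⟩,
  ⟨3, 0, -1, 3, -2, 0, 1, -2⟩,
  ⟨-3, -1, 3, -2, 2, 1, -2, 1⟩,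
  ⟨0, 4, -3, -2, 0, -2, 2, 1⟩,
  ⟨0, -3, 3, 2, 0, 2, -2, -1⟩,
  ⟨3, 2, -3, 2, -2, -1, 2, -1⟩,
  ⟨0, 1, 0, 0, 0, -1, 0, 0⟩,
  ⟨-2, 0, 2, -1, 1, 0, -1, 1⟩,
  ⟨0, 3, -2, -1, 0, -2, 1, 1⟩,
  ⟨0, -1, 2, 1, 0, 1, -1, -1⟩,
  ⟨2, 2, -2, 1, -1, -1, 1, -1⟩,
  ⟨0, -2, 1, 0, 0, 1, -1, 0⟩,
  ⟨1, 0, -1, 0, -1, 0, 1, 0⟩,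
  ⟨-2, 1, 0, -3, 1, -1, 0, 2⟩,
  ⟨3, -2, 0, 3, -2, 1, 0, -2⟩,
  ⟨-2, -1, 2, -2, 1, 1, -1, 1⟩,
  ⟨0, 2, -2, -2, 0, -1, 1, 1⟩,
  ⟨1, -3, 2, 2, -1, 2, -1, -1⟩,
  ⟨3, 0, -2, 2, -2, 0, 1, -1⟩,
  ⟨-2, -2, 3, -1, 1, 1, -2, 1⟩,
  ⟨1, 3, -3, -1, -1, -2, 2, 1⟩,
  ⟨0, -3, 3, 1, 0, 2, -2, -1⟩,
  ⟨3, 2, -3, 1, -2, -1, 2, -1⟩,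
  ⟨-2, 0, 2, -2, 1, 0, -1, 1⟩,
  ⟨0, 3, -2, -2, 0, -2, 1, 1⟩,
  ⟨1, -2, 2, 2, -1, 1, -1, -1⟩,
  ⟨3, 1, -2, 2, -2, -1, 1, -1⟩,
  ⟨-2, 2, 0, -3, 1, -1, 0, 2⟩,
  ⟨3, -1, 0, 3, -2, 1, 0, -2⟩,
  ⟨0, 0, 1, 0, 0, 0, -1, 0⟩,
  ⟨1, 2, -1, 0, -1, -1, 1, 0⟩,
  ⟨-1, 0, 0, -2, 1, 0, 0, 1⟩,
  ⟨2, -2, 0, 2, -1, 1, 0, -1⟩,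
  ⟨-1, -3, 3, 0, 1, 2, -2, 0⟩,
  ⟨2, 2, -3, 0, -1, -1, 2, 0⟩,
  ⟨-3, 0, 2, -3, 2, 0, -1, 2⟩,
  ⟨-1, 3, -2, -3, 1, -2, 1, 2⟩,
  ⟨2, -3, 2, 3, -1, 2, -1, -2⟩,
  ⟨4, 0, -2, 3, -2, 0, 1, -2⟩,
  ⟨-1, -2, 3, 0, 1, 1, -2, 0⟩,
  ⟨2, 3, -3, 0, -1, -2, 2, 0⟩,
  ⟨-1, 2, 0, -2, 1, -1, 0, 1⟩,
  ⟨2, 0, 0, 2, -1, 0, 0, -1⟩,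
  ⟨1, 0, 0, 0, -1, 0, 0, 0⟩,
  ⟨0, -2, 2, 0, 0, 1, -1, 0⟩,
  ⟨2, 1, -2, 0, -1, -1, 1, 0⟩,
  ⟨0, 0, 0, -1, 0, 0, 0, 1⟩,
  ⟨2, -1, 0, 1, -1, 1, 0, -1⟩,
  ⟨-1, 0, 1, -2, 1, 0, -1, 1⟩,
  ⟨0, 2, -1, -2, 0, -1, 1, 1⟩,
  ⟨2, -2, 1, 2, -1, 1, -1, -1⟩,
  ⟨3, 0, -1, 2, -2, 0, 1, -1⟩,
  ⟨0, 1, 0, -1, 0, -1, 0, 1⟩,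
  ⟨2, 0, 0, 1, -1, 0, 0, -1⟩,
  ⟨0, -1, 2, 0, 0, 1, -1, 0⟩,
  ⟨2, 2, -2, 0, -1, -1, 1, 0⟩]

/-- Norm two. -/
def nTwo : List Ico := [
  ⟨-1, -1, 0, 0, 0, 0, 0, 0⟩,
  ⟨-2, 1, -1, -2, 1, -1, 0, 1⟩,
  ⟨-3, 0, 1, -2, 1, 0, 0, 1⟩,
  ⟨1, -1, -1, 2, -1, 0, 0, -1⟩,
  ⟨0, -2, 1, 2, -1, 1, 0, -1⟩,
  ⟨-1, -2, 1, 1, 0, 1, -1, 0⟩,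
  ⟨0, 0, -1, 1, -1, 0, 1, 0⟩,
  ⟨-2, -1, 1, -1, 1, 1, -1, 0⟩,
  ⟨-1, 1, -1, -1, 0, 0, 1, 0⟩,
  ⟨-3, -1, 2, -1, 1, 0, -1, 1⟩,
  ⟨-1, 2, -2, -1, 0, -2, 1, 1⟩,
  ⟨-1, -2, 2, 1, 0, 1, -1, -1⟩,
  ⟨1, 1, -2, 1, -1, -1, 1, -1⟩,
  ⟨-3, 1, 0, -2, 1, -1, 0, 2⟩,
  ⟨-2, -2, 2, 0, 1, 1, -2, 0⟩,
  ⟨0, 2, -2, 0, -1, -1, 2, 0⟩,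
  ⟨1, -1, 0, 2, -1, 1, 0, -2⟩,
  ⟨-3, -1, 2, -1, 1, 1, -1, 1⟩,
  ⟨-1, 2, -2, -1, 0, -1, 1, 1⟩,
  ⟨-1, -2, 2, 1, 0, 2, -1, -1⟩,
  ⟨1, 1, -2, 1, -1, 0, 1, -1⟩,
  ⟨-1, -1, 1, 1, 0, 0, -1, 0⟩,
  ⟨0, 1, -1, 1, -1, -1, 1, 0⟩,
  ⟨-2, 0, 1, -1, 1, 0, -1, 0⟩,
  ⟨-1, 2, -1, -1, 0, -1, 1, 0⟩,
  ⟨-2, 2, -1, -2, 1, -1, 0, 1⟩,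
  ⟨-3, 1, 1, -2, 1, 0, 0, 1⟩,
  ⟨1, 0, -1, 2, -1, 0, 0, -1⟩,
  ⟨0, -1, 1, 2, -1, 1, 0, -1⟩,
  ⟨-1, 1, 0, 0, 0, 0, 0, 0⟩,
  ⟨-2, 0, 0, -1, 1, -1, 0, 1⟩,
  ⟨0, -1, 0, 1, 0, 0, 0, -1⟩,
  ⟨-1, -1, 0, 0, 1, 0, -1, 0⟩,
  ⟨-1, 0, 0, 0, 0, 0, 1, 0⟩,
  ⟨0, 0, -1, 1, 0, -1, 0, 0⟩,
  ⟨-1, -1, 1, 1, 0, 0, 0, 0⟩,
  ⟨-1, 1, -1, -1, 1, -1, 0, 0⟩,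
  ⟨-2, 0, 1, -1, 1, 0, 0, 0⟩,
  ⟨-2, -1, 1, 0, 1, 0, -1, 1⟩,
  ⟨-1, 1, -1, 0, 0, -1, 1, 1⟩,
  ⟨-1, -1, 1, 0, 1, 1, -1, -1⟩,
  ⟨0, 1, -1, 0, 0, 0, 1, -1⟩,
  ⟨0, 0, -1, 1, 0, 0, 0, 0⟩,
  ⟨-1, -1, 1, 1, 0, 1, 0, 0⟩,
  ⟨-1, 1, -1, -1, 1, 0, 0, 0⟩,
  ⟨-2, 0, 1, -1, 1, 1, 0, 0⟩,
  ⟨-1, 0, 0, 0, 1, 0, -1, 0⟩,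
  ⟨-1, 1, 0, 0, 0, 0, 1, 0⟩,
  ⟨-2, 1, 0, -1, 1, 0, 0, 1⟩,
  ⟨0, 0, 0, 1, 0, 1, 0, -1⟩,
  ⟨-1, -2, 1, 0, 0, 1, -1, 0⟩,
  ⟨0, 0, -1, 0, -1, 0, 1, 0⟩,
  ⟨-3, 1, 0, -3, 1, -1, 0, 2⟩,
  ⟨2, -2, 0, 3, -2, 1, 0, -2⟩,
  ⟨-3, -1, 2, -2, 1, 1, -1, 1⟩,
  ⟨-1, 2, -2, -2, 0, -1, 1, 1⟩,
  ⟨0, -3, 2, 2, -1, 2, -1, -1⟩,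
  ⟨2, 0, -2, 2, -2, 0, 1, -1⟩,
  ⟨-3, -2, 3, -1, 1, 1, -2, 1⟩,
  ⟨0, 3, -3, -1, -1, -2, 2, 1⟩,
  ⟨-1, -3, 3, 1, 0, 2, -2, -1⟩,
  ⟨2, 2, -3, 1, -2, -1, 2, -1⟩,
  ⟨-3, 0, 2, -2, 1, 0, -1, 1⟩,
  ⟨-1, 3, -2, -2, 0, -2, 1, 1⟩,
  ⟨0, -2, 2, 2, -1, 1, -1, -1⟩,
  ⟨2, 1, -2, 2, -2, -1, 1, -1⟩,
  ⟨-3, 2, 0, -3, 1, -1, 0, 2⟩,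
  ⟨2, -1, 0, 3, -2, 1, 0, -2⟩,
  ⟨-1, 0, 1, 0, 0, 0, -1, 0⟩,
  ⟨0, 2, -1, 0, -1, -1, 1, 0⟩,
  ⟨-1, -3, 2, 1, 0, 1, -1, 0⟩,
  ⟨1, 0, -2, 1, -1, -1, 1, 0⟩,
  ⟨-2, -2, 2, -1, 1, 1, -1, 0⟩,
  ⟨0, 1, -2, -1, 0, -1, 1, 0⟩,
  ⟨-1, -1, 0, 0, 0, 0, 0, 1⟩,
  ⟨0, -1, 0, 0, 0, 1, 0, -1⟩,
  ⟨-2, -3, 3, 0, 1, 1, -2, 0⟩,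
  ⟨1, 2, -3, 0, -1, -2, 2, 0⟩,
  ⟨-3, -2, 3, -1, 1, 1, -1, 1⟩,
  ⟨0, 2, -3, -1, 0, -2, 1, 1⟩,
  ⟨-3, 0, 1, -3, 2, 0, -1, 1⟩,
  ⟨-2, 2, -1, -3, 1, -1, 1, 1⟩,
  ⟨1, -3, 1, 3, -1, 1, -1, -1⟩,
  ⟨2, -1, -1, 3, -2, 0, 1, -1⟩,
  ⟨-1, -3, 3, 1, 0, 2, -1, -1⟩,
  ⟨2, 1, -3, 1, -1, -1, 1, -1⟩,
  ⟨-2, 1, -1, -2, 1, -1, 0, 2⟩,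
  ⟨-3, 0, 1, -2, 1, 0, 0, 2⟩,
  ⟨2, -1, -1, 2, -1, 1, 0, -2⟩,
  ⟨1, -2, 1, 2, -1, 2, 0, -2⟩,
  ⟨-2, -1, 1, -1, 1, 1, -1, 1⟩,
  ⟨-1, 1, -1, -1, 0, 0, 1, 1⟩,
  ⟨0, -2, 1, 1, 0, 2, -1, -1⟩,
  ⟨1, 0, -1, 1, -1, 1, 1, -1⟩,
  ⟨-3, -1, 2, -2, 2, 0, -2, 1⟩,
  ⟨-1, 3, -2, -2, 0, -2, 2, 1⟩,
  ⟨0, -3, 2, 2, 0, 1, -2, -1⟩,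
  ⟨2, 1, -2, 2, -2, -1, 2, -1⟩,
  ⟨-3, 1, 0, -3, 2, -1, -1, 2⟩,
  ⟨-3, 2, 0, -3, 1, -1, 1, 2⟩,
  ⟨2, -2, 0, 3, -1, 1, -1, -2⟩,
  ⟨2, -1, 0, 3, -2, 1, 1, -2⟩,
  ⟨-3, -1, 2, -2, 2, 1, -2, 1⟩,
  ⟨-1, 3, -2, -2, 0, -1, 2, 1⟩,
  ⟨0, -3, 2, 2, 0, 2, -2, -1⟩,
  ⟨2, 1, -2, 2, -2, 0, 2, -1⟩,
  ⟨-2, 0, 1, -1, 1, -1, -1, 1⟩,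
  ⟨-1, 2, -1, -1, 0, -2, 1, 1⟩,
  ⟨0, -1, 1, 1, 0, 0, -1, -1⟩,
  ⟨1, 1, -1, 1, -1, -1, 1, -1⟩,
  ⟨-2, 2, -1, -2, 1, -2, 0, 2⟩,
  ⟨-3, 1, 1, -2, 1, -1, 0, 2⟩,
  ⟨2, 0, -1, 2, -1, 0, 0, -2⟩,
  ⟨1, -1, 1, 2, -1, 1, 0, -2⟩,
  ⟨-3, -1, 3, -1, 1, 1, -1, 1⟩,
  ⟨0, 3, -3, -1, 0, -2, 1, 1⟩,
  ⟨-3, 1, 1, -3, 2, 0, -1, 1⟩,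
  ⟨-2, 3, -1, -3, 1, -1, 1, 1⟩,
  ⟨1, -2, 1, 3, -1, 1, -1, -1⟩,
  ⟨2, 0, -1, 3, -2, 0, 1, -1⟩,
  ⟨-1, -2, 3, 1, 0, 2, -1, -1⟩,
  ⟨2, 2, -3, 1, -1, -1, 1, -1⟩,
  ⟨-2, -2, 3, 0, 1, 2, -2, 0⟩,
  ⟨1, 3, -3, 0, -1, -1, 2, 0⟩,
  ⟨-1, 1, 0, 0, 0, -1, 0, 1⟩,
  ⟨0, 1, 0, 0, 0, 0, 0, -1⟩,
  ⟨-1, -1, 2, 1, 0, 1, -1, 0⟩,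
  ⟨1, 2, -2, 1, -1, -1, 1, 0⟩,
  ⟨-2, 0, 2, -1, 1, 1, -1, 0⟩,
  ⟨0, 3, -2, -1, 0, -1, 1, 0⟩,
  ⟨-1, 0, -1, -1, 1, -1, 0, 1⟩,
  ⟨-2, -1, 1, -1, 1, 0, 0, 1⟩,
  ⟨1, -1, -1, 1, 0, 0, 0, -1⟩,
  ⟨0, -2, 1, 1, 0, 1, 0, -1⟩,
  ⟨-3, -1, 2, -2, 2, 0, -1, 1⟩,
  ⟨-1, 2, -2, -2, 1, -2, 1, 1⟩,
  ⟨0, -3, 2, 2, 0, 1, -1, -1⟩,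
  ⟨2, 0, -2, 2, -1, -1, 1, -1⟩,
  ⟨-1, -3, 2, 1, 1, 1, -2, 0⟩,
  ⟨1, 1, -2, 1, -1, -1, 2, 0⟩,
  ⟨-2, -2, 2, -1, 2, 1, -2, 0⟩,
  ⟨0, 2, -2, -1, 0, -1, 2, 0⟩,
  ⟨-2, -2, 2, 0, 1, 1, -1, 1⟩,
  ⟨0, 1, -2, 0, 0, -1, 1, 1⟩,
  ⟨-2, 0, 0, -2, 2, 0, -1, 1⟩,
  ⟨-2, 1, 0, -2, 1, 0, 1, 1⟩,
  ⟨1, -2, 0, 2, 0, 1, -1, -1⟩,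
  ⟨1, -1, 0, 2, -1, 1, 1, -1⟩,
  ⟨-1, -2, 2, 0, 1, 2, -1, -1⟩,
  ⟨1, 1, -2, 0, 0, 0, 1, -1⟩,
  ⟨0, -1, 0, 1, 0, 1, 0, 0⟩,
  ⟨-1, 0, 0, -1, 1, 1, 0, 0⟩,
  ⟨-3, 0, 1, -2, 2, -1, -1, 2⟩,
  ⟨-2, 2, -1, -2, 1, -2, 1, 2⟩,
  ⟨-2, -2, 3, 0, 1, 1, -1, 0⟩,
  ⟨1, 2, -3, 0, 0, -2, 1, 0⟩,
  ⟨1, -2, 1, 2, 0, 1, -1, -2⟩,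
  ⟨2, 0, -1, 2, -1, 0, 1, -2⟩,
  ⟨-2, 2, -1, -3, 2, -1, 0, 1⟩,
  ⟨-3, 1, 1, -3, 2, 0, 0, 1⟩,
  ⟨2, -1, -1, 3, -1, 0, 0, -1⟩,
  ⟨1, -2, 1, 3, -1, 1, 0, -1⟩,
  ⟨-3, 0, 1, -2, 2, 0, -1, 2⟩,
  ⟨-2, 2, -1, -2, 1, -1, 1, 2⟩,
  ⟨-2, -2, 3, 0, 1, 2, -1, 0⟩,
  ⟨1, 2, -3, 0, 0, -1, 1, 0⟩,
  ⟨1, -2, 1, 2, 0, 2, -1, -2⟩,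
  ⟨2, 0, -1, 2, -1, 1, 1, -2⟩,
  ⟨0, 0, 0, 1, 0, -1, 0, 0⟩,
  ⟨-1, 1, 0, -1, 1, -1, 0, 0⟩,
  ⟨-2, -1, 2, 0, 1, 0, -1, 1⟩,
  ⟨0, 2, -2, 0, 0, -2, 1, 1⟩,
  ⟨-2, 1, 0, -2, 2, -1, -1, 1⟩,
  ⟨-2, 2, 0, -2, 1, -1, 1, 1⟩,
  ⟨1, -1, 0, 2, 0, 0, -1, -1⟩,
  ⟨1, 0, 0, 2, -1, 0, 1, -1⟩,
  ⟨-1, -1, 2, 0, 1, 1, -1, -1⟩,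
  ⟨1, 2, -2, 0, 0, -1, 1, -1⟩,
  ⟨-1, -2, 2, 1, 1, 1, -2, 0⟩,
  ⟨1, 2, -2, 1, -1, -1, 2, 0⟩,
  ⟨-2, -1, 2, -1, 2, 1, -2, 0⟩,
  ⟨0, 3, -2, -1, 0, -1, 2, 0⟩,
  ⟨-3, 0, 2, -2, 2, 1, -1, 1⟩,
  ⟨-1, 3, -2, -2, 1, -1, 1, 1⟩,
  ⟨0, -2, 2, 2, 0, 2, -1, -1⟩,
  ⟨2, 1, -2, 2, -1, 0, 1, -1⟩,
  ⟨-1, 2, -1, -1, 1, -1, 0, 1⟩,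
  ⟨-2, 1, 1, -1, 1, 0, 0, 1⟩,
  ⟨1, 1, -1, 1, 0, 0, 0, -1⟩,
  ⟨0, 0, 1, 1, 0, 1, 0, -1⟩,
  ⟨-2, -1, 1, -1, 2, 0, -1, 1⟩,
  ⟨-1, 1, -1, -1, 1, -1, 1, 1⟩,
  ⟨0, -2, 1, 1, 1, 1, -1, -1⟩,
  ⟨1, 0, -1, 1, 0, 0, 1, -1⟩,
  ⟨0, 0, -1, 0, 1, 0, 0, 0⟩,
  ⟨-1, -1, 1, 0, 1, 1, 0, 0⟩,
  ⟨-2, 1, 0, -2, 2, -1, 0, 1⟩,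
  ⟨1, -1, 0, 2, 0, 0, 0, -1⟩,
  ⟨-1, -2, 2, 1, 1, 1, -1, 0⟩,
  ⟨1, 1, -2, 1, 0, -1, 1, 0⟩,
  ⟨-2, -1, 2, -1, 2, 1, -1, 0⟩,
  ⟨0, 2, -2, -1, 1, -1, 1, 0⟩,
  ⟨-2, 1, 0, -2, 2, 0, 0, 1⟩,
  ⟨1, -1, 0, 2, 0, 1, 0, -1⟩,
  ⟨0, 1, -1, 0, 1, -1, 0, 0⟩,
  ⟨-1, 0, 1, 0, 1, 0, 0, 0⟩,
  ⟨-2, 0, 1, -1, 2, 0, -1, 1⟩,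
  ⟨-1, 2, -1, -1, 1, -1, 1, 1⟩,
  ⟨0, -1, 1, 1, 1, 1, -1, -1⟩,
  ⟨1, 1, -1, 1, 0, 0, 1, -1⟩,
  ⟨-2, -1, 1, -2, 1, 0, -1, 1⟩,
  ⟨-1, 1, -1, -2, 0, -1, 1, 1⟩,
  ⟨1, -3, 1, 2, -1, 1, -1, -1⟩,
  ⟨2, -1, -1, 2, -2, 0, 1, -1⟩,
  ⟨1, -1, -1, 1, -1, 0, 0, 0⟩,
  ⟨0, -2, 1, 1, -1, 1, 0, 0⟩,
  ⟨0, 0, -1, -1, 0, 0, 0, 0⟩,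
  ⟨-1, -1, 1, -1, 0, 1, 0, 0⟩,
  ⟨-3, -1, 2, -2, 1, 0, -1, 2⟩,
  ⟨-1, 2, -2, -2, 0, -2, 1, 2⟩,
  ⟨1, -3, 2, 2, -1, 2, -1, -2⟩,
  ⟨3, 0, -2, 2, -2, 0, 1, -2⟩,
  ⟨-2, -2, 2, -1, 1, 1, -2, 1⟩,
  ⟨0, 2, -2, -1, -1, -1, 2, 1⟩,
  ⟨-2, 1, 0, -3, 1, 0, 0, 1⟩,
  ⟨2, -2, 0, 3, -2, 1, 0, -1⟩,
  ⟨0, -3, 2, 1, 0, 2, -2, -1⟩,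
  ⟨2, 1, -2, 1, -2, 0, 2, -1⟩,
  ⟨-1, -2, 2, 0, 0, 2, -1, 0⟩,
  ⟨1, 1, -2, 0, -1, 0, 1, 0⟩,
  ⟨-2, 2, -1, -3, 1, -2, 0, 2⟩,
  ⟨-3, 1, 1, -3, 1, -1, 0, 2⟩,
  ⟨-1, -3, 3, 1, 0, 1, -2, 0⟩,
  ⟨2, 2, -3, 1, -2, -2, 2, 0⟩,
  ⟨-2, -2, 3, -1, 1, 1, -2, 0⟩,
  ⟨1, 3, -3, -1, -1, -2, 2, 0⟩,
  ⟨3, -1, -1, 3, -2, 0, 0, -2⟩,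
  ⟨2, -2, 1, 3, -2, 1, 0, -2⟩,
  ⟨-3, -1, 3, -2, 1, 1, -1, 1⟩,
  ⟨0, 3, -3, -2, 0, -2, 1, 1⟩,
  ⟨0, -3, 3, 2, -1, 2, -1, -1⟩,
  ⟨3, 1, -3, 2, -2, -1, 1, -1⟩,
  ⟨-2, 2, -1, -3, 1, -1, 0, 2⟩,
  ⟨-3, 1, 1, -3, 1, 0, 0, 2⟩,
  ⟨-1, -3, 3, 1, 0, 2, -2, 0⟩,
  ⟨2, 2, -3, 1, -2, -1, 2, 0⟩,
  ⟨-2, -2, 3, -1, 1, 2, -2, 0⟩,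
  ⟨1, 3, -3, -1, -1, -1, 2, 0⟩,
  ⟨3, -1, -1, 3, -2, 1, 0, -2⟩,
  ⟨2, -2, 1, 3, -2, 2, 0, -2⟩,
  ⟨-1, -1, 2, 0, 0, 0, -1, 0⟩,
  ⟨1, 2, -2, 0, -1, -2, 1, 0⟩,
  ⟨-2, -1, 2, -1, 1, 0, -2, 1⟩,
  ⟨0, 3, -2, -1, -1, -2, 2, 1⟩,
  ⟨-2, 2, 0, -3, 1, -1, 0, 1⟩,
  ⟨2, -1, 0, 3, -2, 0, 0, -1⟩,
  ⟨0, -2, 2, 1, 0, 1, -2, -1⟩,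
  ⟨2, 2, -2, 1, -2, -1, 2, -1⟩,
  ⟨-3, 0, 2, -2, 1, 0, -1, 2⟩,
  ⟨-1, 3, -2, -2, 0, -2, 1, 2⟩,
  ⟨1, -2, 2, 2, -1, 2, -1, -2⟩,
  ⟨3, 1, -2, 2, -2, 0, 1, -2⟩,
  ⟨1, 1, -1, 1, -1, -1, 0, 0⟩,
  ⟨0, 0, 1, 1, -1, 0, 0, 0⟩,
  ⟨0, 2, -1, -1, 0, -1, 0, 0⟩,
  ⟨-1, 1, 1, -1, 0, 0, 0, 0⟩,
  ⟨-2, 1, 1, -2, 1, 0, -1, 1⟩,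
  ⟨-1, 3, -1, -2, 0, -1, 1, 1⟩,
  ⟨1, -1, 1, 2, -1, 1, -1, -1⟩,
  ⟨2, 1, -1, 2, -2, 0, 1, -1⟩,
  ⟨-2, 0, 0, -2, 1, -1, 0, 2⟩,
  ⟨-1, -3, 2, 0, 1, 1, -2, 0⟩,
  ⟨1, 1, -2, 0, -1, -1, 2, 0⟩,
  ⟨2, -2, 0, 2, -1, 1, 0, -2⟩,
  ⟨-1, -1, 0, -1, 1, 0, -1, 1⟩,
  ⟨-1, 0, 0, -1, 0, 0, 1, 1⟩,
  ⟨1, -2, 0, 1, 0, 1, -1, -1⟩,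
  ⟨1, -1, 0, 1, -1, 1, 1, -1⟩,
  ⟨-3, 0, 1, -3, 2, -1, -1, 2⟩,
  ⟨-2, 2, -1, -3, 1, -2, 1, 2⟩,
  ⟨2, -3, 1, 3, -1, 1, -1, -2⟩,
  ⟨3, -1, -1, 3, -2, 0, 1, -2⟩,
  ⟨-2, -3, 3, 0, 1, 1, -2, 1⟩,
  ⟨1, 2, -3, 0, -1, -2, 2, 1⟩,
  ⟨-1, -3, 3, 0, 1, 2, -2, -1⟩,
  ⟨2, 2, -3, 0, -1, -1, 2, -1⟩,
  ⟨-1, -3, 3, 1, 0, 2, -1, 0⟩,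
  ⟨2, 1, -3, 1, -1, -1, 1, 0⟩,
  ⟨-2, -2, 3, -1, 1, 2, -1, 0⟩,
  ⟨1, 2, -3, -1, 0, -1, 1, 0⟩,
  ⟨-1, 1, -1, -2, 1, 0, 0, 1⟩,
  ⟨-2, 0, 1, -2, 1, 1, 0, 1⟩,
  ⟨2, -1, -1, 2, -1, 1, 0, -1⟩,
  ⟨1, -2, 1, 2, -1, 2, 0, -1⟩,
  ⟨-3, 0, 2, -3, 2, 0, -1, 1⟩,
  ⟨-1, 3, -2, -3, 1, -2, 1, 1⟩,
  ⟨1, -3, 2, 3, -1, 1, -1, -1⟩,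
  ⟨3, 0, -2, 3, -2, -1, 1, -1⟩,
  ⟨-3, -1, 2, -2, 2, 0, -2, 2⟩,
  ⟨-1, 3, -2, -2, 0, -2, 2, 2⟩,
  ⟨1, -3, 2, 2, 0, 2, -2, -2⟩,
  ⟨3, 1, -2, 2, -2, 0, 2, -2⟩,
  ⟨-3, 0, 2, -3, 2, 1, -1, 1⟩,
  ⟨-1, 3, -2, -3, 1, -1, 1, 1⟩,
  ⟨1, -3, 2, 3, -1, 2, -1, -1⟩,
  ⟨3, 0, -2, 3, -2, 0, 1, -1⟩,
  ⟨-1, 2, -1, -2, 1, -2, 0, 1⟩,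
  ⟨-2, 1, 1, -2, 1, -1, 0, 1⟩,
  ⟨2, 0, -1, 2, -1, -1, 0, -1⟩,
  ⟨1, -1, 1, 2, -1, 0, 0, -1⟩,
  ⟨-1, -2, 3, 1, 0, 1, -1, 0⟩,
  ⟨2, 2, -3, 1, -1, -2, 1, 0⟩,
  ⟨-2, -1, 3, -1, 1, 1, -1, 0⟩,
  ⟨1, 3, -3, -1, 0, -2, 1, 0⟩,
  ⟨-2, -2, 3, 0, 1, 1, -2, 1⟩,
  ⟨1, 3, -3, 0, -1, -2, 2, 1⟩,
  ⟨-1, -2, 3, 0, 1, 2, -2, -1⟩,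
  ⟨2, 3, -3, 0, -1, -1, 2, -1⟩,
  ⟨-3, 1, 1, -3, 2, 0, -1, 2⟩,
  ⟨-2, 3, -1, -3, 1, -1, 1, 2⟩,
  ⟨2, -2, 1, 3, -1, 2, -1, -2⟩,
  ⟨3, 0, -1, 3, -2, 1, 1, -2⟩,
  ⟨-1, 1, 0, -1, 1, -1, -1, 1⟩,
  ⟨-1, 2, 0, -1, 0, -1, 1, 1⟩,
  ⟨1, 0, 0, 1, 0, 0, -1, -1⟩,
  ⟨1, 1, 0, 1, -1, 0, 1, -1⟩,
  ⟨-2, 2, 0, -2, 1, -1, 0, 2⟩,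
  ⟨-1, -1, 2, 0, 1, 1, -2, 0⟩,
  ⟨1, 3, -2, 0, -1, -1, 2, 0⟩,
  ⟨2, 0, 0, 2, -1, 1, 0, -2⟩,
  ⟨-2, -1, 1, -2, 2, 0, -1, 1⟩,
  ⟨-1, 1, -1, -2, 1, -1, 1, 1⟩,
  ⟨1, -3, 1, 2, 0, 1, -1, -1⟩,
  ⟨2, -1, -1, 2, -1, 0, 1, -1⟩,
  ⟨1, -1, -1, 1, 0, 0, 0, 0⟩,
  ⟨0, -2, 1, 1, 0, 1, 0, 0⟩,
  ⟨0, 0, -1, -1, 1, 0, 0, 0⟩,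
  ⟨-1, -1, 1, -1, 1, 1, 0, 0⟩,
  ⟨-3, -1, 2, -2, 2, 0, -1, 2⟩,
  ⟨-1, 2, -2, -2, 1, -2, 1, 2⟩,
  ⟨1, -3, 2, 2, 0, 2, -1, -2⟩,
  ⟨3, 0, -2, 2, -1, 0, 1, -2⟩,
  ⟨-2, -2, 2, -1, 2, 1, -2, 1⟩,
  ⟨0, 2, -2, -1, 0, -1, 2, 1⟩,
  ⟨-2, 1, 0, -3, 2, 0, 0, 1⟩,
  ⟨2, -2, 0, 3, -1, 1, 0, -1⟩,
  ⟨0, -3, 2, 1, 1, 2, -2, -1⟩,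
  ⟨2, 1, -2, 1, -1, 0, 2, -1⟩,
  ⟨-1, -2, 2, 0, 1, 2, -1, 0⟩,
  ⟨1, 1, -2, 0, 0, 0, 1, 0⟩,
  ⟨-2, 2, -1, -3, 2, -2, 0, 2⟩,
  ⟨-3, 1, 1, -3, 2, -1, 0, 2⟩,
  ⟨-1, -3, 3, 1, 1, 1, -2, 0⟩,
  ⟨2, 2, -3, 1, -1, -2, 2, 0⟩,
  ⟨-2, -2, 3, -1, 2, 1, -2, 0⟩,
  ⟨1, 3, -3, -1, 0, -2, 2, 0⟩,
  ⟨3, -1, -1, 3, -1, 0, 0, -2⟩,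
  ⟨2, -2, 1, 3, -1, 1, 0, -2⟩,
  ⟨-3, -1, 3, -2, 2, 1, -1, 1⟩,
  ⟨0, 3, -3, -2, 1, -2, 1, 1⟩,
  ⟨0, -3, 3, 2, 0, 2, -1, -1⟩,
  ⟨3, 1, -3, 2, -1, -1, 1, -1⟩,
  ⟨-2, 2, -1, -3, 2, -1, 0, 2⟩,
  ⟨-3, 1, 1, -3, 2, 0, 0, 2⟩,
  ⟨-1, -3, 3, 1, 1, 2, -2, 0⟩,
  ⟨2, 2, -3, 1, -1, -1, 2, 0⟩,
  ⟨-2, -2, 3, -1, 2, 2, -2, 0⟩,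
  ⟨1, 3, -3, -1, 0, -1, 2, 0⟩,
  ⟨3, -1, -1, 3, -1, 1, 0, -2⟩,
  ⟨2, -2, 1, 3, -1, 2, 0, -2⟩,
  ⟨-1, -1, 2, 0, 1, 0, -1, 0⟩,
  ⟨1, 2, -2, 0, 0, -2, 1, 0⟩,
  ⟨-2, -1, 2, -1, 2, 0, -2, 1⟩,
  ⟨0, 3, -2, -1, 0, -2, 2, 1⟩,
  ⟨-2, 2, 0, -3, 2, -1, 0, 1⟩,
  ⟨2, -1, 0, 3, -1, 0, 0, -1⟩,
  ⟨0, -2, 2, 1, 1, 1, -2, -1⟩,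
  ⟨2, 2, -2, 1, -1, -1, 2, -1⟩,
  ⟨-3, 0, 2, -2, 2, 0, -1, 2⟩,
  ⟨-1, 3, -2, -2, 1, -2, 1, 2⟩,
  ⟨1, -2, 2, 2, 0, 2, -1, -2⟩,
  ⟨3, 1, -2, 2, -1, 0, 1, -2⟩,
  ⟨1, 1, -1, 1, 0, -1, 0, 0⟩,
  ⟨0, 0, 1, 1, 0, 0, 0, 0⟩,
  ⟨0, 2, -1, -1, 1, -1, 0, 0⟩,
  ⟨-1, 1, 1, -1, 1, 0, 0, 0⟩,
  ⟨-2, 1, 1, -2, 2, 0, -1, 1⟩,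
  ⟨-1, 3, -1, -2, 1, -1, 1, 1⟩,
  ⟨1, -1, 1, 2, 0, 1, -1, -1⟩,
  ⟨2, 1, -1, 2, -1, 0, 1, -1⟩,
  ⟨-1, -1, 1, -1, 0, 0, -1, 1⟩,
  ⟨0, 1, -1, -1, -1, -1, 1, 1⟩,
  ⟨1, -2, 1, 1, -1, 1, -1, -1⟩,
  ⟨2, 0, -1, 1, -2, 0, 1, -1⟩,
  ⟨1, 0, -1, 0, -1, 0, 0, 0⟩,
  ⟨0, -1, 1, 0, -1, 1, 0, 0⟩,
  ⟨-1, 1, 0, -2, 0, -1, 0, 1⟩,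
  ⟨2, -1, 0, 2, -2, 0, 0, -1⟩,
  ⟨0, -2, 2, 1, -1, 1, -1, 0⟩,
  ⟨2, 1, -2, 1, -2, -1, 1, 0⟩,
  ⟨-1, -1, 2, -1, 0, 1, -1, 0⟩,
  ⟨1, 2, -2, -1, -1, -1, 1, 0⟩,
  ⟨-1, 1, 0, -2, 0, 0, 0, 1⟩,
  ⟨2, -1, 0, 2, -2, 1, 0, -1⟩,
  ⟨1, 1, -1, 0, -1, -1, 0, 0⟩,
  ⟨0, 0, 1, 0, -1, 0, 0, 0⟩,
  ⟨-1, 0, 1, -1, 0, 0, -1, 1⟩,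
  ⟨0, 2, -1, -1, -1, -1, 1, 1⟩,
  ⟨1, -1, 1, 1, -1, 1, -1, -1⟩,
  ⟨2, 1, -1, 1, -2, 0, 1, -1⟩,
  ⟨0, 0, -1, -1, 0, -1, 0, 1⟩,
  ⟨-1, -1, 1, -1, 0, 0, 0, 1⟩,
  ⟨2, -1, -1, 1, -1, 0, 0, -1⟩,
  ⟨1, -2, 1, 1, -1, 1, 0, -1⟩,
  ⟨-2, -1, 2, -2, 1, 0, -1, 1⟩,
  ⟨0, 2, -2, -2, 0, -2, 1, 1⟩,
  ⟨1, -3, 2, 2, -1, 1, -1, -1⟩,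
  ⟨3, 0, -2, 2, -2, -1, 1, -1⟩,
  ⟨0, -3, 2, 1, 0, 1, -2, 0⟩,
  ⟨2, 1, -2, 1, -2, -1, 2, 0⟩,
  ⟨-1, -2, 2, -1, 1, 1, -2, 0⟩,
  ⟨1, 2, -2, -1, -1, -1, 2, 0⟩,
  ⟨-1, -2, 2, 0, 0, 1, -1, 1⟩,
  ⟨1, 1, -2, 0, -1, -1, 1, 1⟩,
  ⟨-1, 0, 0, -2, 1, 0, -1, 1⟩,
  ⟨-1, 1, 0, -2, 0, 0, 1, 1⟩,
  ⟨2, -2, 0, 2, -1, 1, -1, -1⟩,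
  ⟨2, -1, 0, 2, -2, 1, 1, -1⟩,
  ⟨0, -2, 2, 0, 0, 2, -1, -1⟩,
  ⟨2, 1, -2, 0, -1, 0, 1, -1⟩,
  ⟨1, -1, 0, 1, -1, 1, 0, 0⟩,
  ⟨0, 0, 0, -1, 0, 1, 0, 0⟩,
  ⟨-2, 0, 1, -2, 1, -1, -1, 2⟩,
  ⟨-1, 2, -1, -2, 0, -2, 1, 2⟩,
  ⟨-1, -2, 3, 0, 0, 1, -1, 0⟩,
  ⟨2, 2, -3, 0, -1, -2, 1, 0⟩,
  ⟨2, -2, 1, 2, -1, 1, -1, -2⟩,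
  ⟨3, 0, -1, 2, -2, 0, 1, -2⟩,
  ⟨-1, 2, -1, -3, 1, -1, 0, 1⟩,
  ⟨-2, 1, 1, -3, 1, 0, 0, 1⟩,
  ⟨3, -1, -1, 3, -2, 0, 0, -1⟩,
  ⟨2, -2, 1, 3, -2, 1, 0, -1⟩,
  ⟨-2, 0, 1, -2, 1, 0, -1, 2⟩,
  ⟨-1, 2, -1, -2, 0, -1, 1, 2⟩,
  ⟨-1, -2, 3, 0, 0, 2, -1, 0⟩,
  ⟨2, 2, -3, 0, -1, -1, 1, 0⟩,
  ⟨2, -2, 1, 2, -1, 2, -1, -2⟩,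
  ⟨3, 0, -1, 2, -2, 1, 1, -2⟩,
  ⟨1, 0, 0, 1, -1, -1, 0, 0⟩,
  ⟨0, 1, 0, -1, 0, -1, 0, 0⟩,
  ⟨-1, -1, 2, 0, 0, 0, -1, 1⟩,
  ⟨1, 2, -2, 0, -1, -2, 1, 1⟩,
  ⟨-1, 1, 0, -2, 1, -1, -1, 1⟩,
  ⟨-1, 2, 0, -2, 0, -1, 1, 1⟩,
  ⟨2, -1, 0, 2, -1, 0, -1, -1⟩,
  ⟨2, 0, 0, 2, -2, 0, 1, -1⟩,
  ⟨0, -1, 2, 0, 0, 1, -1, -1⟩,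
  ⟨2, 2, -2, 0, -1, -1, 1, -1⟩,
  ⟨0, -2, 2, 1, 0, 1, -2, 0⟩,
  ⟨2, 2, -2, 1, -2, -1, 2, 0⟩,
  ⟨-1, -1, 2, -1, 1, 1, -2, 0⟩,
  ⟨1, 3, -2, -1, -1, -1, 2, 0⟩,
  ⟨-2, 0, 2, -2, 1, 1, -1, 1⟩,
  ⟨0, 3, -2, -2, 0, -1, 1, 1⟩,
  ⟨1, -2, 2, 2, -1, 2, -1, -1⟩,
  ⟨3, 1, -2, 2, -2, 0, 1, -1⟩,
  ⟨0, 2, -1, -1, 0, -1, 0, 1⟩,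
  ⟨-1, 1, 1, -1, 0, 0, 0, 1⟩,
  ⟨2, 1, -1, 1, -1, 0, 0, -1⟩,
  ⟨1, 0, 1, 1, -1, 1, 0, -1⟩,
  ⟨0, -3, 2, 1, 0, 1, -1, 0⟩,
  ⟨2, 0, -2, 1, -1, -1, 1, 0⟩,
  ⟨-1, -2, 2, -1, 1, 1, -1, 0⟩,
  ⟨1, 1, -2, -1, 0, -1, 1, 0⟩,
  ⟨0, -1, 0, 0, 0, 0, 0, 1⟩,
  ⟨1, -1, 0, 0, 0, 1, 0, -1⟩,
  ⟨-1, -3, 3, 0, 1, 1, -2, 0⟩,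
  ⟨2, 2, -3, 0, -1, -2, 2, 0⟩,
  ⟨-2, -2, 3, -1, 1, 1, -1, 1⟩,
  ⟨1, 2, -3, -1, 0, -2, 1, 1⟩,
  ⟨-2, 0, 1, -3, 2, 0, -1, 1⟩,
  ⟨-1, 2, -1, -3, 1, -1, 1, 1⟩,
  ⟨2, -3, 1, 3, -1, 1, -1, -1⟩,
  ⟨3, -1, -1, 3, -2, 0, 1, -1⟩,
  ⟨0, -3, 3, 1, 0, 2, -1, -1⟩,
  ⟨3, 1, -3, 1, -1, -1, 1, -1⟩,
  ⟨-1, 1, -1, -2, 1, -1, 0, 2⟩,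
  ⟨-2, 0, 1, -2, 1, 0, 0, 2⟩,
  ⟨3, -1, -1, 2, -1, 1, 0, -2⟩,
  ⟨2, -2, 1, 2, -1, 2, 0, -2⟩,
  ⟨-1, -1, 1, -1, 1, 1, -1, 1⟩,
  ⟨0, 1, -1, -1, 0, 0, 1, 1⟩,
  ⟨1, -2, 1, 1, 0, 2, -1, -1⟩,
  ⟨2, 0, -1, 1, -1, 1, 1, -1⟩,
  ⟨-2, -1, 2, -2, 2, 0, -2, 1⟩,
  ⟨0, 3, -2, -2, 0, -2, 2, 1⟩,
  ⟨1, -3, 2, 2, 0, 1, -2, -1⟩,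
  ⟨3, 1, -2, 2, -2, -1, 2, -1⟩,
  ⟨-2, 1, 0, -3, 2, -1, -1, 2⟩,
  ⟨-2, 2, 0, -3, 1, -1, 1, 2⟩,
  ⟨3, -2, 0, 3, -1, 1, -1, -2⟩,
  ⟨3, -1, 0, 3, -2, 1, 1, -2⟩,
  ⟨-2, -1, 2, -2, 2, 1, -2, 1⟩,
  ⟨0, 3, -2, -2, 0, -1, 2, 1⟩,
  ⟨1, -3, 2, 2, 0, 2, -2, -1⟩,
  ⟨3, 1, -2, 2, -2, 0, 2, -1⟩,
  ⟨-1, 0, 1, -1, 1, -1, -1, 1⟩,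
  ⟨0, 2, -1, -1, 0, -2, 1, 1⟩,
  ⟨1, -1, 1, 1, 0, 0, -1, -1⟩,
  ⟨2, 1, -1, 1, -1, -1, 1, -1⟩,
  ⟨-1, 2, -1, -2, 1, -2, 0, 2⟩,
  ⟨-2, 1, 1, -2, 1, -1, 0, 2⟩,
  ⟨3, 0, -1, 2, -1, 0, 0, -2⟩,
  ⟨2, -1, 1, 2, -1, 1, 0, -2⟩,
  ⟨-2, -1, 3, -1, 1, 1, -1, 1⟩,
  ⟨1, 3, -3, -1, 0, -2, 1, 1⟩,
  ⟨-2, 1, 1, -3, 2, 0, -1, 1⟩,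
  ⟨-1, 3, -1, -3, 1, -1, 1, 1⟩,
  ⟨2, -2, 1, 3, -1, 1, -1, -1⟩,
  ⟨3, 0, -1, 3, -2, 0, 1, -1⟩,
  ⟨0, -2, 3, 1, 0, 2, -1, -1⟩,
  ⟨3, 2, -3, 1, -1, -1, 1, -1⟩,
  ⟨-1, -2, 3, 0, 1, 2, -2, 0⟩,
  ⟨2, 3, -3, 0, -1, -1, 2, 0⟩,
  ⟨0, 1, 0, 0, 0, -1, 0, 1⟩,
  ⟨1, 1, 0, 0, 0, 0, 0, -1⟩,
  ⟨0, -1, 2, 1, 0, 1, -1, 0⟩,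
  ⟨2, 2, -2, 1, -1, -1, 1, 0⟩,
  ⟨-1, 0, 2, -1, 1, 1, -1, 0⟩,
  ⟨1, 3, -2, -1, 0, -1, 1, 0⟩,
  ⟨0, -2, 1, 0, 1, 1, -1, 0⟩,
  ⟨1, 0, -1, 0, 0, 0, 1, 0⟩,
  ⟨-2, 1, 0, -3, 2, -1, 0, 2⟩,
  ⟨3, -2, 0, 3, -1, 1, 0, -2⟩,
  ⟨-2, -1, 2, -2, 2, 1, -1, 1⟩,
  ⟨0, 2, -2, -2, 1, -1, 1, 1⟩,
  ⟨1, -3, 2, 2, 0, 2, -1, -1⟩,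
  ⟨3, 0, -2, 2, -1, 0, 1, -1⟩,
  ⟨-2, -2, 3, -1, 2, 1, -2, 1⟩,
  ⟨1, 3, -3, -1, 0, -2, 2, 1⟩,
  ⟨0, -3, 3, 1, 1, 2, -2, -1⟩,
  ⟨3, 2, -3, 1, -1, -1, 2, -1⟩,
  ⟨-2, 0, 2, -2, 2, 0, -1, 1⟩,
  ⟨0, 3, -2, -2, 1, -2, 1, 1⟩,
  ⟨1, -2, 2, 2, 0, 1, -1, -1⟩,
  ⟨3, 1, -2, 2, -1, -1, 1, -1⟩,
  ⟨-2, 2, 0, -3, 2, -1, 0, 2⟩,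
  ⟨3, -1, 0, 3, -1, 1, 0, -2⟩,
  ⟨0, 0, 1, 0, 1, 0, -1, 0⟩,
  ⟨1, 2, -1, 0, 0, -1, 1, 0⟩,
  ⟨0, 0, 0, -1, 0, -1, 0, 1⟩,
  ⟨2, -1, 0, 1, -1, 0, 0, -1⟩,
  ⟨1, -1, 0, 0, 0, 0, -1, 0⟩,
  ⟨1, 0, 0, 0, -1, 0, 1, 0⟩,
  ⟨2, 0, -1, 1, -1, -1, 0, 0⟩,
  ⟨1, -1, 1, 1, -1, 0, 0, 0⟩,
  ⟨1, 1, -1, -1, 0, -1, 0, 0⟩,
  ⟨0, 0, 1, -1, 0, 0, 0, 0⟩,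
  ⟨0, -1, 1, 0, 0, 0, -1, 1⟩,
  ⟨1, 1, -1, 0, -1, -1, 1, 1⟩,
  ⟨1, -1, 1, 0, 0, 1, -1, -1⟩,
  ⟨2, 1, -1, 0, -1, 0, 1, -1⟩,
  ⟨2, 0, -1, 1, -1, 0, 0, 0⟩,
  ⟨1, -1, 1, 1, -1, 1, 0, 0⟩,
  ⟨1, 1, -1, -1, 0, 0, 0, 0⟩,
  ⟨0, 0, 1, -1, 0, 1, 0, 0⟩,
  ⟨1, 0, 0, 0, 0, 0, -1, 0⟩,
  ⟨1, 1, 0, 0, -1, 0, 1, 0⟩,
  ⟨0, 1, 0, -1, 0, 0, 0, 1⟩,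
  ⟨2, 0, 0, 1, -1, 1, 0, -1⟩,
  ⟨1, -1, 0, 0, 0, 0, 0, 0⟩,
  ⟨0, 1, -1, -2, 1, -1, 0, 1⟩,
  ⟨-1, 0, 1, -2, 1, 0, 0, 1⟩,
  ⟨3, -1, -1, 2, -1, 0, 0, -1⟩,
  ⟨2, -2, 1, 2, -1, 1, 0, -1⟩,
  ⟨1, -2, 1, 1, 0, 1, -1, 0⟩,
  ⟨2, 0, -1, 1, -1, 0, 1, 0⟩,
  ⟨0, -1, 1, -1, 1, 1, -1, 0⟩,
  ⟨1, 1, -1, -1, 0, 0, 1, 0⟩,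
  ⟨-1, -1, 2, -1, 1, 0, -1, 1⟩,
  ⟨1, 2, -2, -1, 0, -2, 1, 1⟩,
  ⟨1, -2, 2, 1, 0, 1, -1, -1⟩,
  ⟨3, 1, -2, 1, -1, -1, 1, -1⟩,
  ⟨-1, 1, 0, -2, 1, -1, 0, 2⟩,
  ⟨0, -2, 2, 0, 1, 1, -2, 0⟩,
  ⟨2, 2, -2, 0, -1, -1, 2, 0⟩,
  ⟨3, -1, 0, 2, -1, 1, 0, -2⟩,
  ⟨-1, -1, 2, -1, 1, 1, -1, 1⟩,
  ⟨1, 2, -2, -1, 0, -1, 1, 1⟩,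
  ⟨1, -2, 2, 1, 0, 2, -1, -1⟩,
  ⟨3, 1, -2, 1, -1, 0, 1, -1⟩,
  ⟨1, -1, 1, 1, 0, 0, -1, 0⟩,
  ⟨2, 1, -1, 1, -1, -1, 1, 0⟩,
  ⟨0, 0, 1, -1, 1, 0, -1, 0⟩,
  ⟨1, 2, -1, -1, 0, -1, 1, 0⟩,
  ⟨0, 2, -1, -2, 1, -1, 0, 1⟩,
  ⟨-1, 1, 1, -2, 1, 0, 0, 1⟩,
  ⟨3, 0, -1, 2, -1, 0, 0, -1⟩,
  ⟨2, -1, 1, 2, -1, 1, 0, -1⟩,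
  ⟨1, 1, 0, 0, 0, 0, 0, 0⟩]

/-- Units moving the norm two elements to representatives. -/
def twoUnit : List Nat := [
  119,
  92,
  92,
  93,
  67,
  94,
  96,
  95,
  114,
  43,
  116,
  117,
  83,
  115,
  117,
  116,
  118,
  73,
  91,
  94,
  90,
  31,
  113,
  114,
  41,
  85,
  115,
  118,
  42,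
  74,
  66,
  97,
  119,
  119,
  113,
  97,
  98,
  114,
  89,
  98,
  84,
  90,
  74,
  97,
  98,
  89,
  114,
  16,
  98,
  97,
  104,
  103,
  107,
  40,
  33,
  111,
  112,
  116,
  59,
  38,
  82,
  60,
  85,
  70,
  73,
  86,
  71,
  72,
  16,
  26,
  101,
  96,
  106,
  100,
  97,
  87,
  107,
  110,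
  107,
  115,
  109,
  111,
  112,
  108,
  39,
  110,
  111,
  99,
  102,
  112,
  95,
  88,
  118,
  96,
  81,
  54,
  73,
  44,
  37,
  37,
  86,
  40,
  109,
  38,
  39,
  108,
  68,
  83,
  84,
  67,
  71,
  9,
  67,
  24,
  43,
  70,
  54,
  71,
  72,
  18,
  73,
  44,
  56,
  71,
  74,
  74,
  66,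
  69,
  28,
  69,
  88,
  95,
  113,
  87,
  109,
  105,
  106,
  108,
  72,
  41,
  107,
  91,
  95,
  91,
  117,
  92,
  93,
  93,
  94,
  96,
  87,
  88,
  115,
  105,
  8,
  116,
  106,
  118,
  105,
  56,
  118,
  106,
  109,
  43,
  107,
  110,
  106,
  69,
  74,
  23,
  66,
  17,
  68,
  41,
  42,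
  67,
  66,
  69,
  117,
  44,
  43,
  116,
  43,
  105,
  20,
  44,
  41,
  68,
  32,
  42,
  89,
  91,
  94,
  90,
  119,
  42,
  115,
  15,
  117,
  90,
  89,
  68,
  92,
  93,
  113,
  114,
  19,
  41,
  42,
  113,
  52,
  35,
  108,
  51,
  103,
  36,
  119,
  104,
  62,
  46,
  49,
  65,
  112,
  92,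
  47,
  48,
  49,
  34,
  50,
  53,
  79,
  79,
  81,
  58,
  9,
  80,
  82,
  82,
  49,
  80,
  81,
  60,
  47,
  62,
  64,
  63,
  64,
  63,
  65,
  60,
  21,
  18,
  85,
  18,
  75,
  20,
  19,
  86,
  11,
  62,
  8,
  80,
  15,
  31,
  32,
  16,
  17,
  7,
  30,
  20,
  99,
  101,
  100,
  102,
  104,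
  35,
  36,
  90,
  62,
  58,
  61,
  55,
  64,
  63,
  64,
  105,
  40,
  34,
  33,
  100,
  35,
  94,
  102,
  36,
  54,
  58,
  10,
  57,
  59,
  58,
  61,
  60,
  62,
  109,
  61,
  65,
  83,
  17,
  25,
  84,
  19,
  86,
  85,
  79,
  14,
  55,
  56,
  55,
  64,
  58,
  61,
  57,
  29,
  83,
  84,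
  15,
  17,
  19,
  18,
  20,
  99,
  89,
  112,
  102,
  103,
  87,
  88,
  104,
  39,
  111,
  57,
  108,
  33,
  100,
  99,
  44,
  101,
  34,
  101,
  98,
  59,
  54,
  56,
  55,
  56,
  55,
  57,
  72,
  59,
  38,
  39,
  70,
  37,
  37,
  39,
  110,
  61,
  38,
  40,
  40,
  66,
  69,
  85,
  70,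
  71,
  72,
  27,
  7,
  54,
  70,
  73,
  57,
  15,
  0,
  83,
  16,
  68,
  11,
  84,
  67,
  6,
  77,
  78,
  100,
  5,
  6,
  26,
  27,
  51,
  30,
  29,
  2,
  104,
  4,
  77,
  0,
  29,
  25,
  28,
  30,
  77,
  87,
  51,
  78,
  75,
  99,
  14,
  76,
  3,
  76,
  75,
  2,
  50,
  53,
  52,
  77,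
  78,
  51,
  102,
  53,
  96,
  45,
  50,
  13,
  9,
  12,
  76,
  10,
  13,
  1,
  63,
  14,
  1,
  13,
  3,
  111,
  14,
  4,
  31,
  32,
  23,
  25,
  26,
  26,
  27,
  2,
  28,
  24,
  28,
  12,
  78,
  47,
  11,
  13,
  14,
  10,
  32,
  6,
  24,
  31,
  50,
  91,
  50,
  53,
  45,
  45,
  48,
  63,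
  75,
  46,
  101,
  47,
  48,
  65,
  49,
  76,
  95,
  52,
  110,
  48,
  52,
  35,
  36,
  51,
  11,
  80,
  81,
  10,
  79,
  33,
  82,
  82,
  75,
  46,
  65,
  38,
  23,
  1,
  31,
  24,
  7,
  17,
  20,
  8,
  9,
  80,
  11,
  7,
  8,
  10,
  4,
  12,
  9,
  12,
  32,
  22,
  19,
  13,
  23,
  18,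
  93,
  103,
  47,
  48,
  33,
  46,
  49,
  34,
  59,
  37,
  81,
  60,
  3,
  7,
  8,
  86,
  79,
  12,
  16,
  15,
  22,
  21,
  103,
  5,
  30,
  21,
  22,
  45,
  29,
  35,
  21,
  30,
  5,
  21,
  22,
  6,
  0,
  0,
  22,
  53,
  45,
  77,
  1,
  4,
  34,
  78,
  5,
  6,
  88,
  29,
  25,
  28,
  46,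
  1,
  3,
  2,
  4,
  36,
  2,
  3,
  76,
  5,
  24,
  23,
  25,
  52,
  26,
  27,
  27,
  0]

/-- Representatives of norm two. -/
def reps : List Ico := [
  ⟨-1, -1, 0, 0, 0, 0, 0, 0⟩,
  ⟨-1, 0, 0, 0, 0, 0, 1, 0⟩,
  ⟨0, 0, -1, -1, 0, 0, 0, 0⟩,
  ⟨0, 0, -1, 0, 1, 0, 0, 0⟩,
  ⟨-1, -1, 0, 0, 1, 0, -1, 0⟩]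

/-- The lines. -/
def lines : List (Ico × Ico × Ico) := [
  (⟨2, 0, 0, 0, 0, 0, 0, 0⟩, ⟨0, 0, 0, 0, 0, 0, 0, 0⟩, ⟨0, 0, 0, 0, 0, 0, 0, 0⟩),
  (⟨0, 0, 0, 0, 0, 0, 0, 0⟩, ⟨-1, -1, 0, 0, 0, 0, 0, 0⟩, ⟨-3, -1, 2, -2, 2, 0, -2, 2⟩),
  (⟨1, 0, 0, 0, 0, 0, 0, 0⟩, ⟨3, 1, -2, 2, -2, -1, 1, -1⟩, ⟨-1, 0, 1, -1, 0, 1, 0, 0⟩),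
  (⟨0, 0, 0, 0, 0, 0, 0, 0⟩, ⟨-1, -1, 0, 0, 0, 0, 0, 0⟩, ⟨3, 1, -2, 2, -2, 0, 2, -2⟩),
  (⟨1, 0, 0, 0, 0, 0, 0, 0⟩, ⟨0, 1, -1, -1, 1, 0, 0, 0⟩, ⟨2, 0, -2, 2, -1, 0, 1, -1⟩),
  (⟨1, 0, 0, 0, 0, 0, 0, 0⟩, ⟨-3, -1, 2, -2, 2, 1, -1, 1⟩, ⟨1, 0, -1, 1, 0, -1, 0, 0⟩),
  (⟨1, 0, 0, 0, 0, 0, 0, 0⟩, ⟨-3, -1, 2, -2, 2, 1, -1, 1⟩, ⟨-1, 0, 1, -1, 0, 1, 0, 0⟩),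
  (⟨1, 0, 0, 0, 0, 0, 0, 0⟩, ⟨3, 1, -2, 2, -2, -1, 1, -1⟩, ⟨1, 0, -1, 1, 0, -1, 0, 0⟩),
  (⟨1, 0, 0, 0, 0, 0, 0, 0⟩, ⟨-2, 1, 0, -2, 1, -1, 0, 2⟩, ⟨-2, 0, 1, -1, 1, -1, -1, 1⟩),
  (⟨2, 2, -3, 1, -1, -1, 1, -1⟩, ⟨1, 0, 0, 0, 0, 0, 0, 0⟩, ⟨2, -1, 0, 2, -1, 1, 0, -2⟩),
  (⟨1, 0, 0, 0, 0, 0, 0, 0⟩, ⟨0, -1, 1, 1, -1, 0, 0, 0⟩, ⟨-2, 0, 2, -2, 1, 0, -1, 1⟩),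
  (⟨1, 0, 0, 0, 0, 0, 0, 0⟩, ⟨0, -1, 1, 1, -1, 0, 0, 0⟩, ⟨2, 0, -2, 2, -1, 0, 1, -1⟩),
  (⟨1, 0, 0, 0, 0, 0, 0, 0⟩, ⟨0, 1, -1, -1, 1, 0, 0, 0⟩, ⟨-2, 0, 2, -2, 1, 0, -1, 1⟩),
  (⟨1, 0, 0, 0, 0, 0, 0, 0⟩, ⟨-1, -3, 3, 1, 0, 2, -1, -1⟩, ⟨1, 0, 0, 0, 0, 0, 0, 0⟩),
  (⟨1, 0, 0, 0, 0, 0, 0, 0⟩, ⟨1, 3, -3, -1, 0, -2, 1, 1⟩, ⟨-1, 0, 0, 0, 0, 0, 0, 0⟩),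
  (⟨1, -1, 1, 1, -1, 1, -1, -1⟩, ⟨1, 0, 0, 0, 0, 0, 0, 0⟩, ⟨1, 2, -2, 0, -1, -1, 2, 0⟩),
  (⟨1, 0, -1, 1, 0, -1, 0, 0⟩, ⟨1, 0, 0, 0, 0, 0, 0, 0⟩, ⟨-3, -1, 2, -2, 2, 1, -1, 1⟩),
  (⟨1, 1, -1, 1, -1, -1, 1, -1⟩, ⟨1, 0, 0, 0, 0, 0, 0, 0⟩, ⟨-1, -2, 2, 0, 1, 1, -2, 0⟩),
  (⟨-3, -1, 2, -2, 2, 1, -1, 1⟩, ⟨-1, 0, 1, -1, 0, 1, 0, 0⟩, ⟨1, 0, 0, 0, 0, 0, 0, 0⟩),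
  (⟨1, 0, 0, 0, 0, 0, 0, 0⟩, ⟨2, -1, 0, 2, -1, 1, 0, -2⟩, ⟨2, 0, -1, 1, -1, 1, 1, -1⟩),
  (⟨1, 0, 0, 0, 0, 0, 0, 0⟩, ⟨2, -1, 0, 2, -1, 1, 0, -2⟩, ⟨-2, 0, 1, -1, 1, -1, -1, 1⟩),
  (⟨1, 0, 0, 0, 0, 0, 0, 0⟩, ⟨-2, 1, 0, -2, 1, -1, 0, 2⟩, ⟨2, 0, -1, 1, -1, 1, 1, -1⟩),
  (⟨-2, -2, 3, -1, 1, 1, -1, 1⟩, ⟨1, 0, 0, 0, 0, 0, 0, 0⟩, ⟨2, -1, 0, 2, -1, 1, 0, -2⟩),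
  (⟨-2, -2, 3, -1, 1, 1, -1, 1⟩, ⟨1, 0, 0, 0, 0, 0, 0, 0⟩, ⟨-2, 1, 0, -2, 1, -1, 0, 2⟩),
  (⟨2, 2, -3, 1, -1, -1, 1, -1⟩, ⟨1, 0, 0, 0, 0, 0, 0, 0⟩, ⟨-2, 1, 0, -2, 1, -1, 0, 2⟩),
  (⟨-1, 1, -1, -1, 1, -1, 1, 1⟩, ⟨1, 0, 0, 0, 0, 0, 0, 0⟩, ⟨1, 2, -2, 0, -1, -1, 2, 0⟩),
  (⟨1, 0, 0, 0, 0, 0, 0, 0⟩, ⟨0, 2, -3, -1, 0, -2, 1, 1⟩, ⟨0, -1, 0, 0, 0, 0, 0, 0⟩),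
  (⟨-1, -1, 1, -1, 1, 1, -1, 1⟩, ⟨1, 0, 0, 0, 0, 0, 0, 0⟩, ⟨-1, -2, 2, 0, 1, 1, -2, 0⟩),
  (⟨1, 0, 0, 0, 0, 0, 0, 0⟩, ⟨-1, -2, 2, 0, 1, 1, -2, 0⟩, ⟨-1, -1, 1, -1, 1, 1, -1, 1⟩),
  (⟨1, 0, 0, 0, 0, 0, 0, 0⟩, ⟨1, 3, -3, -1, 0, -2, 1, 1⟩, ⟨1, 0, 0, 0, 0, 0, 0, 0⟩),
  (⟨1, 0, 0, 0, 0, 0, 0, 0⟩, ⟨-1, -3, 3, 1, 0, 2, -1, -1⟩, ⟨-1, 0, 0, 0, 0, 0, 0, 0⟩),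
  (⟨-2, 2, -1, -3, 1, -1, 1, 1⟩, ⟨1, 0, 0, 0, 0, 0, 0, 0⟩, ⟨2, -1, 0, 2, -1, 1, 0, -2⟩),
  (⟨-1, 1, -1, -1, 1, -1, 1, 1⟩, ⟨1, 0, 0, 0, 0, 0, 0, 0⟩, ⟨-1, -2, 2, 0, 1, 1, -2, 0⟩),
  (⟨1, -1, 1, 1, -1, 1, -1, -1⟩, ⟨1, 0, 0, 0, 0, 0, 0, 0⟩, ⟨-1, -2, 2, 0, 1, 1, -2, 0⟩),
  (⟨1, 0, 0, 0, 0, 0, 0, 0⟩, ⟨1, 1, -1, 1, -1, -1, 1, -1⟩, ⟨1, 2, -2, 0, -1, -1, 2, 0⟩),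
  (⟨-1, 0, 1, -1, 0, 1, 0, 0⟩, ⟨1, 0, 0, 0, 0, 0, 0, 0⟩, ⟨-3, -1, 2, -2, 2, 1, -1, 1⟩),
  (⟨-1, 0, 1, -1, 0, 1, 0, 0⟩, ⟨1, 0, 0, 0, 0, 0, 0, 0⟩, ⟨3, 1, -2, 2, -2, -1, 1, -1⟩),
  (⟨1, 0, -1, 1, 0, -1, 0, 0⟩, ⟨1, 0, 0, 0, 0, 0, 0, 0⟩, ⟨3, 1, -2, 2, -2, -1, 1, -1⟩),
  (⟨1, 0, 0, 0, 0, 0, 0, 0⟩, ⟨1, 1, -1, 1, -1, -1, 1, -1⟩, ⟨-1, -2, 2, 0, 1, 1, -2, 0⟩),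
  (⟨-1, -1, 1, -1, 1, 1, -1, 1⟩, ⟨1, 0, 0, 0, 0, 0, 0, 0⟩, ⟨1, 2, -2, 0, -1, -1, 2, 0⟩),
  (⟨1, 1, -1, 1, -1, -1, 1, -1⟩, ⟨1, 0, 0, 0, 0, 0, 0, 0⟩, ⟨1, 2, -2, 0, -1, -1, 2, 0⟩),
  (⟨0, 1, -1, -1, 0, -1, 0, 0⟩, ⟨0, -2, 2, 2, 0, 1, -1, -1⟩, ⟨1, 0, 0, 0, 0, 0, 0, 0⟩),
  (⟨3, 1, -2, 2, -2, -1, 1, -1⟩, ⟨-1, 0, 1, -1, 0, 1, 0, 0⟩, ⟨1, 0, 0, 0, 0, 0, 0, 0⟩),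
  (⟨-3, -1, 2, -2, 2, 1, -1, 1⟩, ⟨1, 0, -1, 1, 0, -1, 0, 0⟩, ⟨1, 0, 0, 0, 0, 0, 0, 0⟩),
  (⟨3, 1, -2, 2, -2, -1, 1, -1⟩, ⟨1, 0, -1, 1, 0, -1, 0, 0⟩, ⟨1, 0, 0, 0, 0, 0, 0, 0⟩),
  (⟨1, 0, 0, 0, 0, 0, 0, 0⟩, ⟨0, -2, 1, 1, 1, 1, -1, -1⟩, ⟨-2, 1, 0, -2, 1, -1, 0, 2⟩),
  (⟨2, -2, 1, 3, -1, 1, -1, -1⟩, ⟨1, 0, 0, 0, 0, 0, 0, 0⟩, ⟨2, -1, 0, 2, -1, 1, 0, -2⟩),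
  (⟨1, 0, 0, 0, 0, 0, 0, 0⟩, ⟨0, 1, 0, 0, 0, 0, 0, 0⟩, ⟨-2, 0, 1, -1, 2, 0, -1, 1⟩),
  (⟨-1, 0, 1, -1, 1, 0, 0, 0⟩, ⟨1, 0, 0, 0, 0, 0, 0, 0⟩, ⟨1, -3, 2, 2, -1, 2, -1, -1⟩),
  (⟨0, 0, 0, 0, 0, 0, 0, 0⟩, ⟨-1, -1, 0, 0, 0, 0, 0, 0⟩, ⟨-1, 3, -2, -2, 0, -2, 2, 2⟩),
  (⟨0, 2, -2, -2, 0, -1, 1, 1⟩, ⟨1, 0, 0, 0, 0, 0, 0, 0⟩, ⟨0, 1, -1, -1, 0, -1, 0, 0⟩),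
  (⟨0, 0, 0, 0, 0, 0, 0, 0⟩, ⟨-1, -1, 0, 0, 0, 0, 0, 0⟩, ⟨1, -3, 2, 2, 0, 2, -2, -2⟩),
  (⟨1, 0, -1, 1, -1, 0, 0, 0⟩, ⟨-1, 3, -2, -2, 1, -2, 1, 1⟩, ⟨1, 0, 0, 0, 0, 0, 0, 0⟩),
  (⟨1, 0, 0, 0, 0, 0, 0, 0⟩, ⟨1, 0, 0, 0, 0, 0, 0, 0⟩, ⟨-3, 1, 1, -3, 2, 0, -1, 1⟩),
  (⟨1, 0, 0, 0, 0, 0, 0, 0⟩, ⟨0, -2, 3, 1, 0, 2, -1, -1⟩, ⟨0, 1, 0, 0, 0, 0, 0, 0⟩),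
  (⟨1, 0, 0, 0, 0, 0, 0, 0⟩, ⟨0, -2, 3, 1, 0, 2, -1, -1⟩, ⟨0, -1, 0, 0, 0, 0, 0, 0⟩),
  (⟨1, 0, 0, 0, 0, 0, 0, 0⟩, ⟨0, 2, -3, -1, 0, -2, 1, 1⟩, ⟨0, 1, 0, 0, 0, 0, 0, 0⟩),
  (⟨3, 1, -2, 2, -2, -1, 1, -1⟩, ⟨1, 0, 0, 0, 0, 0, 0, 0⟩, ⟨1, 0, -1, 1, 0, -1, 0, 0⟩),
  (⟨-2, 0, 2, -2, 1, 0, -1, 1⟩, ⟨1, 0, 0, 0, 0, 0, 0, 0⟩, ⟨0, -1, 1, 1, -1, 0, 0, 0⟩),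
  (⟨1, 0, 0, 0, 0, 0, 0, 0⟩, ⟨1, 2, -2, 0, -1, -1, 2, 0⟩, ⟨1, 1, -1, 1, -1, -1, 1, -1⟩),
  (⟨1, 0, 0, 0, 0, 0, 0, 0⟩, ⟨1, 2, -2, 0, -1, -1, 2, 0⟩, ⟨-1, -1, 1, -1, 1, 1, -1, 1⟩),
  (⟨1, 0, 0, 0, 0, 0, 0, 0⟩, ⟨-1, -2, 2, 0, 1, 1, -2, 0⟩, ⟨1, 1, -1, 1, -1, -1, 1, -1⟩),
  (⟨0, 1, -1, -1, 0, -1, 0, 0⟩, ⟨1, 0, 0, 0, 0, 0, 0, 0⟩, ⟨0, 2, -2, -2, 0, -1, 1, 1⟩),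
  (⟨-2, 0, 2, -2, 1, 0, -1, 1⟩, ⟨0, -1, 1, 1, -1, 0, 0, 0⟩, ⟨1, 0, 0, 0, 0, 0, 0, 0⟩),
  (⟨1, 0, 0, 0, 0, 0, 0, 0⟩, ⟨-2, 2, -1, -3, 1, -1, 1, 1⟩, ⟨2, -1, 0, 2, -1, 1, 0, -2⟩),
  (⟨2, -2, 1, 3, -1, 1, -1, -1⟩, ⟨1, 0, 0, 0, 0, 0, 0, 0⟩, ⟨-2, 1, 0, -2, 1, -1, 0, 2⟩),
  (⟨-2, 2, -1, -3, 1, -1, 1, 1⟩, ⟨1, 0, 0, 0, 0, 0, 0, 0⟩, ⟨-2, 1, 0, -2, 1, -1, 0, 2⟩),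
  (⟨1, 0, 0, 0, 0, 0, 0, 0⟩, ⟨0, 2, -2, -2, 0, -1, 1, 1⟩, ⟨0, -1, 1, 1, 0, 1, 0, 0⟩),
  (⟨1, 0, 0, 0, 0, 0, 0, 0⟩, ⟨-1, -1, 1, -1, 1, 1, -1, 1⟩, ⟨-1, -2, 2, 0, 1, 1, -2, 0⟩),
  (⟨1, 0, 0, 0, 0, 0, 0, 0⟩, ⟨-1, -1, 1, -1, 1, 1, -1, 1⟩, ⟨1, 2, -2, 0, -1, -1, 2, 0⟩),
  (⟨2, 0, -2, 2, -1, 0, 1, -1⟩, ⟨0, 1, -1, -1, 1, 0, 0, 0⟩, ⟨1, 0, 0, 0, 0, 0, 0, 0⟩),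
  (⟨1, 0, 0, 0, 0, 0, 0, 0⟩, ⟨0, 1, 0, 0, 0, 0, 0, 0⟩, ⟨0, -2, 3, 1, 0, 2, -1, -1⟩),
  (⟨-1, 3, -2, -2, 1, -2, 1, 1⟩, ⟨1, 0, 0, 0, 0, 0, 0, 0⟩, ⟨-1, 0, 1, -1, 1, 0, 0, 0⟩),
  (⟨0, 0, 0, 0, 0, 0, 0, 0⟩, ⟨0, 0, 0, 0, 0, 0, 0, 0⟩, ⟨2, 0, 0, 0, 0, 0, 0, 0⟩),
  (⟨0, -1, 1, 1, 0, 1, 0, 0⟩, ⟨0, -2, 2, 2, 0, 1, -1, -1⟩, ⟨1, 0, 0, 0, 0, 0, 0, 0⟩),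
  (⟨0, 1, -1, -1, 0, -1, 0, 0⟩, ⟨0, 2, -2, -2, 0, -1, 1, 1⟩, ⟨1, 0, 0, 0, 0, 0, 0, 0⟩),
  (⟨0, -1, 1, 1, 0, 1, 0, 0⟩, ⟨0, 2, -2, -2, 0, -1, 1, 1⟩, ⟨1, 0, 0, 0, 0, 0, 0, 0⟩),
  (⟨1, 0, 0, 0, 0, 0, 0, 0⟩, ⟨-2, 1, 0, -2, 1, -1, 0, 2⟩, ⟨0, -2, 1, 1, 1, 1, -1, -1⟩),
  (⟨1, 0, 0, 0, 0, 0, 0, 0⟩, ⟨1, 0, 0, 0, 0, 0, 0, 0⟩, ⟨3, -1, -1, 3, -2, 0, 1, -1⟩),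
  (⟨1, 0, -1, 1, 0, -1, 0, 0⟩, ⟨-3, -1, 2, -2, 2, 1, -1, 1⟩, ⟨1, 0, 0, 0, 0, 0, 0, 0⟩),
  (⟨0, 0, 0, 0, 0, 0, 0, 0⟩, ⟨2, 0, 0, 0, 0, 0, 0, 0⟩, ⟨0, 0, 0, 0, 0, 0, 0, 0⟩),
  (⟨1, 0, -1, 1, -1, 0, 0, 0⟩, ⟨1, 0, 0, 0, 0, 0, 0, 0⟩, ⟨1, -3, 2, 2, -1, 2, -1, -1⟩),
  (⟨1, 0, 0, 0, 0, 0, 0, 0⟩, ⟨0, 2, -1, -1, -1, -1, 1, 1⟩, ⟨2, -1, 0, 2, -1, 1, 0, -2⟩),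
  (⟨1, 0, 0, 0, 0, 0, 0, 0⟩, ⟨0, 2, -1, -1, -1, -1, 1, 1⟩, ⟨-2, 1, 0, -2, 1, -1, 0, 2⟩),
  (⟨1, 0, 0, 0, 0, 0, 0, 0⟩, ⟨0, -2, 1, 1, 1, 1, -1, -1⟩, ⟨2, -1, 0, 2, -1, 1, 0, -2⟩),
  (⟨1, 0, 0, 0, 0, 0, 0, 0⟩, ⟨0, -1, 0, 0, 0, 0, 0, 0⟩, ⟨2, 0, -1, 1, -2, 0, 1, -1⟩),
  (⟨1, 0, 0, 0, 0, 0, 0, 0⟩, ⟨0, -1, 0, 0, 0, 0, 0, 0⟩, ⟨-2, 0, 1, -1, 2, 0, -1, 1⟩),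
  (⟨1, 0, 0, 0, 0, 0, 0, 0⟩, ⟨0, 1, 0, 0, 0, 0, 0, 0⟩, ⟨2, 0, -1, 1, -2, 0, 1, -1⟩),
  (⟨1, 0, 0, 0, 0, 0, 0, 0⟩, ⟨1, -3, 1, 3, -1, 1, -1, -1⟩, ⟨1, 2, -2, 0, -1, -1, 2, 0⟩),
  (⟨1, 0, -1, 1, -1, 0, 0, 0⟩, ⟨1, 0, 0, 0, 0, 0, 0, 0⟩, ⟨-1, 3, -2, -2, 1, -2, 1, 1⟩),
  (⟨-1, 0, 1, -1, 1, 0, 0, 0⟩, ⟨1, 0, 0, 0, 0, 0, 0, 0⟩, ⟨-1, 3, -2, -2, 1, -2, 1, 1⟩),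
  (⟨0, -2, 2, 2, 0, 1, -1, -1⟩, ⟨1, 0, 0, 0, 0, 0, 0, 0⟩, ⟨0, 1, -1, -1, 0, -1, 0, 0⟩),
  (⟨0, -2, 2, 2, 0, 1, -1, -1⟩, ⟨1, 0, 0, 0, 0, 0, 0, 0⟩, ⟨0, -1, 1, 1, 0, 1, 0, 0⟩),
  (⟨0, 2, -2, -2, 0, -1, 1, 1⟩, ⟨1, 0, 0, 0, 0, 0, 0, 0⟩, ⟨0, -1, 1, 1, 0, 1, 0, 0⟩),
  (⟨1, 0, 0, 0, 0, 0, 0, 0⟩, ⟨-1, 0, 1, -1, 1, 0, 0, 0⟩, ⟨-1, 3, -2, -2, 1, -2, 1, 1⟩),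
  (⟨-1, 0, 1, -1, 1, 0, 0, 0⟩, ⟨-1, 3, -2, -2, 1, -2, 1, 1⟩, ⟨1, 0, 0, 0, 0, 0, 0, 0⟩),
  (⟨1, 0, -1, 1, -1, 0, 0, 0⟩, ⟨1, -3, 2, 2, -1, 2, -1, -1⟩, ⟨1, 0, 0, 0, 0, 0, 0, 0⟩),
  (⟨-1, 0, 1, -1, 1, 0, 0, 0⟩, ⟨1, -3, 2, 2, -1, 2, -1, -1⟩, ⟨1, 0, 0, 0, 0, 0, 0, 0⟩),
  (⟨1, -3, 2, 2, -1, 2, -1, -1⟩, ⟨1, 0, 0, 0, 0, 0, 0, 0⟩, ⟨-1, 0, 1, -1, 1, 0, 0, 0⟩),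
  (⟨1, 0, 0, 0, 0, 0, 0, 0⟩, ⟨-1, 0, 0, 0, 0, 0, 0, 0⟩, ⟨3, -1, -1, 3, -2, 0, 1, -1⟩),
  (⟨1, 0, 0, 0, 0, 0, 0, 0⟩, ⟨-1, 0, 0, 0, 0, 0, 0, 0⟩, ⟨-3, 1, 1, -3, 2, 0, -1, 1⟩),
  (⟨-1, 0, 1, -1, 0, 1, 0, 0⟩, ⟨3, 1, -2, 2, -2, -1, 1, -1⟩, ⟨1, 0, 0, 0, 0, 0, 0, 0⟩),
  (⟨0, -2, 2, 2, 0, 1, -1, -1⟩, ⟨0, 1, -1, -1, 0, -1, 0, 0⟩, ⟨1, 0, 0, 0, 0, 0, 0, 0⟩),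
  (⟨0, -1, 1, 1, 0, 1, 0, 0⟩, ⟨1, 0, 0, 0, 0, 0, 0, 0⟩, ⟨0, 2, -2, -2, 0, -1, 1, 1⟩),
  (⟨0, 1, -1, -1, 1, 0, 0, 0⟩, ⟨2, 0, -2, 2, -1, 0, 1, -1⟩, ⟨1, 0, 0, 0, 0, 0, 0, 0⟩),
  (⟨-1, -1, 0, 0, 0, 0, 0, 0⟩, ⟨-1, 3, -2, -2, 0, -2, 2, 2⟩, ⟨0, 0, 0, 0, 0, 0, 0, 0⟩),
  (⟨-3, -1, 2, -2, 2, 1, -1, 1⟩, ⟨1, 0, 0, 0, 0, 0, 0, 0⟩, ⟨1, 0, -1, 1, 0, -1, 0, 0⟩),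
  (⟨-3, -1, 2, -2, 2, 1, -1, 1⟩, ⟨1, 0, 0, 0, 0, 0, 0, 0⟩, ⟨-1, 0, 1, -1, 0, 1, 0, 0⟩),
  (⟨3, 1, -2, 2, -2, -1, 1, -1⟩, ⟨1, 0, 0, 0, 0, 0, 0, 0⟩, ⟨-1, 0, 1, -1, 0, 1, 0, 0⟩),
  (⟨2, 0, -2, 2, -1, 0, 1, -1⟩, ⟨1, 0, 0, 0, 0, 0, 0, 0⟩, ⟨0, -1, 1, 1, -1, 0, 0, 0⟩),
  (⟨2, 0, -2, 2, -1, 0, 1, -1⟩, ⟨1, 0, 0, 0, 0, 0, 0, 0⟩, ⟨0, 1, -1, -1, 1, 0, 0, 0⟩),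
  (⟨-2, 0, 2, -2, 1, 0, -1, 1⟩, ⟨1, 0, 0, 0, 0, 0, 0, 0⟩, ⟨0, 1, -1, -1, 1, 0, 0, 0⟩),
  (⟨1, 0, 0, 0, 0, 0, 0, 0⟩, ⟨-2, 1, 0, -2, 1, -1, 0, 2⟩, ⟨0, 2, -1, -1, -1, -1, 1, 1⟩),
  (⟨0, -1, 1, 1, -1, 0, 0, 0⟩, ⟨2, 0, -2, 2, -1, 0, 1, -1⟩, ⟨1, 0, 0, 0, 0, 0, 0, 0⟩),
  (⟨0, 2, -2, -2, 0, -1, 1, 1⟩, ⟨0, 1, -1, -1, 0, -1, 0, 0⟩, ⟨1, 0, 0, 0, 0, 0, 0, 0⟩),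
  (⟨-1, -1, 0, 0, 0, 0, 0, 0⟩, ⟨0, 0, 0, 0, 0, 0, 0, 0⟩, ⟨-1, 1, 0, 0, 0, 0, 0, 0⟩),
  (⟨0, -1, 1, 1, 0, 1, 0, 0⟩, ⟨1, 0, 0, 0, 0, 0, 0, 0⟩, ⟨0, -2, 2, 2, 0, 1, -1, -1⟩),
  (⟨0, 1, -1, -1, 0, -1, 0, 0⟩, ⟨1, 0, 0, 0, 0, 0, 0, 0⟩, ⟨0, -2, 2, 2, 0, 1, -1, -1⟩),
  (⟨2, 0, -2, 2, -1, 0, 1, -1⟩, ⟨0, -1, 1, 1, -1, 0, 0, 0⟩, ⟨1, 0, 0, 0, 0, 0, 0, 0⟩),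
  (⟨-2, 0, 2, -2, 1, 0, -1, 1⟩, ⟨0, 1, -1, -1, 1, 0, 0, 0⟩, ⟨1, 0, 0, 0, 0, 0, 0, 0⟩),
  (⟨1, 0, 0, 0, 0, 0, 0, 0⟩, ⟨2, -2, 1, 3, -1, 1, -1, -1⟩, ⟨-2, 1, 0, -2, 1, -1, 0, 2⟩),
  (⟨1, 0, 0, 0, 0, 0, 0, 0⟩, ⟨2, -2, 1, 3, -1, 1, -1, -1⟩, ⟨2, -1, 0, 2, -1, 1, 0, -2⟩),
  (⟨1, 0, 0, 0, 0, 0, 0, 0⟩, ⟨-2, 2, -1, -3, 1, -1, 1, 1⟩, ⟨-2, 1, 0, -2, 1, -1, 0, 2⟩),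
  (⟨1, 0, 0, 0, 0, 0, 0, 0⟩, ⟨0, -2, 2, 2, 0, 1, -1, -1⟩, ⟨0, 1, -1, -1, 0, -1, 0, 0⟩),
  (⟨1, 0, 0, 0, 0, 0, 0, 0⟩, ⟨0, -2, 2, 2, 0, 1, -1, -1⟩, ⟨0, -1, 1, 1, 0, 1, 0, 0⟩),
  (⟨1, 0, 0, 0, 0, 0, 0, 0⟩, ⟨0, 2, -2, -2, 0, -1, 1, 1⟩, ⟨0, 1, -1, -1, 0, -1, 0, 0⟩),
  (⟨-1, -1, 0, 0, 0, 0, 0, 0⟩, ⟨3, 1, -2, 2, -2, 0, 2, -2⟩, ⟨0, 0, 0, 0, 0, 0, 0, 0⟩),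
  (⟨1, -3, 2, 2, -1, 2, -1, -1⟩, ⟨1, 0, 0, 0, 0, 0, 0, 0⟩, ⟨1, 0, -1, 1, -1, 0, 0, 0⟩),
  (⟨1, 0, 0, 0, 0, 0, 0, 0⟩, ⟨-2, 0, 1, -1, 2, 0, -1, 1⟩, ⟨0, 1, 0, 0, 0, 0, 0, 0⟩),
  (⟨1, 0, 0, 0, 0, 0, 0, 0⟩, ⟨0, -1, 0, 0, 0, 0, 0, 0⟩, ⟨0, 2, -3, -1, 0, -2, 1, 1⟩),
  (⟨1, 0, 0, 0, 0, 0, 0, 0⟩, ⟨0, -1, 0, 0, 0, 0, 0, 0⟩, ⟨0, -2, 3, 1, 0, 2, -1, -1⟩),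
  (⟨1, 0, 0, 0, 0, 0, 0, 0⟩, ⟨0, 1, 0, 0, 0, 0, 0, 0⟩, ⟨0, 2, -3, -1, 0, -2, 1, 1⟩),
  (⟨0, 2, -1, -1, 0, -2, 1, 1⟩, ⟨1, 0, 0, 0, 0, 0, 0, 0⟩, ⟨0, 1, 0, 0, 0, 0, 0, 0⟩),
  (⟨-1, 3, -2, -2, 1, -2, 1, 1⟩, ⟨1, 0, 0, 0, 0, 0, 0, 0⟩, ⟨1, 0, -1, 1, -1, 0, 0, 0⟩),
  (⟨1, 0, 0, 0, 0, 0, 0, 0⟩, ⟨-1, 3, -1, -3, 1, -1, 1, 1⟩, ⟨-1, -2, 2, 0, 1, 1, -2, 0⟩),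
  (⟨1, 0, 0, 0, 0, 0, 0, 0⟩, ⟨-3, 1, 1, -3, 2, 0, -1, 1⟩, ⟨-1, 0, 0, 0, 0, 0, 0, 0⟩),
  (⟨1, -3, 2, 2, -1, 2, -1, -1⟩, ⟨1, 0, -1, 1, -1, 0, 0, 0⟩, ⟨1, 0, 0, 0, 0, 0, 0, 0⟩),
  (⟨-1, -1, 0, 0, 0, 0, 0, 0⟩, ⟨0, 0, 0, 0, 0, 0, 0, 0⟩, ⟨-3, -1, 2, -2, 2, 0, -2, 2⟩),
  (⟨1, 0, 0, 0, 0, 0, 0, 0⟩, ⟨0, -1, 0, 0, 0, 0, 0, 0⟩, ⟨2, 0, -1, 3, -2, 0, 1, -1⟩),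
  (⟨1, 0, 0, 0, 0, 0, 0, 0⟩, ⟨2, -1, 0, 2, -1, 1, 0, -2⟩, ⟨0, 2, -1, -1, -1, -1, 1, 1⟩),
  (⟨1, 0, 0, 0, 0, 0, 0, 0⟩, ⟨2, -1, 0, 2, -1, 1, 0, -2⟩, ⟨0, -2, 1, 1, 1, 1, -1, -1⟩),
  (⟨1, 0, 0, 0, 0, 0, 0, 0⟩, ⟨1, 2, -2, 0, -1, -1, 2, 0⟩, ⟨3, 1, -3, 1, -1, -1, 1, -1⟩),
  (⟨-1, 0, 1, -1, 0, 1, 0, 0⟩, ⟨-3, -1, 2, -2, 2, 1, -1, 1⟩, ⟨1, 0, 0, 0, 0, 0, 0, 0⟩),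
  (⟨1, 0, -1, 1, 0, -1, 0, 0⟩, ⟨3, 1, -2, 2, -2, -1, 1, -1⟩, ⟨1, 0, 0, 0, 0, 0, 0, 0⟩),
  (⟨-1, -1, 0, 0, 0, 0, 0, 0⟩, ⟨0, 0, 0, 0, 0, 0, 0, 0⟩, ⟨1, 1, 0, 0, 0, 0, 0, 0⟩),
  (⟨-3, 1, 1, -3, 2, 0, -1, 1⟩, ⟨1, 0, 0, 0, 0, 0, 0, 0⟩, ⟨1, 0, 0, 0, 0, 0, 0, 0⟩),
  (⟨1, -3, 2, 2, -1, 2, -1, -1⟩, ⟨-1, 0, 1, -1, 1, 0, 0, 0⟩, ⟨1, 0, 0, 0, 0, 0, 0, 0⟩),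
  (⟨1, 0, 0, 0, 0, 0, 0, 0⟩, ⟨-2, 0, 1, -3, 2, 0, -1, 1⟩, ⟨0, 1, 0, 0, 0, 0, 0, 0⟩),
  (⟨-1, -1, 0, 0, 0, 0, 0, 0⟩, ⟨1, -1, 0, 0, 0, 0, 0, 0⟩, ⟨0, 0, 0, 0, 0, 0, 0, 0⟩),
  (⟨1, 0, 0, 0, 0, 0, 0, 0⟩, ⟨-2, 0, 1, -1, 2, 0, -1, 1⟩, ⟨0, -1, 0, 0, 0, 0, 0, 0⟩),
  (⟨-1, -1, 0, 0, 0, 0, 0, 0⟩, ⟨0, 0, 0, 0, 0, 0, 0, 0⟩, ⟨-1, 3, -2, -2, 0, -2, 2, 2⟩),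
  (⟨1, -1, 1, 1, 0, 0, -1, -1⟩, ⟨1, 0, 0, 0, 0, 0, 0, 0⟩, ⟨1, 0, 0, 0, 0, 0, 0, 0⟩),
  (⟨1, 0, 0, 0, 0, 0, 0, 0⟩, ⟨-1, 3, -1, -3, 1, -1, 1, 1⟩, ⟨1, 2, -2, 0, -1, -1, 2, 0⟩),
  (⟨1, 0, 0, 0, 0, 0, 0, 0⟩, ⟨1, -3, 1, 3, -1, 1, -1, -1⟩, ⟨-1, -2, 2, 0, 1, 1, -2, 0⟩),
  (⟨1, 0, 0, 0, 0, 0, 0, 0⟩, ⟨-1, -2, 2, 0, 1, 1, -2, 0⟩, ⟨-3, -1, 3, -1, 1, 1, -1, 1⟩),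
  (⟨-1, -1, 0, 0, 0, 0, 0, 0⟩, ⟨1, -3, 2, 2, 0, 2, -2, -2⟩, ⟨0, 0, 0, 0, 0, 0, 0, 0⟩),
  (⟨1, 0, 0, 0, 0, 0, 0, 0⟩, ⟨1, 0, -1, 1, -1, 0, 0, 0⟩, ⟨1, -3, 2, 2, -1, 2, -1, -1⟩),
  (⟨1, 0, 0, 0, 0, 0, 0, 0⟩, ⟨1, 0, -1, 1, -1, 0, 0, 0⟩, ⟨-1, 3, -2, -2, 1, -2, 1, 1⟩),
  (⟨1, 0, 0, 0, 0, 0, 0, 0⟩, ⟨-1, 0, 1, -1, 1, 0, 0, 0⟩, ⟨1, -3, 2, 2, -1, 2, -1, -1⟩),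
  (⟨-1, -1, 0, 0, 0, 0, 0, 0⟩, ⟨-3, -1, 2, -2, 2, 0, -2, 2⟩, ⟨0, 0, 0, 0, 0, 0, 0, 0⟩),
  (⟨-1, -1, 0, 0, 0, 0, 0, 0⟩, ⟨0, 0, 0, 0, 0, 0, 0, 0⟩, ⟨1, -1, 0, 0, 0, 0, 0, 0⟩),
  (⟨0, -2, 2, 2, 0, 1, -1, -1⟩, ⟨0, -1, 1, 1, 0, 1, 0, 0⟩, ⟨1, 0, 0, 0, 0, 0, 0, 0⟩),
  (⟨0, 2, -2, -2, 0, -1, 1, 1⟩, ⟨0, -1, 1, 1, 0, 1, 0, 0⟩, ⟨1, 0, 0, 0, 0, 0, 0, 0⟩),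
  (⟨1, 0, 0, 0, 0, 0, 0, 0⟩, ⟨0, 2, -1, -1, 0, -2, 1, 1⟩, ⟨0, -1, 0, 0, 0, 0, 0, 0⟩),
  (⟨1, 0, 0, 0, 0, 0, 0, 0⟩, ⟨-1, -2, 2, 0, 1, 1, -2, 0⟩, ⟨-1, 3, -1, -3, 1, -1, 1, 1⟩),
  (⟨0, 1, -1, -1, 1, 0, 0, 0⟩, ⟨-2, 0, 2, -2, 1, 0, -1, 1⟩, ⟨1, 0, 0, 0, 0, 0, 0, 0⟩),
  (⟨0, -1, 1, 1, -1, 0, 0, 0⟩, ⟨-2, 0, 2, -2, 1, 0, -1, 1⟩, ⟨1, 0, 0, 0, 0, 0, 0, 0⟩),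
  (⟨1, 0, 0, 0, 0, 0, 0, 0⟩, ⟨1, 2, -2, 0, -1, -1, 2, 0⟩, ⟨-1, 1, -1, -1, 1, -1, 1, 1⟩),
  (⟨-1, -1, 1, -1, 0, 0, -1, 1⟩, ⟨1, 0, 0, 0, 0, 0, 0, 0⟩, ⟨-1, 0, 0, 0, 0, 0, 0, 0⟩),
  (⟨-1, -1, 0, 0, 0, 0, 0, 0⟩, ⟨-1, -1, 0, 0, 0, 0, 0, 0⟩, ⟨0, 0, 0, 0, 0, 0, 0, 0⟩),
  (⟨1, 0, 0, 0, 0, 0, 0, 0⟩, ⟨1, 1, -1, 1, 0, 0, 1, -1⟩, ⟨1, 0, 0, 0, 0, 0, 0, 0⟩),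
  (⟨1, 0, 0, 0, 0, 0, 0, 0⟩, ⟨3, -1, -1, 3, -2, 0, 1, -1⟩, ⟨-1, 0, 0, 0, 0, 0, 0, 0⟩),
  (⟨0, -1, 1, 1, -1, 0, 0, 0⟩, ⟨1, 0, 0, 0, 0, 0, 0, 0⟩, ⟨2, 0, -2, 2, -1, 0, 1, -1⟩),
  (⟨1, 0, 0, 0, 0, 0, 0, 0⟩, ⟨2, 0, -1, 1, -1, 1, 1, -1⟩, ⟨-2, 1, 0, -2, 1, -1, 0, 2⟩),
  (⟨2, 0, -1, 3, -2, 0, 1, -1⟩, ⟨1, 0, 0, 0, 0, 0, 0, 0⟩, ⟨0, -1, 0, 0, 0, 0, 0, 0⟩),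
  (⟨1, 0, 0, 0, 0, 0, 0, 0⟩, ⟨3, -1, -1, 3, -2, 0, 1, -1⟩, ⟨1, 0, 0, 0, 0, 0, 0, 0⟩),
  (⟨1, 0, 0, 0, 0, 0, 0, 0⟩, ⟨-1, -2, 2, 0, 1, 1, -2, 0⟩, ⟨1, -1, 1, 1, -1, 1, -1, -1⟩),
  (⟨1, 0, 0, 0, 0, 0, 0, 0⟩, ⟨0, -1, 0, 0, 0, 0, 0, 0⟩, ⟨0, -2, 1, 1, 0, 2, -1, -1⟩),
  (⟨1, 0, 0, 0, 0, 0, 0, 0⟩, ⟨-1, 0, 0, 0, 0, 0, 0, 0⟩, ⟨-1, -3, 3, 1, 0, 2, -1, -1⟩),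
  (⟨1, 0, 0, 0, 0, 0, 0, 0⟩, ⟨2, 0, -1, 1, -2, 0, 1, -1⟩, ⟨0, -1, 0, 0, 0, 0, 0, 0⟩),
  (⟨1, 0, 0, 0, 0, 0, 0, 0⟩, ⟨-1, 0, 0, 0, 0, 0, 0, 0⟩, ⟨1, 1, -1, 1, 0, 0, 1, -1⟩),
  (⟨-1, -1, 0, 0, 0, 0, 0, 0⟩, ⟨0, 0, 0, 0, 0, 0, 0, 0⟩, ⟨3, 1, -2, 2, -2, 0, 2, -2⟩),
  (⟨0, -2, 3, 1, 0, 2, -1, -1⟩, ⟨1, 0, 0, 0, 0, 0, 0, 0⟩, ⟨0, 1, 0, 0, 0, 0, 0, 0⟩),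
  (⟨1, 0, 0, 0, 0, 0, 0, 0⟩, ⟨-1, -2, 2, 0, 1, 1, -2, 0⟩, ⟨3, 1, -3, 1, -1, -1, 1, -1⟩),
  (⟨1, -1, 1, 1, 0, 0, -1, -1⟩, ⟨1, 0, 0, 0, 0, 0, 0, 0⟩, ⟨-1, 0, 0, 0, 0, 0, 0, 0⟩),
  (⟨0, 2, -3, -1, 0, -2, 1, 1⟩, ⟨1, 0, 0, 0, 0, 0, 0, 0⟩, ⟨0, -1, 0, 0, 0, 0, 0, 0⟩),
  (⟨-2, 0, 1, -3, 2, 0, -1, 1⟩, ⟨1, 0, 0, 0, 0, 0, 0, 0⟩, ⟨0, -1, 0, 0, 0, 0, 0, 0⟩),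
  (⟨1, 0, 0, 0, 0, 0, 0, 0⟩, ⟨2, 0, -1, 1, -2, 0, 1, -1⟩, ⟨0, 1, 0, 0, 0, 0, 0, 0⟩),
  (⟨1, 0, 0, 0, 0, 0, 0, 0⟩, ⟨-3, 1, 1, -3, 2, 0, -1, 1⟩, ⟨1, 0, 0, 0, 0, 0, 0, 0⟩),
  (⟨0, 1, -1, -1, 1, 0, 0, 0⟩, ⟨1, 0, 0, 0, 0, 0, 0, 0⟩, ⟨-2, 0, 2, -2, 1, 0, -1, 1⟩),
  (⟨0, -2, 1, 1, 0, 2, -1, -1⟩, ⟨1, 0, 0, 0, 0, 0, 0, 0⟩, ⟨0, 1, 0, 0, 0, 0, 0, 0⟩),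
  (⟨0, -2, 1, 1, 0, 2, -1, -1⟩, ⟨1, 0, 0, 0, 0, 0, 0, 0⟩, ⟨0, -1, 0, 0, 0, 0, 0, 0⟩),
  (⟨0, 2, -1, -1, 0, -2, 1, 1⟩, ⟨1, 0, 0, 0, 0, 0, 0, 0⟩, ⟨0, -1, 0, 0, 0, 0, 0, 0⟩),
  (⟨1, 0, 0, 0, 0, 0, 0, 0⟩, ⟨0, -2, 1, 1, 0, 2, -1, -1⟩, ⟨0, 1, 0, 0, 0, 0, 0, 0⟩),
  (⟨-1, 3, -2, -2, 1, -2, 1, 1⟩, ⟨1, 0, -1, 1, -1, 0, 0, 0⟩, ⟨1, 0, 0, 0, 0, 0, 0, 0⟩),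
  (⟨-1, 3, -2, -2, 1, -2, 1, 1⟩, ⟨-1, 0, 1, -1, 1, 0, 0, 0⟩, ⟨1, 0, 0, 0, 0, 0, 0, 0⟩),
  (⟨1, 0, 0, 0, 0, 0, 0, 0⟩, ⟨1, -1, 1, 1, 0, 0, -1, -1⟩, ⟨1, 0, 0, 0, 0, 0, 0, 0⟩),
  (⟨1, 0, 0, 0, 0, 0, 0, 0⟩, ⟨-1, 0, 0, 0, 0, 0, 0, 0⟩, ⟨-1, -1, 1, -1, 0, 0, -1, 1⟩),
  (⟨1, 0, 0, 0, 0, 0, 0, 0⟩, ⟨0, 1, 0, 0, 0, 0, 0, 0⟩, ⟨-2, 0, 1, -3, 2, 0, -1, 1⟩),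
  (⟨1, 0, 0, 0, 0, 0, 0, 0⟩, ⟨0, 1, 0, 0, 0, 0, 0, 0⟩, ⟨2, 0, -1, 3, -2, 0, 1, -1⟩),
  (⟨1, 0, 0, 0, 0, 0, 0, 0⟩, ⟨0, -1, 0, 0, 0, 0, 0, 0⟩, ⟨-2, 0, 1, -3, 2, 0, -1, 1⟩),
  (⟨3, -1, -1, 3, -2, 0, 1, -1⟩, ⟨1, 0, 0, 0, 0, 0, 0, 0⟩, ⟨1, 0, 0, 0, 0, 0, 0, 0⟩),
  (⟨1, 0, 0, 0, 0, 0, 0, 0⟩, ⟨1, 2, -2, 0, -1, -1, 2, 0⟩, ⟨1, -3, 1, 3, -1, 1, -1, -1⟩),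
  (⟨1, 0, 0, 0, 0, 0, 0, 0⟩, ⟨1, 2, -2, 0, -1, -1, 2, 0⟩, ⟨-3, -1, 3, -1, 1, 1, -1, 1⟩),
  (⟨1, 1, -1, 1, 0, 0, 1, -1⟩, ⟨1, 0, 0, 0, 0, 0, 0, 0⟩, ⟨-1, 0, 0, 0, 0, 0, 0, 0⟩),
  (⟨-1, -1, 0, 0, 0, 0, 0, 0⟩, ⟨0, 0, 0, 0, 0, 0, 0, 0⟩, ⟨-1, -1, 0, 0, 0, 0, 0, 0⟩),
  (⟨3, -1, -1, 3, -2, 0, 1, -1⟩, ⟨1, 0, 0, 0, 0, 0, 0, 0⟩, ⟨-1, 0, 0, 0, 0, 0, 0, 0⟩),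
  (⟨-3, 1, 1, -3, 2, 0, -1, 1⟩, ⟨1, 0, 0, 0, 0, 0, 0, 0⟩, ⟨-1, 0, 0, 0, 0, 0, 0, 0⟩),
  (⟨1, 0, 0, 0, 0, 0, 0, 0⟩, ⟨2, 0, -1, 3, -2, 0, 1, -1⟩, ⟨0, -1, 0, 0, 0, 0, 0, 0⟩),
  (⟨1, 0, 0, 0, 0, 0, 0, 0⟩, ⟨2, 0, -1, 3, -2, 0, 1, -1⟩, ⟨0, 1, 0, 0, 0, 0, 0, 0⟩),
  (⟨1, 0, 0, 0, 0, 0, 0, 0⟩, ⟨-2, 0, 1, -3, 2, 0, -1, 1⟩, ⟨0, -1, 0, 0, 0, 0, 0, 0⟩),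
  (⟨-1, -1, 0, 0, 0, 0, 0, 0⟩, ⟨-1, 1, 0, 0, 0, 0, 0, 0⟩, ⟨0, 0, 0, 0, 0, 0, 0, 0⟩),
  (⟨-1, -1, 0, 0, 0, 0, 0, 0⟩, ⟨0, 0, 0, 0, 0, 0, 0, 0⟩, ⟨1, -3, 2, 2, 0, 2, -2, -2⟩),
  (⟨1, 0, 0, 0, 0, 0, 0, 0⟩, ⟨2, -1, 0, 2, -1, 1, 0, -2⟩, ⟨-2, -2, 3, -1, 1, 1, -1, 1⟩),
  (⟨-1, 1, -1, -1, 0, 0, 1, 1⟩, ⟨1, 0, 0, 0, 0, 0, 0, 0⟩, ⟨1, 0, 0, 0, 0, 0, 0, 0⟩),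
  (⟨-1, 1, -1, -1, 0, 0, 1, 1⟩, ⟨1, 0, 0, 0, 0, 0, 0, 0⟩, ⟨-1, 0, 0, 0, 0, 0, 0, 0⟩),
  (⟨1, 0, 0, 0, 0, 0, 0, 0⟩, ⟨-1, -1, 1, -1, 0, 0, -1, 1⟩, ⟨1, 0, 0, 0, 0, 0, 0, 0⟩),
  (⟨1, 0, 0, 0, 0, 0, 0, 0⟩, ⟨2, -1, 0, 2, -1, 1, 0, -2⟩, ⟨2, 2, -3, 1, -1, -1, 1, -1⟩),
  (⟨1, 0, 0, 0, 0, 0, 0, 0⟩, ⟨0, 1, -1, -1, 0, -1, 0, 0⟩, ⟨0, -2, 2, 2, 0, 1, -1, -1⟩),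
  (⟨1, 0, 0, 0, 0, 0, 0, 0⟩, ⟨-2, 0, 1, -1, 1, -1, -1, 1⟩, ⟨-2, 1, 0, -2, 1, -1, 0, 2⟩),
  (⟨1, 0, 0, 0, 0, 0, 0, 0⟩, ⟨2, 2, -3, 1, -1, -1, 1, -1⟩, ⟨-2, 1, 0, -2, 1, -1, 0, 2⟩),
  (⟨1, 0, 0, 0, 0, 0, 0, 0⟩, ⟨1, -1, 1, 1, -1, 1, -1, -1⟩, ⟨-1, -2, 2, 0, 1, 1, -2, 0⟩),
  (⟨1, 0, 0, 0, 0, 0, 0, 0⟩, ⟨0, -2, 1, 1, 0, 2, -1, -1⟩, ⟨0, -1, 0, 0, 0, 0, 0, 0⟩),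
  (⟨1, 0, 0, 0, 0, 0, 0, 0⟩, ⟨0, 2, -1, -1, 0, -2, 1, 1⟩, ⟨0, 1, 0, 0, 0, 0, 0, 0⟩),
  (⟨1, 0, 0, 0, 0, 0, 0, 0⟩, ⟨1, 2, -2, 0, -1, -1, 2, 0⟩, ⟨-1, 3, -1, -3, 1, -1, 1, 1⟩),
  (⟨1, 0, 0, 0, 0, 0, 0, 0⟩, ⟨-1, -2, 2, 0, 1, 1, -2, 0⟩, ⟨1, -3, 1, 3, -1, 1, -1, -1⟩),
  (⟨1, 0, 0, 0, 0, 0, 0, 0⟩, ⟨-2, 1, 0, -2, 1, -1, 0, 2⟩, ⟨2, 2, -3, 1, -1, -1, 1, -1⟩),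
  (⟨1, 0, 0, 0, 0, 0, 0, 0⟩, ⟨-1, -2, 2, 0, 1, 1, -2, 0⟩, ⟨-1, 1, -1, -1, 1, -1, 1, 1⟩),
  (⟨1, 0, 0, 0, 0, 0, 0, 0⟩, ⟨1, 2, -2, 0, -1, -1, 2, 0⟩, ⟨1, -1, 1, 1, -1, 1, -1, -1⟩),
  (⟨1, 1, -1, 1, 0, 0, 1, -1⟩, ⟨1, 0, 0, 0, 0, 0, 0, 0⟩, ⟨1, 0, 0, 0, 0, 0, 0, 0⟩),
  (⟨-1, -1, 1, -1, 0, 0, -1, 1⟩, ⟨1, 0, 0, 0, 0, 0, 0, 0⟩, ⟨1, 0, 0, 0, 0, 0, 0, 0⟩),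
  (⟨-1, -1, 0, 0, 0, 0, 0, 0⟩, ⟨1, 1, 0, 0, 0, 0, 0, 0⟩, ⟨0, 0, 0, 0, 0, 0, 0, 0⟩),
  (⟨1, 0, 0, 0, 0, 0, 0, 0⟩, ⟨-1, -1, 1, -1, 0, 0, -1, 1⟩, ⟨-1, 0, 0, 0, 0, 0, 0, 0⟩),
  (⟨1, 0, 0, 0, 0, 0, 0, 0⟩, ⟨1, 1, -1, 1, 0, 0, 1, -1⟩, ⟨-1, 0, 0, 0, 0, 0, 0, 0⟩),
  (⟨0, 1, -1, -1, 1, 0, 0, 0⟩, ⟨1, 0, 0, 0, 0, 0, 0, 0⟩, ⟨2, 0, -2, 2, -1, 0, 1, -1⟩),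
  (⟨0, -1, 1, 1, -1, 0, 0, 0⟩, ⟨1, 0, 0, 0, 0, 0, 0, 0⟩, ⟨-2, 0, 2, -2, 1, 0, -1, 1⟩),
  (⟨1, 0, 0, 0, 0, 0, 0, 0⟩, ⟨-1, 0, 0, 0, 0, 0, 0, 0⟩, ⟨-1, 1, -1, -1, 0, 0, 1, 1⟩),
  (⟨1, 0, 0, 0, 0, 0, 0, 0⟩, ⟨-2, 0, 1, -1, 1, -1, -1, 1⟩, ⟨2, -1, 0, 2, -1, 1, 0, -2⟩),
  (⟨1, 0, 0, 0, 0, 0, 0, 0⟩, ⟨2, 0, -1, 1, -1, 1, 1, -1⟩, ⟨2, -1, 0, 2, -1, 1, 0, -2⟩),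
  (⟨-2, 0, 1, -3, 2, 0, -1, 1⟩, ⟨1, 0, 0, 0, 0, 0, 0, 0⟩, ⟨0, 1, 0, 0, 0, 0, 0, 0⟩),
  (⟨2, 0, -1, 3, -2, 0, 1, -1⟩, ⟨1, 0, 0, 0, 0, 0, 0, 0⟩, ⟨0, 1, 0, 0, 0, 0, 0, 0⟩),
  (⟨1, 0, 0, 0, 0, 0, 0, 0⟩, ⟨0, 1, 0, 0, 0, 0, 0, 0⟩, ⟨0, 2, -1, -1, 0, -2, 1, 1⟩),
  (⟨1, 0, 0, 0, 0, 0, 0, 0⟩, ⟨0, 1, 0, 0, 0, 0, 0, 0⟩, ⟨0, -2, 1, 1, 0, 2, -1, -1⟩),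
  (⟨1, 0, 0, 0, 0, 0, 0, 0⟩, ⟨0, -1, 0, 0, 0, 0, 0, 0⟩, ⟨0, 2, -1, -1, 0, -2, 1, 1⟩),
  (⟨3, 1, -3, 1, -1, -1, 1, -1⟩, ⟨1, 0, 0, 0, 0, 0, 0, 0⟩, ⟨1, 2, -2, 0, -1, -1, 2, 0⟩),
  (⟨1, 0, 0, 0, 0, 0, 0, 0⟩, ⟨1, 0, 0, 0, 0, 0, 0, 0⟩, ⟨1, 3, -3, -1, 0, -2, 1, 1⟩),
  (⟨1, 0, 0, 0, 0, 0, 0, 0⟩, ⟨1, 0, 0, 0, 0, 0, 0, 0⟩, ⟨-1, -3, 3, 1, 0, 2, -1, -1⟩),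
  (⟨1, 0, 0, 0, 0, 0, 0, 0⟩, ⟨-1, 0, 0, 0, 0, 0, 0, 0⟩, ⟨1, 3, -3, -1, 0, -2, 1, 1⟩),
  (⟨1, 0, 0, 0, 0, 0, 0, 0⟩, ⟨1, 0, 0, 0, 0, 0, 0, 0⟩, ⟨-1, -1, 1, -1, 0, 0, -1, 1⟩),
  (⟨1, 0, 0, 0, 0, 0, 0, 0⟩, ⟨1, 0, 0, 0, 0, 0, 0, 0⟩, ⟨1, 1, -1, 1, 0, 0, 1, -1⟩),
  (⟨0, 2, -3, -1, 0, -2, 1, 1⟩, ⟨1, 0, 0, 0, 0, 0, 0, 0⟩, ⟨0, 1, 0, 0, 0, 0, 0, 0⟩),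
  (⟨0, -2, 3, 1, 0, 2, -1, -1⟩, ⟨1, 0, 0, 0, 0, 0, 0, 0⟩, ⟨0, -1, 0, 0, 0, 0, 0, 0⟩),
  (⟨1, 0, 0, 0, 0, 0, 0, 0⟩, ⟨-1, 1, -1, -1, 0, 0, 1, 1⟩, ⟨1, 0, 0, 0, 0, 0, 0, 0⟩),
  (⟨1, 0, 0, 0, 0, 0, 0, 0⟩, ⟨-1, 3, -2, -2, 1, -2, 1, 1⟩, ⟨1, 0, -1, 1, -1, 0, 0, 0⟩),
  (⟨1, 0, 0, 0, 0, 0, 0, 0⟩, ⟨1, 0, -1, 1, 0, -1, 0, 0⟩, ⟨-3, -1, 2, -2, 2, 1, -1, 1⟩),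
  (⟨1, 0, 0, 0, 0, 0, 0, 0⟩, ⟨-1, 1, -1, -1, 1, -1, 1, 1⟩, ⟨1, 2, -2, 0, -1, -1, 2, 0⟩),
  (⟨0, 2, -1, -1, -1, -1, 1, 1⟩, ⟨1, 0, 0, 0, 0, 0, 0, 0⟩, ⟨-2, 1, 0, -2, 1, -1, 0, 2⟩),
  (⟨1, 0, 0, 0, 0, 0, 0, 0⟩, ⟨3, 1, -3, 1, -1, -1, 1, -1⟩, ⟨-1, -2, 2, 0, 1, 1, -2, 0⟩),
  (⟨1, 0, 0, 0, 0, 0, 0, 0⟩, ⟨-1, 1, -1, -1, 0, 0, 1, 1⟩, ⟨-1, 0, 0, 0, 0, 0, 0, 0⟩),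
  (⟨1, 0, 0, 0, 0, 0, 0, 0⟩, ⟨1, -1, 1, 1, 0, 0, -1, -1⟩, ⟨-1, 0, 0, 0, 0, 0, 0, 0⟩),
  (⟨1, 0, 0, 0, 0, 0, 0, 0⟩, ⟨-1, 0, 1, -1, 0, 1, 0, 0⟩, ⟨-3, -1, 2, -2, 2, 1, -1, 1⟩),
  (⟨1, 0, 0, 0, 0, 0, 0, 0⟩, ⟨-1, 1, -1, -1, 1, -1, 1, 1⟩, ⟨-1, -2, 2, 0, 1, 1, -2, 0⟩),
  (⟨1, 0, 0, 0, 0, 0, 0, 0⟩, ⟨2, 0, -2, 2, -1, 0, 1, -1⟩, ⟨0, 1, -1, -1, 1, 0, 0, 0⟩),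
  (⟨2, 0, -1, 1, -1, 1, 1, -1⟩, ⟨1, 0, 0, 0, 0, 0, 0, 0⟩, ⟨-2, 1, 0, -2, 1, -1, 0, 2⟩),
  (⟨2, 0, -1, 1, -2, 0, 1, -1⟩, ⟨1, 0, 0, 0, 0, 0, 0, 0⟩, ⟨0, 1, 0, 0, 0, 0, 0, 0⟩),
  (⟨1, 0, 0, 0, 0, 0, 0, 0⟩, ⟨-2, 1, 0, -2, 1, -1, 0, 2⟩, ⟨-2, -2, 3, -1, 1, 1, -1, 1⟩),
  (⟨1, 0, 0, 0, 0, 0, 0, 0⟩, ⟨1, 0, -1, 1, 0, -1, 0, 0⟩, ⟨3, 1, -2, 2, -2, -1, 1, -1⟩),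
  (⟨1, 0, 0, 0, 0, 0, 0, 0⟩, ⟨2, -1, 0, 2, -1, 1, 0, -2⟩, ⟨-2, 2, -1, -3, 1, -1, 1, 1⟩),
  (⟨1, 0, 0, 0, 0, 0, 0, 0⟩, ⟨0, -1, 1, 1, 0, 1, 0, 0⟩, ⟨0, -2, 2, 2, 0, 1, -1, -1⟩),
  (⟨1, 0, 0, 0, 0, 0, 0, 0⟩, ⟨0, -1, 1, 1, 0, 1, 0, 0⟩, ⟨0, 2, -2, -2, 0, -1, 1, 1⟩),
  (⟨1, 0, 0, 0, 0, 0, 0, 0⟩, ⟨0, 1, -1, -1, 0, -1, 0, 0⟩, ⟨0, 2, -2, -2, 0, -1, 1, 1⟩),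
  (⟨1, 0, 0, 0, 0, 0, 0, 0⟩, ⟨-2, -2, 3, -1, 1, 1, -1, 1⟩, ⟨2, -1, 0, 2, -1, 1, 0, -2⟩),
  (⟨1, 0, 0, 0, 0, 0, 0, 0⟩, ⟨-2, -2, 3, -1, 1, 1, -1, 1⟩, ⟨-2, 1, 0, -2, 1, -1, 0, 2⟩),
  (⟨1, 0, 0, 0, 0, 0, 0, 0⟩, ⟨2, 2, -3, 1, -1, -1, 1, -1⟩, ⟨2, -1, 0, 2, -1, 1, 0, -2⟩),
  (⟨3, 1, -3, 1, -1, -1, 1, -1⟩, ⟨1, 0, 0, 0, 0, 0, 0, 0⟩, ⟨-1, -2, 2, 0, 1, 1, -2, 0⟩),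
  (⟨1, 0, 0, 0, 0, 0, 0, 0⟩, ⟨1, -1, 1, 1, -1, 1, -1, -1⟩, ⟨1, 2, -2, 0, -1, -1, 2, 0⟩),
  (⟨1, 0, 0, 0, 0, 0, 0, 0⟩, ⟨-2, 1, 0, -2, 1, -1, 0, 2⟩, ⟨2, -2, 1, 3, -1, 1, -1, -1⟩),
  (⟨-1, 3, -1, -3, 1, -1, 1, 1⟩, ⟨1, 0, 0, 0, 0, 0, 0, 0⟩, ⟨1, 2, -2, 0, -1, -1, 2, 0⟩),
  (⟨1, 0, 0, 0, 0, 0, 0, 0⟩, ⟨2, 0, -2, 2, -1, 0, 1, -1⟩, ⟨0, -1, 1, 1, -1, 0, 0, 0⟩),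
  (⟨1, 3, -3, -1, 0, -2, 1, 1⟩, ⟨1, 0, 0, 0, 0, 0, 0, 0⟩, ⟨1, 0, 0, 0, 0, 0, 0, 0⟩),
  (⟨0, 0, 0, 0, 0, 0, 0, 0⟩, ⟨-1, -1, 0, 0, 0, 0, 0, 0⟩, ⟨1, 1, 0, 0, 0, 0, 0, 0⟩),
  (⟨1, 0, 0, 0, 0, 0, 0, 0⟩, ⟨-1, 3, -2, -2, 1, -2, 1, 1⟩, ⟨-1, 0, 1, -1, 1, 0, 0, 0⟩),
  (⟨1, 3, -3, -1, 0, -2, 1, 1⟩, ⟨1, 0, 0, 0, 0, 0, 0, 0⟩, ⟨-1, 0, 0, 0, 0, 0, 0, 0⟩),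
  (⟨1, 0, 0, 0, 0, 0, 0, 0⟩, ⟨-2, 1, 0, -2, 1, -1, 0, 2⟩, ⟨-2, 2, -1, -3, 1, -1, 1, 1⟩),
  (⟨1, 0, 0, 0, 0, 0, 0, 0⟩, ⟨1, 0, 0, 0, 0, 0, 0, 0⟩, ⟨1, -1, 1, 1, 0, 0, -1, -1⟩),
  (⟨1, 0, 0, 0, 0, 0, 0, 0⟩, ⟨1, 0, 0, 0, 0, 0, 0, 0⟩, ⟨-1, 1, -1, -1, 0, 0, 1, 1⟩),
  (⟨1, 0, 0, 0, 0, 0, 0, 0⟩, ⟨-1, 0, 0, 0, 0, 0, 0, 0⟩, ⟨1, -1, 1, 1, 0, 0, -1, -1⟩),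
  (⟨0, 0, 0, 0, 0, 0, 0, 0⟩, ⟨-1, -1, 0, 0, 0, 0, 0, 0⟩, ⟨-1, 1, 0, 0, 0, 0, 0, 0⟩),
  (⟨-1, 3, -1, -3, 1, -1, 1, 1⟩, ⟨1, 0, 0, 0, 0, 0, 0, 0⟩, ⟨-1, -2, 2, 0, 1, 1, -2, 0⟩),
  (⟨-2, 0, 1, -1, 1, -1, -1, 1⟩, ⟨1, 0, 0, 0, 0, 0, 0, 0⟩, ⟨2, -1, 0, 2, -1, 1, 0, -2⟩),
  (⟨1, 0, 0, 0, 0, 0, 0, 0⟩, ⟨-3, -1, 3, -1, 1, 1, -1, 1⟩, ⟨-1, -2, 2, 0, 1, 1, -2, 0⟩),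
  (⟨-3, -1, 3, -1, 1, 1, -1, 1⟩, ⟨1, 0, 0, 0, 0, 0, 0, 0⟩, ⟨1, 2, -2, 0, -1, -1, 2, 0⟩),
  (⟨-3, -1, 3, -1, 1, 1, -1, 1⟩, ⟨1, 0, 0, 0, 0, 0, 0, 0⟩, ⟨-1, -2, 2, 0, 1, 1, -2, 0⟩),
  (⟨-2, 0, 1, -1, 2, 0, -1, 1⟩, ⟨1, 0, 0, 0, 0, 0, 0, 0⟩, ⟨0, 1, 0, 0, 0, 0, 0, 0⟩),
  (⟨1, 0, 0, 0, 0, 0, 0, 0⟩, ⟨-2, 0, 2, -2, 1, 0, -1, 1⟩, ⟨0, -1, 1, 1, -1, 0, 0, 0⟩),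
  (⟨1, 0, 0, 0, 0, 0, 0, 0⟩, ⟨1, -3, 2, 2, -1, 2, -1, -1⟩, ⟨-1, 0, 1, -1, 1, 0, 0, 0⟩),
  (⟨1, 0, 0, 0, 0, 0, 0, 0⟩, ⟨1, -3, 2, 2, -1, 2, -1, -1⟩, ⟨1, 0, -1, 1, -1, 0, 0, 0⟩),
  (⟨1, 0, 0, 0, 0, 0, 0, 0⟩, ⟨-1, 0, 1, -1, 0, 1, 0, 0⟩, ⟨3, 1, -2, 2, -2, -1, 1, -1⟩),
  (⟨0, -2, 1, 1, 1, 1, -1, -1⟩, ⟨1, 0, 0, 0, 0, 0, 0, 0⟩, ⟨-2, 1, 0, -2, 1, -1, 0, 2⟩),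
  (⟨0, -2, 1, 1, 1, 1, -1, -1⟩, ⟨1, 0, 0, 0, 0, 0, 0, 0⟩, ⟨2, -1, 0, 2, -1, 1, 0, -2⟩),
  (⟨0, 2, -1, -1, -1, -1, 1, 1⟩, ⟨1, 0, 0, 0, 0, 0, 0, 0⟩, ⟨2, -1, 0, 2, -1, 1, 0, -2⟩),
  (⟨0, 0, 0, 0, 0, 0, 0, 0⟩, ⟨-1, -1, 0, 0, 0, 0, 0, 0⟩, ⟨-1, -1, 0, 0, 0, 0, 0, 0⟩),
  (⟨1, 0, 0, 0, 0, 0, 0, 0⟩, ⟨-3, -1, 3, -1, 1, 1, -1, 1⟩, ⟨1, 2, -2, 0, -1, -1, 2, 0⟩),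
  (⟨1, 0, 0, 0, 0, 0, 0, 0⟩, ⟨3, 1, -3, 1, -1, -1, 1, -1⟩, ⟨1, 2, -2, 0, -1, -1, 2, 0⟩),
  (⟨1, -3, 1, 3, -1, 1, -1, -1⟩, ⟨1, 0, 0, 0, 0, 0, 0, 0⟩, ⟨-1, -2, 2, 0, 1, 1, -2, 0⟩),
  (⟨1, 0, 0, 0, 0, 0, 0, 0⟩, ⟨-2, 0, 2, -2, 1, 0, -1, 1⟩, ⟨0, 1, -1, -1, 1, 0, 0, 0⟩),
  (⟨-2, 0, 1, -1, 2, 0, -1, 1⟩, ⟨1, 0, 0, 0, 0, 0, 0, 0⟩, ⟨0, -1, 0, 0, 0, 0, 0, 0⟩),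
  (⟨-2, 0, 1, -1, 1, -1, -1, 1⟩, ⟨1, 0, 0, 0, 0, 0, 0, 0⟩, ⟨-2, 1, 0, -2, 1, -1, 0, 2⟩),
  (⟨2, 0, -1, 1, -1, 1, 1, -1⟩, ⟨1, 0, 0, 0, 0, 0, 0, 0⟩, ⟨2, -1, 0, 2, -1, 1, 0, -2⟩),
  (⟨2, 0, -1, 1, -2, 0, 1, -1⟩, ⟨1, 0, 0, 0, 0, 0, 0, 0⟩, ⟨0, -1, 0, 0, 0, 0, 0, 0⟩),
  (⟨1, 0, 0, 0, 0, 0, 0, 0⟩, ⟨2, -1, 0, 2, -1, 1, 0, -2⟩, ⟨2, -2, 1, 3, -1, 1, -1, -1⟩),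
  (⟨1, -3, 1, 3, -1, 1, -1, -1⟩, ⟨1, 0, 0, 0, 0, 0, 0, 0⟩, ⟨1, 2, -2, 0, -1, -1, 2, 0⟩),
  (⟨0, 0, 0, 0, 0, 0, 0, 0⟩, ⟨-1, -1, 0, 0, 0, 0, 0, 0⟩, ⟨1, -1, 0, 0, 0, 0, 0, 0⟩),
  (⟨-1, -3, 3, 1, 0, 2, -1, -1⟩, ⟨1, 0, 0, 0, 0, 0, 0, 0⟩, ⟨1, 0, 0, 0, 0, 0, 0, 0⟩),
  (⟨-1, -3, 3, 1, 0, 2, -1, -1⟩, ⟨1, 0, 0, 0, 0, 0, 0, 0⟩, ⟨-1, 0, 0, 0, 0, 0, 0, 0⟩)]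

/-- Parent, generator and unit, for each line after the first. -/
def tree : List (Nat × Nat × Nat) := [
  (0, 3, 72),
  (0, 4, 119),
  (1, 1, 0),
  (1, 4, 12),
  (2, 0, 0),
  (2, 1, 119),
  (2, 2, 119),
  (2, 3, 48),
  (3, 4, 90),
  (4, 0, 0),
  (4, 1, 119),
  (4, 2, 119),
  (4, 3, 48),
  (5, 3, 71),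
  (6, 3, 47),
  (6, 4, 118),
  (7, 3, 110),
  (7, 4, 20),
  (8, 0, 0),
  (8, 1, 119),
  (8, 2, 119),
  (9, 0, 119),
  (9, 1, 0),
  (9, 2, 119),
  (11, 3, 47),
  (11, 4, 101),
  (12, 3, 110),
  (12, 4, 116),
  (13, 1, 119),
  (13, 2, 119),
  (14, 4, 72),
  (15, 1, 0),
  (15, 2, 119),
  (15, 4, 95),
  (16, 0, 119),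
  (16, 1, 0),
  (16, 2, 119),
  (16, 3, 50),
  (17, 1, 0),
  (17, 2, 119),
  (17, 4, 117),
  (18, 0, 119),
  (18, 1, 119),
  (18, 2, 0),
  (18, 3, 98),
  (19, 4, 110),
  (20, 4, 96),
  (21, 4, 108),
  (23, 3, 74),
  (23, 4, 115),
  (24, 3, 0),
  (24, 4, 116),
  (25, 4, 77),
  (26, 0, 0),
  (26, 1, 119),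
  (26, 2, 119),
  (26, 3, 46),
  (27, 4, 101),
  (28, 0, 0),
  (28, 1, 119),
  (28, 2, 119),
  (28, 3, 109),
  (29, 4, 96),
  (30, 4, 78),
  (31, 1, 0),
  (31, 2, 119),
  (32, 4, 47),
  (34, 0, 0),
  (34, 1, 119),
  (34, 3, 94),
  (35, 3, 50),
  (36, 3, 51),
  (37, 4, 118),
  (41, 0, 119),
  (41, 1, 119),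
  (41, 2, 0),
  (41, 3, 18),
  (42, 3, 98),
  (43, 3, 54),
  (43, 4, 99),
  (44, 3, 113),
  (45, 0, 0),
  (45, 1, 119),
  (45, 2, 119),
  (47, 0, 0),
  (47, 1, 119),
  (47, 2, 119),
  (47, 3, 0),
  (48, 1, 0),
  (48, 2, 119),
  (50, 0, 119),
  (50, 1, 0),
  (50, 2, 119),
  (51, 4, 24),
  (52, 0, 119),
  (52, 1, 119),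
  (52, 2, 0),
  (52, 3, 86),
  (53, 0, 0),
  (53, 1, 119),
  (53, 3, 37),
  (54, 3, 95),
  (55, 3, 109),
  (56, 3, 42),
  (56, 4, 14),
  (57, 0, 119),
  (57, 1, 0),
  (57, 2, 119),
  (58, 0, 119),
  (58, 1, 0),
  (58, 2, 119),
  (58, 3, 117),
  (59, 3, 42),
  (60, 3, 95),
  (60, 4, 31),
  (62, 1, 0),
  (62, 2, 119),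
  (63, 0, 119),
  (63, 1, 119),
  (64, 0, 0),
  (64, 1, 119),
  (64, 2, 119),
  (65, 4, 95),
  (67, 1, 119),
  (67, 2, 119),
  (67, 3, 83),
  (68, 3, 111),
  (69, 4, 77),
  (71, 0, 0),
  (71, 1, 119),
  (71, 2, 119),
  (71, 4, 112),
  (72, 2, 119),
  (72, 4, 58),
  (74, 3, 18),
  (75, 3, 116),
  (75, 4, 82),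
  (76, 4, 58),
  (77, 0, 0),
  (77, 1, 119),
  (78, 4, 95),
  (79, 0, 119),
  (79, 1, 119),
  (79, 4, 104),
  (82, 4, 40),
  (83, 4, 38),
  (84, 4, 82),
  (86, 3, 110),
  (86, 4, 46),
  (87, 3, 9),
  (87, 4, 96),
  (88, 1, 119),
  (88, 2, 119),
  (90, 4, 47),
  (93, 4, 67),
  (94, 0, 0),
  (94, 1, 119),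
  (94, 2, 119),
  (94, 3, 36),
  (96, 4, 114),
  (102, 1, 119),
  (102, 2, 0),
  (102, 4, 66),
  (103, 4, 104),
  (104, 1, 119),
  (104, 2, 0),
  (105, 3, 96),
  (106, 4, 99),
  (107, 4, 44),
  (108, 4, 119),
  (109, 3, 117),
  (110, 3, 118),
  (110, 4, 45),
  (113, 4, 115),
  (114, 4, 91),
  (115, 3, 23),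
  (116, 4, 62),
  (117, 4, 37),
  (119, 4, 41),
  (120, 3, 0),
  (121, 3, 47),
  (121, 4, 108),
  (122, 4, 70),
  (124, 4, 108),
  (125, 4, 42),
  (127, 4, 117),
  (128, 1, 119),
  (129, 4, 53),
  (130, 4, 106),
  (132, 0, 119),
  (132, 1, 0),
  (132, 2, 119),
  (135, 4, 85),
  (136, 0, 119),
  (136, 2, 0),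
  (136, 4, 87),
  (137, 3, 47),
  (138, 0, 0),
  (138, 1, 119),
  (138, 2, 119),
  (139, 4, 98),
  (140, 4, 87),
  (141, 2, 119),
  (143, 4, 1),
  (144, 0, 0),
  (145, 1, 0),
  (145, 2, 119),
  (147, 0, 0),
  (147, 1, 119),
  (147, 2, 119),
  (148, 0, 0),
  (150, 0, 0),
  (150, 4, 5),
  (151, 0, 119),
  (151, 1, 0),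
  (151, 3, 97),
  (152, 4, 115),
  (153, 4, 102),
  (157, 4, 100),
  (161, 4, 8),
  (162, 4, 34),
  (163, 1, 119),
  (163, 2, 119),
  (164, 1, 119),
  (164, 2, 119),
  (165, 4, 59),
  (167, 1, 119),
  (167, 2, 119),
  (168, 1, 0),
  (168, 2, 119),
  (169, 0, 0),
  (170, 0, 0),
  (170, 2, 119),
  (172, 0, 119),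
  (172, 2, 119),
  (172, 4, 33),
  (173, 0, 0),
  (173, 2, 119),
  (174, 1, 0),
  (174, 2, 119),
  (177, 0, 0),
  (177, 1, 119),
  (177, 2, 119),
  (177, 3, 47),
  (178, 0, 0),
  (178, 1, 119),
  (178, 2, 119),
  (180, 0, 0),
  (180, 1, 119),
  (182, 0, 119),
  (182, 2, 119),
  (182, 3, 66),
  (184, 3, 81),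
  (185, 3, 112),
  (187, 3, 56),
  (191, 4, 75),
  (194, 4, 55),
  (196, 0, 0),
  (196, 2, 119),
  (196, 3, 67),
  (206, 3, 81),
  (206, 4, 104),
  (207, 4, 80),
  (209, 4, 97),
  (213, 1, 119),
  (213, 3, 52),
  (214, 3, 97),
  (215, 3, 81),
  (218, 0, 0),
  (218, 2, 119),
  (220, 0, 0),
  (220, 1, 119),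
  (220, 2, 119),
  (220, 3, 110),
  (221, 2, 119),
  (222, 4, 51),
  (223, 4, 106),
  (226, 3, 67),
  (228, 4, 94),
  (229, 4, 96),
  (232, 3, 56),
  (233, 3, 80),
  (234, 4, 52),
  (236, 0, 0),
  (236, 1, 119),
  (236, 2, 119),
  (240, 4, 35),
  (241, 3, 110),
  (242, 4, 65),
  (243, 4, 63),
  (244, 0, 119),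
  (244, 1, 0),
  (246, 4, 82),
  (251, 3, 112),
  (253, 0, 0),
  (253, 1, 119),
  (254, 0, 0),
  (256, 0, 119),
  (256, 1, 0),
  (256, 2, 119),
  (256, 3, 20),
  (257, 0, 0),
  (257, 2, 119),
  (257, 3, 110),
  (258, 3, 52),
  (259, 3, 105),
  (263, 0, 119),
  (263, 2, 119),
  (264, 2, 119),
  (267, 2, 119),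
  (267, 4, 69),
  (268, 4, 11),
  (275, 4, 44),
  (276, 3, 80)]

/-- The reflection vectors. -/
def gens : List (Ico × Ico × Ico) := [
  (⟨2, 0, 0, 0, 0, 0, 0, 0⟩, ⟨0, 0, 0, 0, 0, 0, 0, 0⟩, ⟨0, 0, 0, 0, 0, 0, 0, 0⟩),
  (⟨0, 0, 0, 0, 0, 0, 0, 0⟩, ⟨2, 0, 0, 0, 0, 0, 0, 0⟩, ⟨0, 0, 0, 0, 0, 0, 0, 0⟩),
  (⟨0, 0, 0, 0, 0, 0, 0, 0⟩, ⟨0, 0, 0, 0, 0, 0, 0, 0⟩, ⟨2, 0, 0, 0, 0, 0, 0, 0⟩),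
  (⟨-1, 0, 0, 0, 0, 0, 1, 0⟩, ⟨-1, 1, 0, -2, 1, 0, 0, 1⟩, ⟨1, -1, 1, 1, -1, 1, 0, -1⟩),
  (⟨1, 0, 0, 0, 0, 0, 0, 0⟩, ⟨-3, -1, 2, -2, 2, 1, -1, 1⟩, ⟨1, 0, -1, 1, 0, -1, 0, 0⟩)]

/-- Words fixing the first vector. -/
def stabWords : List (List Nat) := [
  [],
  [1],
  [3, 0, 3],
  [3, 1, 4, 3, 0, 3, 0, 4, 1, 3, 0],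
  [3, 1, 4, 1, 3, 0, 3, 1, 4, 1, 3],
  [0, 4, 3, 0, 1, 3, 1, 0, 3, 1, 0, 4],
  [4, 3, 0, 1, 3, 4, 1, 3, 1, 0, 4, 1, 3],
  [3, 0, 3, 1, 3, 0, 3],
  [1, 3, 0, 3],
  [3, 1, 4, 3, 0, 4, 3, 4, 0, 3, 4, 1, 3],
  [3, 1, 4, 0, 1, 3, 1, 4, 3, 1, 0, 3, 4],
  [3, 0, 3, 1],
  [4, 0, 1, 4, 1, 3, 4, 1, 4, 3, 1, 4, 1, 0, 4],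
  [4, 0, 3, 4, 1, 4, 1, 3, 1, 4, 1, 4, 3, 0, 4],
  [4, 1, 4, 1, 3, 0, 4, 1, 0, 4, 0, 3, 1, 4, 1, 4, 0],
  [1, 3, 1, 4, 3, 0, 3, 0, 4, 1, 3, 0],
  [1, 3, 1, 4, 1, 3, 0, 3, 1, 4, 1, 3],
  [3, 0, 1, 4, 3, 0, 3, 0, 4, 1, 3, 0],
  [3, 0, 1, 4, 1, 3, 0, 3, 1, 4, 1, 3],
  [1, 4, 0, 1, 4, 1, 3, 4, 1, 4, 3, 1, 4, 1, 0, 4],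
  [1, 4, 0, 3, 4, 1, 4, 1, 3, 1, 4, 1, 4, 3, 0, 4],
  [1, 4, 1, 4, 1, 3, 0, 4, 1, 0, 4, 0, 3, 1, 4, 1, 4, 0],
  [3, 0, 3, 4, 0, 1, 4, 1, 3, 4, 1, 4, 3, 1, 4, 1, 0, 4],
  [3, 0, 3, 4, 0, 3, 4, 1, 4, 1, 3, 1, 4, 1, 4, 3, 0, 4],
  [3, 0, 3, 4, 1, 4, 1, 3, 0, 4, 1, 0, 4, 0, 3, 1, 4, 1, 4, 0],
  [3, 0, 3, 1, 4, 0, 1, 4, 1, 3, 4, 1, 4, 3, 1, 4, 1, 0, 4],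
  [3, 0, 3, 1, 4, 0, 3, 4, 1, 4, 1, 3, 1, 4, 1, 4, 3, 0, 4],
  [3, 0, 3, 1, 4, 1, 4, 1, 3, 0, 4, 1, 0, 4, 0, 3, 1, 4, 1, 4, 0],
  [4, 1, 4, 1, 3, 0, 4, 1, 0, 4, 0, 3, 1, 4, 1, 4, 0, 1, 3, 0, 3],
  [4, 1, 4, 1, 3, 0, 4, 1, 0, 4, 0, 3, 1, 4, 1, 4, 0, 3, 0, 3],
  [4, 1, 4, 1, 3, 0, 4, 1, 0, 4, 0, 3, 1, 4, 1, 4, 0, 1],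
  [4, 1, 4, 1, 3, 0, 4, 1, 0, 4, 0, 3, 1, 4, 1, 3, 0, 1, 3, 1, 0, 3, 1, 0, 4]]

/-- A word for the first unit generator. -/
def wordI : List Nat := [4, 1, 3, 0, 3, 4, 1, 4, 1, 3, 4, 1, 3, 0, 4, 3]

/-- A word for the second unit generator. -/
def wordW : List Nat := [4, 1, 4, 1, 3, 0, 3, 4, 1, 0, 4, 1, 3, 0]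

/-- The second base vector. -/
def base2 : Ico × Ico × Ico := (⟨0, 0, 0, 0, 1, 0, 0, 0⟩, ⟨-2, -1, 1, -1, 1, 0, -1, 1⟩, ⟨2, 1, -2, 2, -1, -1, 1, -1⟩)

/-- The third base vector. -/
def base3 : Ico × Ico × Ico := (⟨0, 0, 0, 0, 1, 0, 0, 0⟩, ⟨1, 0, -1, 1, -1, 0, 1, -1⟩, ⟨-1, 2, -2, -2, 1, -1, 1, 1⟩)

/-- Parent, generator and position, for each unit after the first. -/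
def unitTree : List (Nat × Nat × Nat) := [(0, 0, 74), (0, 1, 114), (1, 0, 0), (1, 1, 31), (2, 0, 32), (2, 1, 16), (3, 0, 45), (3, 1, 5), (4, 0, 6), (4, 1, 21), (5, 1, 30), (6, 0, 22), (7, 1, 88), (8, 0, 87), (8, 1, 103), (9, 1, 35), (10, 0, 104), (11, 0, 36), (11, 1, 51), (12, 1, 53), (13, 0, 113), (13, 1, 98), (14, 1, 89), (15, 0, 97), (16, 0, 90), (16, 1, 91), (17, 1, 92), (18, 1, 95), (19, 0, 94), (20, 0, 93), (20, 1, 96), (21, 1, 84), (22, 0, 15), (23, 0, 83), (23, 1, 68), (24, 1, 66), (25, 1, 42), (26, 0, 67), (27, 0, 69), (27, 1, 41), (28, 1, 115), (29, 1, 43), (30, 1, 117), (32, 0, 29), (32, 1,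 28), (33, 1, 27), (34, 1, 24), (35, 0, 25), (36, 0, 26), (36, 1, 23), (37, 1, 19), (38, 1, 8), (39, 1, 20), (41, 0, 18), (42, 0, 7), (42, 1, 17), (43, 1, 85), (44, 1, 77), (45, 0, 52), (46, 0, 50), (46, 1, 78), (47, 1, 4), (48, 1, 76), (49, 1, 2), (51, 0, 1), (52, 0, 75), (52, 1, 3), (53, 1, 14), (54, 1, 10), (55, 1, 12), (57, 0, 13), (58, 1, 100), (59, 1, 111), (60, 1, 99), (62, 0, 101), (63, 0, 112), (63, 1, 102), (64, 1, 34), (65, 1, 46), (66, 1, 47), (68, 0, 33), (69, 0, 49), (69, 1, 48), (70, 1, 65), (71, 1, 63), (72, 0, 118), (73, 0, 44), (73, 1, 116), (74, 1, 105), (75, 1, 109), (76, 1, 107),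 (78, 0, 106), (79, 0, 108), (79, 1, 110), (80, 1, 38), (81, 1, 37), (84, 0, 39), (85, 0, 40), (86, 1, 73), (87, 1, 72), (89, 0, 86), (90, 0, 70), (90, 1, 71), (91, 1, 54), (92, 1, 56), (95, 0, 57), (96, 0, 55), (97, 1, 59), (99, 0, 11), (99, 1, 9), (100, 1, 81), (101, 1, 82), (104, 0, 80), (105, 0, 79), (106, 1, 61), (108, 0, 58), (111, 0, 62), (112, 0, 64), (113, 1, 60)]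

/-- The position of one among the units. -/
def unitOne : Nat := 119

end Cfsg.Agent.IcoLeech.Data
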