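import Mathlib

/-!
Element orders in the symmetric and alternating groups of degree eight and in extensions of the
alternating group by sums of its six-dimensional module over the field of two elements.
-/

set_option autoImplicit false
set_option maxRecDepth 20000

namespace Cfsg.Agent.IcoLeech.Eight

open Equiv Finset

/-- A multiset containing every cycle type in degree eight. -/
def cyc : Multiset ℕ := {2, 2, 2, 2, 3, 3, 4, 4, 5, 6, 7, 8}

theorem cyc_facts : ∀ s ∈ cyc.powerset, s.sum ≤ 8 →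
    s.lcm ∈ ([1, 2, 3, 4, 5, 6, 7, 8, 10, 12, 15] : List ℕ) ∧
    ((s.sum + Multiset.card s) % 2 = 0 → s.lcm ∈ ([1, 2, 3, 4, 5, 6, 7, 15] : List ℕ)) ∧
    (s.lcm = 7 → s = {7}) ∧ (s.lcm = 15 → s = {5, 3}) := by
  decide +kernel

theorem cycleType_facts (σ : Perm (Fin 8)) :
    orderOf σ ∈ ([1, 2, 3, 4, 5, 6, 7, 8, 10, 12, 15] : List ℕ) ∧
    ((σ.cycleType.sum + Multiset.card σ.cycleType) % 2 = 0 → orderOf σ ∈ ([1, 2, 3, 4, 5, 6, 7, 15] : List ℕ)) ∧
    (orderOf σ = 7 → σ.cycleType = {7}) ∧ (orderOf σ = 15 → σ.cycleType = {5, 3}) := by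
  have h8 : σ.cycleType.sum ≤ 8 := by
    rw [Equiv.Perm.sum_cycleType]
    exact (Finset.card_le_univ _).trans (Fintype.card_fin 8).le
  have hle : σ.cycleType ≤ cyc := by
    refine Multiset.le_iff_count.2 fun x => ?_
    by_cases hx : x ∈ σ.cycleType
    · obtain ⟨R, hR⟩ := Multiset.le_iff_exists_add.1 (Multiset.le_count_iff_replicate_le.1 (le_refl (σ.cycleType.count x)))
      have hsum := congrArg Multiset.sum hR
      rw [Multiset.sum_add, Multiset.sum_replicate, smul_eq_mul] at hsum
      have h2 := Equiv.Perm.two_le_of_mem_cycleType hx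
      have hx8 : x ≤ 8 := (Multiset.single_le_sum (fun _ _ => Nat.zero_le _) x hx).trans h8
      interval_cases x
      all_goals simp [cyc, Multiset.count_cons, Multiset.count_singleton] at hsum ⊢
      all_goals omega
    · rw [Multiset.count_eq_zero_of_notMem hx]; exact Nat.zero_le _
  rw [← Equiv.Perm.lcm_cycleType]
  exact cyc_facts _ (Multiset.mem_powerset.2 hle) h8

theorem orderOf_mem (σ : Perm (Fin 8)) : orderOf σ ∈ ([1, 2, 3, 4, 5, 6, 7, 8, 10, 12, 15] : List ℕ) :=
  (cycleType_facts σ).1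

theorem orderOf_mem_alt (σ : Perm (Fin 8)) (h : σ ∈ alternatingGroup (Fin 8)) :
    orderOf σ ∈ ([1, 2, 3, 4, 5, 6, 7, 15] : List ℕ) := by
  refine (cycleType_facts σ).2.1 ?_
  rw [Equiv.Perm.mem_alternatingGroup, Equiv.Perm.sign_of_cycleType] at h
  rcases Nat.even_or_odd (σ.cycleType.sum + Multiset.card σ.cycleType) with he | ho
  · exact Nat.even_iff.1 he
  · rw [ho.neg_one_pow] at h
    exact absurd h (by decide)

/-- A seven-cycle. -/
def p7 : Perm (Fin 8) := List.formPerm [0, 1, 2, 3, 4, 5, 6]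

/-- An element of order fifteen. -/
def p15 : Perm (Fin 8) := List.formPerm [0, 1, 2, 3, 4] * List.formPerm [5, 6, 7]

/-- An element of order four. -/
def p4 : Perm (Fin 8) := List.formPerm [0, 1, 2, 3] * List.formPerm [4, 5]

/-- An element of order five. -/
def p5 : Perm (Fin 8) := List.formPerm [0, 1, 2, 3, 4]

/-- An element of order six. -/
def p6 : Perm (Fin 8) := List.formPerm [0, 1, 2] * List.formPerm [3, 4] * List.formPerm [5, 6]

theorem orders : orderOf p7 = 7 ∧ orderOf p15 = 15 ∧ orderOf p4 = 4 ∧ orderOf p5 = 5 ∧ orderOf p6 = 6 := by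
  refine ⟨(orderOf_eq_iff (by norm_num)).2 ?_, (orderOf_eq_iff (by norm_num)).2 ?_, (orderOf_eq_iff (by norm_num)).2 ?_,
    (orderOf_eq_iff (by norm_num)).2 ?_, (orderOf_eq_iff (by norm_num)).2 ?_⟩ <;>
    exact ⟨by decide +kernel, by decide +kernel⟩

theorem even_reps : p7 ∈ alternatingGroup (Fin 8) ∧ p15 ∈ alternatingGroup (Fin 8) ∧ p4 ∈ alternatingGroup (Fin 8) ∧
    p5 ∈ alternatingGroup (Fin 8) ∧ p6 ∈ alternatingGroup (Fin 8) := by
  simp only [Equiv.Perm.mem_alternatingGroup]
  decide +kernel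

theorem invariant_reps : ∀ w : Fin 8 → ZMod 2, ∑ x, w x = 0 →
    ((∀ x, w (p7 x) = w x) → ∀ x, w x = w 0) ∧ ((∀ x, w (p15 x) = w x) → ∀ x, w x = w 0) := by
  decide +kernel

/-- An invariant even vector of an element of order seven or fifteen is constant. -/
theorem invariant_const {σ : Perm (Fin 8)} (ho : orderOf σ = 7 ∨ orderOf σ = 15) {w : Fin 8 → ZMod 2}
    (hs : ∑ x, w x = 0) (hinv : ∀ x, w (σ x) = w x) (x y : Fin 8) : w x = w y := by
  have hct : σ.cycleType = p7.cycleType ∨ σ.cycleType = p15.cycleType := by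
    have key := fun τ : Perm (Fin 8) => (cycleType_facts τ).2.2
    rcases ho with h | h
    · exact Or.inl (((key σ).1 h).trans ((key p7).1 orders.1).symm)
    · exact Or.inr (((key σ).2 h).trans ((key p15).2 orders.2.1).symm)
  have main : ∀ ρ : Perm (Fin 8), IsConj ρ σ →
      (∀ v : Fin 8 → ZMod 2, ∑ z, v z = 0 → (∀ z, v (ρ z) = v z) → ∀ z, v z = v 0) → w x = w y := by
    intro ρ hρ h
    obtain ⟨γ, rfl⟩ := isConj_iff.1 hρ
    have := h (fun z => w (γ z)) ((Equiv.sum_comp γ w).trans hs) fun z => by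
      have := hinv (γ z)
      simpa using this
    have hx := this (γ.symm x)
    have hy := this (γ.symm y)
    simp only [Equiv.apply_symm_apply] at hx hy
    rw [hx, hy]
  rcases hct with h | h
  · exact main p7 (Equiv.Perm.isConj_iff_cycleType_eq.2 h.symm) fun v hv => (invariant_reps v hv).1
  · exact main p15 (Equiv.Perm.isConj_iff_cycleType_eq.2 h.symm) fun v hv => (invariant_reps v hv).2

/-! ### The extensions -/

variable (k : ℕ)

/-- The alternating group permutes the coordinates. -/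
def act : alternatingGroup (Fin 8) →* MulAut (Multiplicative (Fin k → Fin 8 → ZMod 2)) where
  toFun g :=
    { toFun := fun v => Multiplicative.ofAdd fun i x => v.toAdd i ((g : Perm (Fin 8)).symm x)
      invFun := fun v => Multiplicative.ofAdd fun i x => v.toAdd i ((g : Perm (Fin 8)) x)
      left_inv := fun v => Multiplicative.toAdd.injective (by funext i x; simp)
      right_inv := fun v => Multiplicative.toAdd.injective (by funext i x; simp)
      map_mul' := fun _ _ => rfl }
  map_one' := rfl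
  map_mul' _ _ := rfl

/-- The extension by the full permutation module. -/
abbrev Big : Type := Multiplicative (Fin k → Fin 8 → ZMod 2) ⋊[act k] alternatingGroup (Fin 8)

theorem act_apply (g : alternatingGroup (Fin 8)) (v : Multiplicative (Fin k → Fin 8 → ZMod 2)) (i : Fin k) (x : Fin 8) :
    (act k g v).toAdd i x = v.toAdd i ((g : Perm (Fin 8)).symm x) := rfl

/-- The even vectors. -/
def even : Subgroup (Big k) where
  carrier := {a | ∀ i, ∑ x, a.left.toAdd i x = 0}
  one_mem' i := by simp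
  mul_mem' {a b} ha hb i := by
    simp only [SemidirectProduct.mul_left, toAdd_mul, Pi.add_apply, Finset.sum_add_distrib, ha i, zero_add, act_apply]
    exact (Equiv.sum_comp (a.right : Perm (Fin 8)).symm (b.left.toAdd i)).trans (hb i)
  inv_mem' {a} ha i := by
    simp only [SemidirectProduct.inv_left, act_apply, toAdd_inv, Pi.neg_apply]
    rw [Equiv.sum_comp _ (fun x => -a.left.toAdd i x), Finset.sum_neg_distrib, ha i, neg_zero]

/-- The constant vectors. -/
def consts : Subgroup (even k) where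
  carrier := {a | a.1.right = 1 ∧ ∀ i x, a.1.left.toAdd i x = a.1.left.toAdd i 0}
  one_mem' := ⟨rfl, fun i x => by simp⟩
  mul_mem' {a b} ha hb := by
    refine ⟨?_, fun i x => ?_⟩
    · rw [Subgroup.coe_mul, SemidirectProduct.mul_right, ha.1, hb.1, one_mul]
    · rw [Subgroup.coe_mul, SemidirectProduct.mul_left, ha.1, map_one]
      simp only [MulAut.one_apply, toAdd_mul, Pi.add_apply]
      rw [ha.2 i x, hb.2 i x]
  inv_mem' {a} ha := by
    refine ⟨?_, fun i x => ?_⟩
    · rw [InvMemClass.coe_inv, SemidirectProduct.inv_right, ha.1, inv_one]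
    · rw [InvMemClass.coe_inv, SemidirectProduct.inv_left, ha.1, inv_one, map_one]
      simp only [MulAut.one_apply, toAdd_inv, Pi.neg_apply]
      rw [ha.2 i x]

instance consts_normal : (consts k).Normal :=
  ⟨fun n hn g => by
    refine ⟨?_, fun i x => ?_⟩
    · simp [hn.1]
    · simp only [Subgroup.coe_mul, InvMemClass.coe_inv, SemidirectProduct.mul_left, SemidirectProduct.mul_right,
        SemidirectProduct.inv_left, hn.1, mul_one, toAdd_mul, Pi.add_apply, act_apply, toAdd_inv, Pi.neg_apply]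
      rw [hn.2 i, hn.2 i ((g.1.right : Perm (Fin 8)).symm 0)]
      simp only [InvMemClass.coe_inv, Equiv.Perm.inv_def, Equiv.symm_symm, Equiv.apply_symm_apply, CharTwo.neg_eq]
      rw [add_right_comm, CharTwo.add_self_eq_zero, zero_add, add_right_comm, CharTwo.add_self_eq_zero, zero_add]⟩

/-- The extension by the six-dimensional module. -/
abbrev Grp : Type := even k ⧸ consts k

/-- The projection. -/
def proj : Grp k →* alternatingGroup (Fin 8) :=
  QuotientGroup.lift (consts k) (SemidirectProduct.rightHom.comp (even k).subtype) fun _ ha => MonoidHom.mem_ker.2 ha.1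

/-- The complement. -/
def inc : alternatingGroup (Fin 8) →* Grp k :=
  (QuotientGroup.mk' (consts k)).comp (SemidirectProduct.inr.codRestrict (even k) fun g i => by simp)

theorem proj_inc (g : alternatingGroup (Fin 8)) : proj k (inc k g) = g := rfl

theorem orderOf_inc (g : alternatingGroup (Fin 8)) : orderOf (inc k g) = orderOf (g : Perm (Fin 8)) := by
  rw [orderOf_injective (inc k) (fun a b h => by simpa [proj_inc] using congrArg (proj k) h) g, Subgroup.orderOf_coe]

theorem pow_right (a : Big k) (m : ℕ) : (a ^ m).right = a.right ^ m :=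
  map_pow SemidirectProduct.rightHom a m

theorem pow_left (a : Big k) (m : ℕ) (i : Fin k) (x : Fin 8) :
    (a ^ m).left.toAdd i x = ∑ j ∈ Finset.range m, a.left.toAdd i (((a.right : Perm (Fin 8)) ^ j).symm x) := by
  induction m with
  | zero => simp
  | succ m ih =>
    rw [pow_succ, SemidirectProduct.mul_left, toAdd_mul, Pi.add_apply, Pi.add_apply, act_apply, ih, pow_right,
      Finset.sum_range_succ, SubmonoidClass.coe_pow]

theorem orderOf_dvd_two_mul (q : Grp k) : orderOf q ∣ orderOf ((proj k q : Perm (Fin 8))) * 2 := by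
  induction q using QuotientGroup.induction_on with
  | _ a =>
    refine orderOf_dvd_of_pow_eq_one ?_
    have hr : proj k (QuotientGroup.mk a) = a.1.right := rfl
    rw [hr, pow_mul, ← QuotientGroup.mk_pow, ← QuotientGroup.mk_pow, QuotientGroup.eq_one_iff]
    set o := orderOf (a.1.right : Perm (Fin 8))
    have h1 : (a.1 ^ o).right = 1 := by
      rw [pow_right]
      exact Subtype.ext (by rw [SubmonoidClass.coe_pow]; exact pow_orderOf_eq_one _)
    refine ⟨?_, fun i x => ?_⟩
    · rw [SubmonoidClass.coe_pow, SubmonoidClass.coe_pow, pow_right, h1, one_pow]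
    · rw [SubmonoidClass.coe_pow, SubmonoidClass.coe_pow, pow_two, SemidirectProduct.mul_left, h1, map_one]
      simp only [MulAut.one_apply, toAdd_mul, Pi.add_apply]
      rw [CharTwo.add_self_eq_zero, CharTwo.add_self_eq_zero]

theorem pow_eq_one_of_fpf (q : Grp k) (ho : orderOf ((proj k q : Perm (Fin 8))) = 7 ∨
    orderOf ((proj k q : Perm (Fin 8))) = 15) : q ^ orderOf ((proj k q : Perm (Fin 8))) = 1 := by
  induction q using QuotientGroup.induction_on with
  | _ a =>
    have hr : proj k (QuotientGroup.mk a) = a.1.right := rfl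
    rw [hr] at ho ⊢
    rw [← QuotientGroup.mk_pow, QuotientGroup.eq_one_iff]
    set σ : Perm (Fin 8) := (a.1.right : Perm (Fin 8)) with hσ
    set o := orderOf σ with hod
    have h1 : (a.1 ^ o).right = 1 := by
      rw [pow_right]
      exact Subtype.ext (by rw [SubmonoidClass.coe_pow]; exact pow_orderOf_eq_one _)
    refine ⟨by rw [SubmonoidClass.coe_pow, h1], fun i x => ?_⟩
    rw [SubmonoidClass.coe_pow]
    have hsum := (a ^ o).2 i
    rw [SubmonoidClass.coe_pow] at hsum
    refine invariant_const ho hsum (fun y => ?_) x 0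
    rw [pow_left, pow_left]
    have step : ∀ j, a.1.left.toAdd i ((σ ^ (j + 1)).symm (σ y)) = a.1.left.toAdd i ((σ ^ j).symm y) := fun j => by
      rw [pow_succ']
      congr 1
      rw [Equiv.Perm.mul_def, Equiv.symm_trans_apply, Equiv.symm_apply_apply]
    have e1 : ∑ j ∈ Finset.range o, a.1.left.toAdd i ((σ ^ (j + 1)).symm (σ y)) =
        ∑ j ∈ Finset.range o, a.1.left.toAdd i ((σ ^ j).symm (σ y)) := by
      have h2 := Finset.sum_range_succ' (fun j => a.1.left.toAdd i ((σ ^ j).symm (σ y))) o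
      rw [Finset.sum_range_succ, show σ ^ o = σ ^ 0 by rw [hod, pow_orderOf_eq_one, pow_zero]] at h2
      exact (add_right_cancel h2).symm
    rw [← hσ]
    calc ∑ j ∈ Finset.range o, a.1.left.toAdd i ((σ ^ j).symm (σ y))
        = ∑ j ∈ Finset.range o, a.1.left.toAdd i ((σ ^ (j + 1)).symm (σ y)) := e1.symm
      _ = _ := Finset.sum_congr rfl fun j _ => step j

theorem orderOf_mem_grp (q : Grp k) : orderOf q ∈ ([1, 2, 3, 4, 5, 6, 7, 8, 10, 12, 15] : List ℕ) := by
  have key : ∀ e ∈ ([1, 2, 3, 4, 5, 6] : List ℕ), ∀ d ∈ Nat.divisors (e * 2),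
      d ∈ ([1, 2, 3, 4, 5, 6, 7, 8, 10, 12, 15] : List ℕ) := by decide +kernel
  have key2 : ∀ e ∈ ([7, 15] : List ℕ), ∀ d ∈ Nat.divisors e,
      d ∈ ([1, 2, 3, 4, 5, 6, 7, 8, 10, 12, 15] : List ℕ) := by decide +kernel
  have hm := orderOf_mem_alt _ (proj k q).2
  simp only [List.mem_cons, List.not_mem_nil, or_false] at hm
  have hsmall : orderOf ((proj k q : Perm (Fin 8))) ∈ ([1, 2, 3, 4, 5, 6] : List ℕ) ∨
      orderOf ((proj k q : Perm (Fin 8))) ∈ ([7, 15] : List ℕ) := by
    simp only [List.mem_cons, List.not_mem_nil, or_false]; tauto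
  rcases hsmall with h | h
  · exact key _ h _ (Nat.mem_divisors.2 ⟨orderOf_dvd_two_mul k q, by
      simpa using (orderOf_pos ((proj k q : Perm (Fin 8)))).ne'⟩)
  · refine key2 _ h _ (Nat.mem_divisors.2 ⟨orderOf_dvd_of_pow_eq_one (pow_eq_one_of_fpf k q ?_),
      (orderOf_pos _).ne'⟩)
    simpa using h

/-- The vector on two points in every coordinate. -/
def pair (s t : Fin 8) : Multiplicative (Fin k → Fin 8 → ZMod 2) :=
  Multiplicative.ofAdd fun _ x => (if x = s then 1 else 0) + (if x = t then 1 else 0)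

theorem pair_sum : ∀ s t : Fin 8, (∑ x : Fin 8, ((if x = s then (1 : ZMod 2) else 0) + (if x = t then 1 else 0))) = 0 := by
  decide +kernel

/-- An element of the extension. -/
def mkEl (s t : Fin 8) (g : alternatingGroup (Fin 8)) : Grp k :=
  QuotientGroup.mk ⟨⟨pair k s t, g⟩, fun _ => pair_sum s t⟩

theorem orderOf_mkEl {s t : Fin 8} {p : Perm (Fin 8)} (hp : p ∈ alternatingGroup (Fin 8)) {o : ℕ} (ho : orderOf p = o)
    (i : Fin k) (x y : Fin 8)
    (hw : ∑ j ∈ Finset.range o, ((if (p ^ j).symm x = s then (1 : ZMod 2) else 0) + (if (p ^ j).symm x = t then 1 else 0)) ≠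
      ∑ j ∈ Finset.range o, ((if (p ^ j).symm y = s then (1 : ZMod 2) else 0) + (if (p ^ j).symm y = t then 1 else 0))) :
    orderOf (mkEl k s t ⟨p, hp⟩) = o * 2 := by
  set q := mkEl k s t ⟨p, hp⟩
  have hd : orderOf q ∣ o * 2 := ho ▸ orderOf_dvd_two_mul k q
  have ho' : o ∣ orderOf q := by
    rw [← ho, ← Subgroup.orderOf_mk p hp]
    exact orderOf_map_dvd (proj k) q
  obtain ⟨c, hc⟩ := ho'
  rw [hc] at hd ⊢
  have hc2 : c ∣ 2 := Nat.dvd_of_mul_dvd_mul_left (by rw [← ho]; exact orderOf_pos p) hd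
  rcases (Nat.dvd_prime Nat.prime_two).1 hc2 with rfl | rfl
  · exfalso
    have h : q ^ o = 1 := by
      have := pow_orderOf_eq_one q
      rwa [hc, mul_one] at this
    rw [show q = QuotientGroup.mk _ from rfl, ← QuotientGroup.mk_pow, QuotientGroup.eq_one_iff] at h
    have h2 := (h.2 i x).trans (h.2 i y).symm
    rw [SubmonoidClass.coe_pow, pow_left, pow_left] at h2
    exact hw h2
  · rfl

/-- The spectrum of the extensions. -/
theorem range_orderOf_grp (hk : 0 < k) :
    Set.range (orderOf : Grp k → ℕ) = {1, 2, 3, 4, 5, 6, 7, 8, 10, 12, 15} := by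
  ext n
  constructor
  · rintro ⟨q, rfl⟩
    simpa using orderOf_mem_grp k q
  · intro hn
    obtain ⟨o7, o15, o4, o5, o6⟩ := orders
    obtain ⟨m7, m15, m4, m5, m6⟩ := even_reps
    let i : Fin k := ⟨0, hk⟩
    have o8 := orderOf_mkEl k (s := 0) (t := 4) m4 o4 i 0 4 (by decide +kernel)
    have o10 := orderOf_mkEl k (s := 5) (t := 6) m5 o5 i 5 7 (by decide +kernel)
    have o12 := orderOf_mkEl k (s := 3) (t := 7) m6 o6 i 3 7 (by decide +kernel)
    have i7 := (orderOf_inc k ⟨p7, m7⟩).trans o7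
    have i15 := (orderOf_inc k ⟨p15, m15⟩).trans o15
    have sub : ∀ {g : Grp k} {N d : ℕ}, orderOf g = N → 0 < N → d ∣ N → ∃ h : Grp k, orderOf h = d := by
      intro g N d hg hN hd
      subst hg
      refine ⟨g ^ (orderOf g / d), ?_⟩
      rw [orderOf_pow_of_dvd (Nat.div_pos (Nat.le_of_dvd hN hd) (Nat.pos_of_dvd_of_pos hd hN)).ne'
        (Nat.div_dvd_of_dvd hd), Nat.div_div_self hd hN.ne']
    simp only [Set.mem_insert_iff, Set.mem_singleton_iff] at hn
    rcases hn with rfl | rfl | rfl | rfl | rfl | rfl | rfl | rfl | rfl | rfl | rfl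
    exacts [sub o8 (by norm_num) (by norm_num), sub o8 (by norm_num) (by norm_num),
      sub o12 (by norm_num) (by norm_num), sub o8 (by norm_num) (by norm_num), sub o10 (by norm_num) (by norm_num),
      sub o12 (by norm_num) (by norm_num), ⟨_, i7⟩, ⟨_, o8⟩, ⟨_, o10⟩, ⟨_, o12⟩, ⟨_, i15⟩]

theorem finite_grp : Finite (Grp k) := by
  haveI : Finite (Big k) := Finite.of_equiv _ SemidirectProduct.equivProd.symm
  infer_instance

theorem card_grp_ge : 2 ^ k ≤ Nat.card (Grp k) := by
  haveI := finite_grp k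
  let v : (Fin k → ZMod 2) → Multiplicative (Fin k → Fin 8 → ZMod 2) := fun c =>
    Multiplicative.ofAdd fun i x => if x = 0 ∨ x = 1 then c i else 0
  have hv : ∀ c i, ∑ x, (v c).toAdd i x = 0 := fun c i => by
    simp only [v, toAdd_ofAdd, Fin.sum_univ_eight]
    simp [CharTwo.add_self_eq_zero]
  let f : (Fin k → ZMod 2) → Grp k := fun c => QuotientGroup.mk ⟨⟨v c, 1⟩, hv c⟩
  have hf : Function.Injective f := by
    intro c d e
    rw [QuotientGroup.eq] at e
    funext i
    have := e.2 i 2
    simp [v] at this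
    exact CharTwo.add_eq_zero.1 this.symm
  calc 2 ^ k = Nat.card (Fin k → ZMod 2) := by simp [Nat.card_eq_fintype_card]
    _ ≤ _ := Nat.card_le_card_of_injective f hf

/-- The spectrum of the symmetric group of degree eight. -/
theorem range_orderOf_perm :
    Set.range (orderOf : Perm (Fin 8) → ℕ) = {1, 2, 3, 4, 5, 6, 7, 8, 10, 12, 15} := by
  ext n
  constructor
  · rintro ⟨σ, rfl⟩
    simpa using orderOf_mem σ
  · intro hn
    obtain ⟨o7, o15, o4, o5, o6⟩ := orders
    have o8 : orderOf (List.formPerm [(0 : Fin 8), 1, 2, 3, 4, 5, 6, 7]) = 8 :=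
      (orderOf_eq_iff (by norm_num)).2 ⟨by decide +kernel, by decide +kernel⟩
    have o10 : orderOf (List.formPerm [(0 : Fin 8), 1, 2, 3, 4] * List.formPerm [(5 : Fin 8), 6]) = 10 :=
      (orderOf_eq_iff (by norm_num)).2 ⟨by decide +kernel, by decide +kernel⟩
    have o12 : orderOf (List.formPerm [(0 : Fin 8), 1, 2, 3] * List.formPerm [(4 : Fin 8), 5, 6]) = 12 :=
      (orderOf_eq_iff (by norm_num)).2 ⟨by decide +kernel, by decide +kernel⟩
    have sub : ∀ {g : Perm (Fin 8)} {N d : ℕ}, orderOf g = N → 0 < N → d ∣ N → ∃ h : Perm (Fin 8), orderOf h = d := by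
      intro g N d hg hN hd
      subst hg
      refine ⟨g ^ (orderOf g / d), ?_⟩
      rw [orderOf_pow_of_dvd (Nat.div_pos (Nat.le_of_dvd hN hd) (Nat.pos_of_dvd_of_pos hd hN)).ne'
        (Nat.div_dvd_of_dvd hd), Nat.div_div_self hd hN.ne']
    simp only [Set.mem_insert_iff, Set.mem_singleton_iff] at hn
    rcases hn with rfl | rfl | rfl | rfl | rfl | rfl | rfl | rfl | rfl | rfl | rfl
    exacts [sub o8 (by norm_num) (by norm_num), sub o8 (by norm_num) (by norm_num),
      sub o12 (by norm_num) (by norm_num), sub o8 (by norm_num) (by norm_num), sub o10 (by norm_num) (by norm_num),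
      sub o12 (by norm_num) (by norm_num), ⟨_, o7⟩, ⟨_, o8⟩, ⟨_, o10⟩, ⟨_, o12⟩, ⟨_, o15⟩]

end Cfsg.Agent.IcoLeech.Eight
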