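import Mathlib

/-!
A computable model of the icosian ring: eight integer coordinates over the basis `1, i, w, i w`
and its multiples by the golden ratio.
-/

set_option autoImplicit false

namespace Cfsg.Agent.IcoLeech

/-- The coordinates of an icosian. -/
structure Ico where
  a : ℤ
  b : ℤ
  c : ℤ
  d : ℤ
  a' : ℤ
  b' : ℤ
  c' : ℤ
  d' : ℤ
  deriving DecidableEq

namespace Ico

/-- The product. -/
def mul (x y : Ico) : Ico :=
  ⟨(x.a * y.a) - (x.b * y.b) - (x.c * y.b) - (x.c * y.c) + (x.c * y.b') - (x.d * y.b) - (x.d * y.d) + (x.a' * y.a') - (x.b' * y.b') + (x.c' * y.b) - (x.c' * y.c') - (x.d' * y.b') - (x.d' * y.d'),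
    (x.a * y.b) + (x.b * y.a) + (x.c * y.b) + (x.c * y.d) - (x.d * y.b) - (x.d * y.c) + (x.d * y.b') + (x.a' * y.b') + (x.b' * y.a') + (x.c' * y.b') + (x.c' * y.d') + (x.d' * y.b) - (x.d' * y.c'),
    (x.a * y.c) - (x.b * y.d) + (x.c * y.a) + (x.c * y.c) - (x.c * y.d) + (x.c * y.d') + (x.d * y.b) + (x.a' * y.c') - (x.b' * y.d') + (x.c' * y.d) + (x.c' * y.a') + (x.c' * y.c') + (x.d' * y.b'),
    (x.a * y.d) + (x.b * y.c) - (x.c * y.b) + (x.d * y.a) + (x.d * y.c) - (x.d * y.d) + (x.d * y.d') + (x.a' * y.d') + (x.b' * y.c') - (x.c' * y.b') + (x.d' * y.d) + (x.d' * y.a') + (x.d' * y.c'),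
    (x.a * y.a') - (x.b * y.b') + (x.c * y.b) - (x.c * y.c') - (x.d * y.b') - (x.d * y.d') + (x.a' * y.a) + (x.a' * y.a') - (x.b' * y.b) - (x.b' * y.b') - (x.c' * y.c) + (x.c' * y.b') - (x.c' * y.c') - (x.d' * y.b) - (x.d' * y.d) - (x.d' * y.b') - (x.d' * y.d'),
    (x.a * y.b') + (x.b * y.a') + (x.c * y.b') + (x.c * y.d') + (x.d * y.b) - (x.d * y.c') + (x.a' * y.b) + (x.a' * y.b') + (x.b' * y.a) + (x.b' * y.a') + (x.c' * y.b) + (x.c' * y.d) + (x.c' * y.b') + (x.c' * y.d') - (x.d' * y.c) + (x.d' * y.b') - (x.d' * y.c'),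
    (x.a * y.c') - (x.b * y.d') + (x.c * y.d) + (x.c * y.a') + (x.c * y.c') + (x.d * y.b') + (x.a' * y.c) + (x.a' * y.c') - (x.b' * y.d) - (x.b' * y.d') + (x.c' * y.a) + (x.c' * y.c) + (x.c' * y.a') + (x.c' * y.c') + (x.c' * y.d') + (x.d' * y.b) + (x.d' * y.b'),
    (x.a * y.d') + (x.b * y.c') - (x.c * y.b') + (x.d * y.d) + (x.d * y.a') + (x.d * y.c') + (x.a' * y.d) + (x.a' * y.d') + (x.b' * y.c) + (x.b' * y.c') - (x.c' * y.b) - (x.c' * y.b') + (x.d' * y.a) + (x.d' * y.c) + (x.d' * y.a') + (x.d' * y.c') + (x.d' * y.d')⟩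

/-- The conjugate. -/
def conj (x : Ico) : Ico := ⟨x.a + x.c - x.d + x.d', -x.b, -x.c, -x.d, x.d + x.a' + x.c', -x.b', -x.c', -x.d'⟩

/-- The sum. -/
def add (x y : Ico) : Ico :=
  ⟨x.a + y.a, x.b + y.b, x.c + y.c, x.d + y.d, x.a' + y.a', x.b' + y.b', x.c' + y.c', x.d' + y.d'⟩

/-- The difference. -/
def sub (x y : Ico) : Ico :=
  ⟨x.a - y.a, x.b - y.b, x.c - y.c, x.d - y.d, x.a' - y.a', x.b' - y.b', x.c' - y.c', x.d' - y.d'⟩

/-- The negative. -/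
def neg (x : Ico) : Ico := ⟨-x.a, -x.b, -x.c, -x.d, -x.a', -x.b', -x.c', -x.d'⟩

/-- Zero. -/
def zero : Ico := ⟨0, 0, 0, 0, 0, 0, 0, 0⟩

/-- One. -/
def one : Ico := ⟨1, 0, 0, 0, 0, 0, 0, 0⟩

/-- The golden ratio. -/
def phi : Ico := ⟨0, 0, 0, 0, 1, 0, 0, 0⟩

/-- The first generator. -/
def gI : Ico := ⟨0, 1, 0, 0, 0, 0, 0, 0⟩

/-- The second generator. -/
def gW : Ico := ⟨0, 0, 1, 0, 0, 0, 0, 0⟩

/-- The element `h`. -/
def h : Ico := ⟨2, 1, -1, 1, -2, 0, 1, -1⟩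

/-- The conjugate of `h`. -/
def hb : Ico := ⟨-1, -1, 1, -1, 0, 0, -1, 1⟩

/-- The integer parts of twice the real coordinates. -/
def twoA (x : Ico) : Fin 4 → ℤ
  | 0 => 2 * x.a + x.c - x.d + x.d'
  | 1 => 2 * x.b + x.c + x.d - x.c'
  | 2 => -x.d'
  | 3 => x.c'

/-- The golden parts of twice the real coordinates. -/
def twoB (x : Ico) : Fin 4 → ℤ
  | 0 => x.d + 2 * x.a' + x.c'
  | 1 => -x.c + 2 * x.b' + x.d'
  | 2 => -x.d - x.d'
  | 3 => x.c + x.c'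

/-- All parts divisible by two. -/
def even (x : Ico) : Bool :=
  x.a % 2 == 0 && x.b % 2 == 0 && x.c % 2 == 0 && x.d % 2 == 0 &&
    x.a' % 2 == 0 && x.b' % 2 == 0 && x.c' % 2 == 0 && x.d' % 2 == 0

/-- The half. -/
def half (x : Ico) : Ico :=
  ⟨x.a / 2, x.b / 2, x.c / 2, x.d / 2, x.a' / 2, x.b' / 2, x.c' / 2, x.d' / 2⟩

/-- The norm, as a pair of integers. -/
def nrm (x : Ico) : ℤ × ℤ := ((mul x (conj x)).a, (mul x (conj x)).a')

end Ico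

/-- Twice the real coordinates, flattened. -/
structure Two where
  t0 : ℤ
  t1 : ℤ
  t2 : ℤ
  t3 : ℤ
  t4 : ℤ
  t5 : ℤ
  t6 : ℤ
  t7 : ℤ
  deriving DecidableEq

/-- Twice the coordinates of an icosian. -/
def Ico.two (x : Ico) : Two :=
  ⟨2 * x.a + x.c - x.d + x.d', x.d + 2 * x.a' + x.c', 2 * x.b + x.c + x.d - x.c', -x.c + 2 * x.b' + x.d', -x.d', -x.d - x.d', x.c', x.c + x.c'⟩

/-- The icosian with the given doubled coordinates, when there is one. -/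
def Two.ico (t : Two) : Ico :=
  ⟨(t.t0 + 2 * t.t4 - t.t5 + t.t6 - t.t7) / 2, (t.t2 - t.t4 + t.t5 + 2 * t.t6 - t.t7) / 2, (-2 * t.t6 + 2 * t.t7) / 2, (2 * t.t4 - 2 * t.t5) / 2, (t.t1 - t.t4 + t.t5 - t.t6) / 2, (t.t3 + t.t4 - t.t6 + t.t7) / 2, (2 * t.t6) / 2, (-2 * t.t4) / 2⟩

end Cfsg.Agent.IcoLeech
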