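import Mathlib
import Cfsg.Prelude.Def_Spor_J2
import Cfsg.Agent.Lib.IcoLeech.Model

/-!
The model evaluates onto the icosian ring.
-/

set_option autoImplicit false

namespace Cfsg.Agent.IcoLeech

open Cfsg.Spor Quaternion

theorem tau_sq : tau * tau = tau + 1 := by
  show Cfsg.Spor.tau * Cfsg.Spor.tau = Cfsg.Spor.tau + 1
  have h := Real.mul_self_sqrt (show (0 : ℝ) ≤ 5 by norm_num)
  simp only [Cfsg.Spor.tau]
  linear_combination h / 4

theorem sig_eq : sig = 1 - tau := by simp only [Cfsg.Spor.sig, Cfsg.Spor.tau]; ring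

theorem sqrt_five : Real.sqrt 5 = 2 * tau - 1 := by simp only [Cfsg.Spor.tau]; ring

namespace Ico

/-- The quaternion of a model element. -/
noncomputable def toH (x : Ico) : ℍ[ℝ] :=
  ⟨((x.twoA 0 : ℝ) + (x.twoB 0 : ℝ) * tau) / 2, ((x.twoA 1 : ℝ) + (x.twoB 1 : ℝ) * tau) / 2,
    ((x.twoA 2 : ℝ) + (x.twoB 2 : ℝ) * tau) / 2, ((x.twoA 3 : ℝ) + (x.twoB 3 : ℝ) * tau) / 2⟩

theorem re_toH (x : Ico) : (toH x).re = ((x.twoA 0 : ℝ) + (x.twoB 0 : ℝ) * tau) / 2 := rfl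

theorem imI_toH (x : Ico) : (toH x).imI = ((x.twoA 1 : ℝ) + (x.twoB 1 : ℝ) * tau) / 2 := rfl

theorem imJ_toH (x : Ico) : (toH x).imJ = ((x.twoA 2 : ℝ) + (x.twoB 2 : ℝ) * tau) / 2 := rfl

theorem imK_toH (x : Ico) : (toH x).imK = ((x.twoA 3 : ℝ) + (x.twoB 3 : ℝ) * tau) / 2 := rfl

theorem toH_mul (x y : Ico) : toH (mul x y) = toH x * toH y := by
  refine QuaternionAlgebra.ext ?_ ?_ ?_ ?_
  · simp only [re_toH, imI_toH, imJ_toH, imK_toH, mul, twoA, twoB, Quaternion.re_mul]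
    push_cast
    linear_combination (norm := (simp only [twoB]; push_cast; ring)) -(1 / 4 : ℝ) * ((1) * ((x.twoB 0 : ℤ) : ℝ) * ((y.twoB 0 : ℤ) : ℝ) + (-1) * ((x.twoB 1 : ℤ) : ℝ) * ((y.twoB 1 : ℤ) : ℝ) + (-1) * ((x.twoB 2 : ℤ) : ℝ) * ((y.twoB 2 : ℤ) : ℝ) + (-1) * ((x.twoB 3 : ℤ) : ℝ) * ((y.twoB 3 : ℤ) : ℝ)) * tau_sq
  · simp only [re_toH, imI_toH, imJ_toH, imK_toH, mul, twoA, twoB, Quaternion.imI_mul]
    push_cast
    linear_combination (norm := (simp only [twoB]; push_cast; ring)) -(1 / 4 : ℝ) * ((1) * ((x.twoB 0 : ℤ) : ℝ) * ((y.twoB 1 : ℤ) : ℝ) + (1) * ((x.twoB 1 : ℤ) : ℝ) * ((y.twoB 0 : ℤ) : ℝ) + (1) * ((x.twoB 2 : ℤ) : ℝ) * ((y.twoB 3 : ℤ) : ℝ) + (-1) * ((x.twoB 3 : ℤ) : ℝ) * ((y.twoB 2 : ℤ) : ℝ)) * tau_sq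
  · simp only [re_toH, imI_toH, imJ_toH, imK_toH, mul, twoA, twoB, Quaternion.imJ_mul]
    push_cast
    linear_combination (norm := (simp only [twoB]; push_cast; ring)) -(1 / 4 : ℝ) * ((1) * ((x.twoB 0 : ℤ) : ℝ) * ((y.twoB 2 : ℤ) : ℝ) + (-1) * ((x.twoB 1 : ℤ) : ℝ) * ((y.twoB 3 : ℤ) : ℝ) + (1) * ((x.twoB 2 : ℤ) : ℝ) * ((y.twoB 0 : ℤ) : ℝ) + (1) * ((x.twoB 3 : ℤ) : ℝ) * ((y.twoB 1 : ℤ) : ℝ)) * tau_sq
  · simp only [re_toH, imI_toH, imJ_toH, imK_toH, mul, twoA, twoB, Quaternion.imK_mul]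
    push_cast
    linear_combination (norm := (simp only [twoB]; push_cast; ring)) -(1 / 4 : ℝ) * ((1) * ((x.twoB 0 : ℤ) : ℝ) * ((y.twoB 3 : ℤ) : ℝ) + (1) * ((x.twoB 1 : ℤ) : ℝ) * ((y.twoB 2 : ℤ) : ℝ) + (-1) * ((x.twoB 2 : ℤ) : ℝ) * ((y.twoB 1 : ℤ) : ℝ) + (1) * ((x.twoB 3 : ℤ) : ℝ) * ((y.twoB 0 : ℤ) : ℝ)) * tau_sq

theorem toH_conj (x : Ico) : toH (conj x) = star (toH x) := by
  ext <;> simp [re_toH, imI_toH, imJ_toH, imK_toH, conj, twoA, twoB] <;> ring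

theorem toH_add (x y : Ico) : toH (add x y) = toH x + toH y := by
  ext <;> simp [re_toH, imI_toH, imJ_toH, imK_toH, add, twoA, twoB] <;> ring

theorem toH_sub (x y : Ico) : toH (sub x y) = toH x - toH y := by
  ext <;> simp [re_toH, imI_toH, imJ_toH, imK_toH, sub, twoA, twoB] <;> ring

theorem toH_neg (x : Ico) : toH (neg x) = -toH x := by
  ext <;> simp [re_toH, imI_toH, imJ_toH, imK_toH, neg, twoA, twoB] <;> ring

theorem toH_zero : toH zero = 0 := by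
  ext <;> simp [re_toH, imI_toH, imJ_toH, imK_toH, zero, twoA, twoB]

theorem toH_one : toH one = 1 := by
  ext <;> simp [re_toH, imI_toH, imJ_toH, imK_toH, one, twoA, twoB]

theorem toH_gI : toH gI = qI := by
  ext <;> simp [re_toH, imI_toH, imJ_toH, imK_toH, gI, qI, twoA, twoB]

theorem toH_gW : toH gW = ⟨1 / 2, sig / 2, 0, tau / 2⟩ := by
  ext <;> simp [re_toH, imI_toH, imJ_toH, imK_toH, gW, sig_eq, twoA, twoB] <;> ring

theorem toH_h : toH h = icoH := by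
  ext <;> simp [re_toH, imI_toH, imJ_toH, imK_toH, h, icoH, sqrt_five, twoA, twoB] <;> ring

theorem toH_hb : toH hb = star icoH := by
  rw [← toH_h, ← toH_conj]; rfl

theorem pair_zero {A B : ℤ} (h : (A : ℝ) + B * tau = 0) : A = 0 ∧ B = 0 := by
  by_cases hB : B = 0
  · subst hB; simpa using h
  · exfalso
    have h5 : Irrational (Real.sqrt 5) := by
      simpa using (show Nat.Prime 5 by norm_num).irrational_sqrt
    refine h5 ⟨((-(2 * A) - B : ℤ) : ℚ) / (B : ℚ), ?_⟩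
    have hB' : (B : ℝ) ≠ 0 := Int.cast_ne_zero.2 hB
    simp only [Cfsg.Spor.tau] at h
    push_cast
    field_simp
    linear_combination (-2 : ℝ) * h

theorem pair_ext {A B A' B' : ℤ} (h : (A : ℝ) + B * tau = A' + B' * tau) : A = A' ∧ B = B' := by
  have := pair_zero (A := A - A') (B := B - B') (by push_cast; linear_combination h)
  omega

theorem two_injective {x y : Ico} (h : x.two = y.two) : x = y := by
  simp only [two, Two.mk.injEq] at h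
  cases x; cases y
  simp only [Ico.mk.injEq] at h ⊢
  omega

theorem toH_injective : Function.Injective toH := by
  intro x y h
  refine two_injective ?_
  have h0 := congrArg QuaternionAlgebra.re h
  have h1 := congrArg QuaternionAlgebra.imI h
  have h2 := congrArg QuaternionAlgebra.imJ h
  have h3 := congrArg QuaternionAlgebra.imK h
  simp only [re_toH, imI_toH, imJ_toH, imK_toH, div_left_inj' (two_ne_zero (α := ℝ))] at h0 h1 h2 h3
  obtain ⟨a0, b0⟩ := pair_ext h0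
  obtain ⟨a1, b1⟩ := pair_ext h1
  obtain ⟨a2, b2⟩ := pair_ext h2
  obtain ⟨a3, b3⟩ := pair_ext h3
  simp only [twoA, twoB] at a0 a1 a2 a3 b0 b1 b2 b3
  simp only [two, Two.mk.injEq]
  exact ⟨a0, b0, a1, b1, a2, b2, a3, b3⟩

/-- Twice a model element. -/
theorem toH_double (x : Ico) : toH (add x x) = 2 * toH x := by rw [toH_add, two_mul]

theorem toH_phi : toH phi = 1 + qI * toH gW + toH gW * toH gW * qI := by
  rw [← toH_gI, ← toH_mul, ← toH_mul, ← toH_mul, ← toH_one, ← toH_add, ← toH_add]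
  congr 1

theorem expand (x : Ico) : toH x =
    ((x.a : ℍ[ℝ]) + (x.b : ℍ[ℝ]) * toH gI + (x.c : ℍ[ℝ]) * toH gW + (x.d : ℍ[ℝ]) * toH (mul gI gW)) +
      toH phi * ((x.a' : ℍ[ℝ]) + (x.b' : ℍ[ℝ]) * toH gI + (x.c' : ℍ[ℝ]) * toH gW +
        (x.d' : ℍ[ℝ]) * toH (mul gI gW)) := by
  refine QuaternionAlgebra.ext ?_ ?_ ?_ ?_ <;>
    simp [re_toH, imI_toH, imJ_toH, imK_toH, phi, gI, gW, mul, twoA, twoB] <;> ring_nf <;> simp [pow_two, tau_sq] <;> ring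

theorem toH_mem (x : Ico) : toH x ∈ icosians := by
  have hi : qI ∈ icosians := Subring.subset_closure (Or.inl rfl)
  have hw : toH gW ∈ icosians := by rw [toH_gW]; exact Subring.subset_closure (Or.inr rfl)
  have ht : toH phi ∈ icosians := by
    rw [toH_phi]
    exact add_mem (add_mem (one_mem _) (mul_mem hi hw)) (mul_mem (mul_mem hw hw) hi)
  rw [expand, toH_mul, toH_gI]
  have hq : ∀ p q r s : ℤ, ((p : ℍ[ℝ]) + (q : ℍ[ℝ]) * qI + (r : ℍ[ℝ]) * toH gW +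
      (s : ℍ[ℝ]) * (qI * toH gW)) ∈ icosians := fun p q r s =>
    add_mem (add_mem (add_mem (intCast_mem _ _) (mul_mem (intCast_mem _ _) hi))
      (mul_mem (intCast_mem _ _) hw)) (mul_mem (intCast_mem _ _) (mul_mem hi hw))
  exact add_mem (hq _ _ _ _) (mul_mem ht (hq _ _ _ _))

theorem exists_toH {q : ℍ[ℝ]} (hq : q ∈ icosians) : ∃ x : Ico, toH x = q := by
  let S : Subring ℍ[ℝ] :=
    { carrier := Set.range toH
      mul_mem' := by rintro _ _ ⟨x, rfl⟩ ⟨y, rfl⟩; exact ⟨mul x y, toH_mul x y⟩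
      one_mem' := ⟨one, toH_one⟩
      add_mem' := by rintro _ _ ⟨x, rfl⟩ ⟨y, rfl⟩; exact ⟨add x y, toH_add x y⟩
      zero_mem' := ⟨zero, toH_zero⟩
      neg_mem' := by rintro _ ⟨x, rfl⟩; exact ⟨neg x, toH_neg x⟩ }
  have hle : icosians ≤ S := Subring.closure_le.2 (by
    rintro _ (rfl | rfl)
    · exact ⟨gI, toH_gI⟩
    · exact ⟨gW, toH_gW⟩)
  exact hle hq

end Ico

end Cfsg.Agent.IcoLeech
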