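import Cfsg.Agent.Lib.IcoLeech.MinVec

/-!
Five reflections of the icosian lattice, words in them, and the isometries of the lattice.
-/

set_option autoImplicit false
set_option maxRecDepth 100000
set_option maxHeartbeats 4000000

namespace Cfsg.Agent.IcoLeech

open Cfsg.Spor Quaternion

/-- The vector `(2, 0, 0)`. -/
def E0 : V3 := ⟨two', Ico.zero, Ico.zero⟩

/-- The vector `(0, 2, 0)`. -/
def E1 : V3 := ⟨Ico.zero, two', Ico.zero⟩

/-- The vector `(0, 0, 2)`. -/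
def E2 : V3 := ⟨Ico.zero, Ico.zero, two'⟩

/-- A sum of vectors. -/
def V3.add (v w : V3) : V3 := ⟨Ico.add v.x w.x, Ico.add v.y w.y, Ico.add v.z w.z⟩

/-- A difference of vectors. -/
def V3.sub (v w : V3) : V3 := ⟨Ico.sub v.x w.x, Ico.sub v.y w.y, Ico.sub v.z w.z⟩

/-- A lattice vector with first component one. -/
def B1 : V3 := ofTriple (Data.lines.getD 2 (Ico.zero, Ico.zero, Ico.zero))

/-- A lattice vector with first component zero and second component `h`. -/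
def B2 : V3 := ⟨Ico.zero, Ico.h, Ico.neg Ico.h⟩

theorem toH_two' : Ico.toH two' = 2 := by
  rw [show two' = Ico.add Ico.one Ico.one by decide, Ico.toH_add, Ico.toH_one]
  norm_num

theorem toH_four : Ico.toH four = 4 := by
  rw [show four = Ico.add two' two' by decide, Ico.toH_add, toH_two']
  norm_num

theorem inLam_facts : E0.inLam = true ∧ E1.inLam = true ∧ E2.inLam = true ∧ B1.inLam = true ∧
    B2.inLam = true ∧ B1.x = Ico.one := by decide +kernel

theorem inLam_sub {v w : V3} (hv : v.inLam = true) (hw : w.inLam = true) : (V3.sub v w).inLam = true := by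
  obtain ⟨hI, ⟨a, ha, e1⟩, ⟨b, hb, e2⟩, ⟨c, hc, e3⟩⟩ := (V3.toV_mem_iff v).2 hv
  obtain ⟨hI', ⟨a', ha', e1'⟩, ⟨b', hb', e2'⟩, ⟨c', hc', e3'⟩⟩ := (V3.toV_mem_iff w).2 hw
  simp only [V3.toV_zero, V3.toV_one, V3.toV_two] at e1 e2 e3 e1' e2' e3'
  refine (V3.toV_mem_iff _).1 ⟨fun t => by fin_cases t <;> exact Ico.toH_mem _, ⟨a - a', sub_mem ha ha', ?_⟩,
    ⟨b - b', sub_mem hb hb', ?_⟩, ⟨c - c', sub_mem hc hc', ?_⟩⟩ <;>
    simp only [V3.toV_zero, V3.toV_one, V3.toV_two, V3.sub, Ico.toH_sub, sub_mul]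
  · rw [← e1, ← e1']; abel
  · rw [← e2, ← e2']; abel
  · rw [← e3, ← e3']; abel

theorem qip_add (v w r : V3) : V3.qip (V3.add v w) r = Ico.add (V3.qip v r) (V3.qip w r) :=
  Ico.toH_injective (by
    simp only [V3.qip, V3.add, Ico.toH_add, Ico.toH_mul, add_mul]
    abel)

theorem even_add {a c : Ico} (ha : a.even = true) (hc : c.even = true) : (Ico.add a c).even = true := by
  obtain ⟨p, rfl⟩ := Ico.even_iff.1 ha
  obtain ⟨q, rfl⟩ := Ico.even_iff.1 hc
  exact Ico.even_iff.2 ⟨Ico.add p q, Ico.toH_injective (by simp only [Ico.toH_add]; abel)⟩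

theorem even_mul {a : Ico} (c : Ico) (ha : a.even = true) : (Ico.mul c a).even = true := by
  obtain ⟨p, rfl⟩ := Ico.even_iff.1 ha
  exact Ico.even_iff.2 ⟨Ico.mul c p, Ico.toH_injective (by simp only [Ico.toH_mul, Ico.toH_add, mul_add])⟩

theorem even_of_both {x : Ico} (h1 : (Ico.mul x Ico.hb).even = true) (h2 : (Ico.mul x Ico.h).even = true) :
    x.even = true := by
  obtain ⟨p, hp⟩ := Ico.even_iff.1 h1
  obtain ⟨q, hq⟩ := Ico.even_iff.1 h2
  have e5 : Ico.mul x ⟨5, 0, 0, 0, 0, 0, 0, 0⟩ =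
      Ico.add (Ico.mul (Ico.add p q) (Ico.add Ico.hb Ico.h)) (Ico.mul (Ico.add p q) (Ico.add Ico.hb Ico.h)) := by
    rw [show (⟨5, 0, 0, 0, 0, 0, 0, 0⟩ : Ico) = Ico.mul (Ico.add Ico.hb Ico.h) (Ico.add Ico.hb Ico.h) by decide]
    refine Ico.toH_injective ?_
    have hp' := congrArg Ico.toH hp
    have hq' := congrArg Ico.toH hq
    simp only [Ico.toH_mul, Ico.toH_add] at hp' hq' ⊢
    rw [← mul_assoc, mul_add (Ico.toH x), hp', hq']
    noncomm_ring
  have e6 : Ico.mul x ⟨5, 0, 0, 0, 0, 0, 0, 0⟩ =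
      ⟨5 * x.a, 5 * x.b, 5 * x.c, 5 * x.d, 5 * x.a', 5 * x.b', 5 * x.c', 5 * x.d'⟩ := by
    simp only [Ico.mul, Ico.mk.injEq, mul_zero, neg_zero, add_zero, sub_zero, zero_add, zero_sub]
    refine ⟨?_, ?_, ?_, ?_, ?_, ?_, ?_, ?_⟩ <;> ring
  have he := Ico.even_iff.2 ⟨_, e6.symm.trans e5⟩
  simp only [Ico.even, Bool.and_eq_true, beq_iff_eq] at he ⊢
  obtain ⟨⟨⟨⟨⟨⟨⟨g0, g1⟩, g2⟩, g3⟩, g4⟩, g5⟩, g6⟩, g7⟩ := he
  refine ⟨⟨⟨⟨⟨⟨⟨?_, ?_⟩, ?_⟩, ?_⟩, ?_⟩, ?_⟩, ?_⟩, ?_⟩ <;> omega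

/-- The lattice is generated by three vectors. -/
theorem decompose {v : V3} (h : v.inLam = true) :
    ∃ a p q : Ico, v = V3.add (V3.add (V3.sm a B1) (V3.sm p B2)) (V3.sm q E2) := by
  obtain ⟨-, -, -, hB1, hB2, hx⟩ := inLam_facts
  set w := V3.sub v (V3.sm v.x B1) with hw
  have hwL : w.inLam = true := inLam_sub h (V3.inLam_sm _ hB1)
  have hwx : w.x = Ico.zero := by
    show Ico.sub v.x (Ico.mul v.x B1.x) = Ico.zero
    rw [hx, Ico.mul_one']
    exact Ico.toH_injective (by rw [Ico.toH_sub, sub_self, Ico.toH_zero])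
  obtain ⟨-, hy, -⟩ := inH_all hwL (Or.inl hwx)
  obtain ⟨p, hp, ep⟩ := Ico.mem_leftIdeal_h.2 hy
  obtain ⟨p, rfl⟩ := Ico.exists_toH hp
  set w2 := V3.sub w (V3.sm p B2) with hw2
  have hw2L : w2.inLam = true := inLam_sub hwL (V3.inLam_sm _ hB2)
  have h2x : w2.x = Ico.zero := by
    show Ico.sub w.x (Ico.mul p Ico.zero) = Ico.zero
    exact Ico.toH_injective (by rw [Ico.toH_sub, hwx, Ico.toH_mul, Ico.toH_zero, mul_zero, sub_zero])
  have h2y : w2.y = Ico.zero := by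
    show Ico.sub w.y (Ico.mul p Ico.h) = Ico.zero
    exact Ico.toH_injective (by rw [Ico.toH_sub, Ico.toH_mul, Ico.toH_h, ← ep, sub_self, Ico.toH_zero])
  obtain ⟨-, -, hz⟩ := inH_all hw2L (Or.inl h2x)
  have hz2 : (Ico.mul w2.z Ico.h).even = true := by
    have h3 := hw2L
    simp only [V3.inLam, Bool.and_eq_true, h2x, h2y] at h3
    have e : Ico.add (Ico.add Ico.zero Ico.zero) w2.z = w2.z :=
      Ico.toH_injective (by simp [Ico.toH_add, Ico.toH_zero])
    rw [e] at h3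
    exact h3.2
  obtain ⟨q, hq⟩ := Ico.even_iff.1 (even_of_both hz hz2)
  refine ⟨v.x, p, q, ?_⟩
  refine V3.toV_injective (funext fun t => ?_)
  have e1 := congrArg Ico.toH hwx
  have e2 := congrArg Ico.toH h2x
  have e3 := congrArg Ico.toH h2y
  have e4 := congrArg Ico.toH hq
  simp only [hw2, hw, V3.sub, V3.sm, Ico.toH_sub, Ico.toH_mul, Ico.toH_zero, Ico.toH_add] at e1 e2 e3 e4
  fin_cases t
  · show Ico.toH v.x = Ico.toH (Ico.add (Ico.add (Ico.mul v.x B1.x) (Ico.mul p Ico.zero)) (Ico.mul q Ico.zero))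
    simp [Ico.toH_add, Ico.toH_mul, Ico.toH_zero, hx, Ico.toH_one]
  · show Ico.toH v.y = Ico.toH (Ico.add (Ico.add (Ico.mul v.x B1.y) (Ico.mul p Ico.h)) (Ico.mul q Ico.zero))
    simp only [Ico.toH_add, Ico.toH_mul, Ico.toH_zero, mul_zero, add_zero]
    change Ico.toH v.y - Ico.toH v.x * Ico.toH B1.y - Ico.toH p * Ico.toH Ico.h = 0 at e3
    rw [← sub_eq_zero, ← e3]
    abel
  · show Ico.toH v.z = Ico.toH (Ico.add (Ico.add (Ico.mul v.x B1.z) (Ico.mul p (Ico.neg Ico.h))) (Ico.mul q two'))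
    simp only [Ico.toH_add, Ico.toH_mul, toH_two', mul_two]
    rw [← e4]
    show Ico.toH v.z = Ico.toH v.x * Ico.toH B1.z + Ico.toH p * Ico.toH (Ico.neg Ico.h) +
      (Ico.toH v.z - Ico.toH v.x * Ico.toH B1.z - Ico.toH p * Ico.toH (Ico.neg Ico.h))
    abel

/-- The five reflection vectors. -/
def G (k : ℕ) : V3 := ofTriple (Data.gens.getD k (two', Ico.zero, Ico.zero))

theorem gens_facts : (List.range 6).all (fun k => (G k).inLam && V3.qip (G k) (G k) == four &&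
    (V3.qip B1 (G k)).even && (V3.qip B2 (G k)).even && (V3.qip E2 (G k)).even) = true := by decide +kernel

theorem G_big {k : ℕ} (h : 5 ≤ k) : G k = G 5 := by
  have hl : Data.gens.length = 5 := rfl
  simp only [G]
  rw [List.getD_eq_default _ _ (by omega), List.getD_eq_default _ _ (by omega)]

theorem G_facts (k : ℕ) : (G k).inLam = true ∧ V3.qip (G k) (G k) = four ∧
    ∀ v : V3, v.inLam = true → (V3.qip v (G k)).even = true := by
  wlog hk : k < 6 generalizing k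
  · rw [G_big (by omega)]; exact this 5 (by norm_num)
  have h := List.all_eq_true.1 gens_facts k (List.mem_range.2 hk)
  simp only [Bool.and_eq_true, beq_iff_eq] at h
  obtain ⟨⟨⟨⟨h1, h2⟩, h3⟩, h4⟩, h5⟩ := h
  refine ⟨h1, h2, fun v hv => ?_⟩
  obtain ⟨a, p, q, rfl⟩ := decompose hv
  rw [qip_add, qip_add, V3.qip_sm, V3.qip_sm, V3.qip_sm]
  exact even_add (even_add (even_mul _ h3) (even_mul _ h4)) (even_mul _ h5)

theorem inLam_refl (k : ℕ) {v : V3} (hv : v.inLam = true) : (V3.refl (G k) v).inLam = true := by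
  have e : V3.refl (G k) v = V3.sub v (V3.sm (Ico.half (V3.qip v (G k))) (G k)) := rfl
  rw [e]
  exact inLam_sub hv (V3.inLam_sm _ (G_facts k).1)

/-- The first frame vector. -/
noncomputable def e0 : icoLeech := el E0 inLam_facts.1

/-- The reflection, as a map. -/
noncomputable def gfun (k : ℕ) (x : icoLeech) : icoLeech := el _ (inLam_refl k (vec_inLam x))

theorem coe_gfun (k : ℕ) (x : icoLeech) :
    (gfun k x : Fin 3 → ℍ[ℝ]) = qrefl (V3.toV (G k)) (x : Fin 3 → ℍ[ℝ]) := by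
  rw [← toV_vec x]
  exact V3.refl_toV ((G_facts k).2.2 _ (vec_inLam x))

theorem qip_sub_smul (a : ℍ[ℝ]) (x r w : Fin 3 → ℍ[ℝ]) :
    Cfsg.Spor.qip (fun t => x t - a * r t) w = Cfsg.Spor.qip x w - a * Cfsg.Spor.qip r w := by
  simp only [Cfsg.Spor.qip, sub_mul, Finset.sum_sub_distrib, Finset.mul_sum, mul_assoc]

theorem qrefl_qrefl {r : Fin 3 → ℍ[ℝ]} (hr : Cfsg.Spor.qip r r = 4) (x : Fin 3 → ℍ[ℝ]) :
    qrefl r (qrefl r x) = x := by
  have e : Cfsg.Spor.qip (qrefl r x) r = -Cfsg.Spor.qip x r := by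
    show Cfsg.Spor.qip (fun t => x t - ((1 / 2 : ℝ) • Cfsg.Spor.qip x r) * r t) r = _
    rw [qip_sub_smul, hr, show (4 : ℍ[ℝ]) = ((4 : ℝ) : ℍ[ℝ]) by norm_cast, Quaternion.mul_coe_eq_smul,
      smul_smul]
    norm_num [two_smul]
  funext t
  show qrefl r x t - ((1 / 2 : ℝ) • Cfsg.Spor.qip (qrefl r x) r) * r t = x t
  rw [e, smul_neg, neg_mul, sub_neg_eq_add]
  exact sub_add_cancel _ _

theorem qip_star (x y : Fin 3 → ℍ[ℝ]) : star (Cfsg.Spor.qip x y) = Cfsg.Spor.qip y x := by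
  simp [Cfsg.Spor.qip, star_sum, star_mul, star_star]

theorem qip_qrefl {r : Fin 3 → ℍ[ℝ]} (hr : Cfsg.Spor.qip r r = 4) (x y : Fin 3 → ℍ[ℝ]) :
    Cfsg.Spor.qip (qrefl r x) (qrefl r y) = Cfsg.Spor.qip x y := by
  have key : ∀ u v, Cfsg.Spor.qip (qrefl r u) v =
      Cfsg.Spor.qip u v - ((1 / 2 : ℝ) • Cfsg.Spor.qip u r) * Cfsg.Spor.qip r v := fun u v =>
    qip_sub_smul _ u r v
  rw [key, ← qip_star (qrefl r y) x, ← qip_star (qrefl r y) r, key, key, star_sub, star_sub, star_mul,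
    star_mul, qip_star, qip_star, hr, Quaternion.star_smul, qip_star]
  rw [show (4 : ℍ[ℝ]) = ((4 : ℝ) : ℍ[ℝ]) by norm_cast, Quaternion.star_coe, Quaternion.coe_mul_eq_smul]
  simp only [mul_sub, smul_smul, smul_mul_assoc, mul_smul_comm]
  module

theorem qip_G (k : ℕ) : Cfsg.Spor.qip (V3.toV (G k)) (V3.toV (G k)) = 4 := by
  rw [← V3.qip_toV, (G_facts k).2.1, toH_four]

/-- The reflection, as a permutation. -/
noncomputable def gperm (k : ℕ) : Equiv.Perm icoLeech :=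
  Function.Involutive.toPerm (gfun k) fun x => Subtype.ext (by
    rw [coe_gfun, coe_gfun, qrefl_qrefl (qip_G k)])

theorem isRefl_gperm (k : ℕ) : IsIcoReflection (gperm k) :=
  ⟨el (G k) (G_facts k).1, qip_G k, fun x => coe_gfun k x⟩

theorem gperm_mem (k : ℕ) : gperm k ∈ twoJ2 := Subgroup.subset_closure (isRefl_gperm k)

/-- The image of a vector under a word; the first letter acts last. -/
def wapp : List ℕ → V3 → V3
  | [], v => v
  | k :: w, v => V3.refl (G k) (wapp w v)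

/-- The permutation of a word. -/
noncomputable def wel (w : List ℕ) : twoJ2 := (w.map fun k => (⟨gperm k, gperm_mem k⟩ : twoJ2)).prod

theorem vec_wel : ∀ (w : List ℕ) (x : icoLeech), vec ((wel w : Equiv.Perm icoLeech) x) = wapp w (vec x)
  | [], x => rfl
  | k :: w, x => by
    rw [wel, List.map_cons, List.prod_cons, Subgroup.coe_mul, Equiv.Perm.mul_apply]
    show vec (gfun k _) = V3.refl (G k) (wapp w (vec x))
    rw [gfun, vec_el, ← vec_wel w x]
    rfl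

end Cfsg.Agent.IcoLeech
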