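import Cfsg.Agent.Lib.IcoLeech.Norm
import Cfsg.Agent.Lib.IcoLeech.Data

/-!
The icosians of the small norms, by a bounded search.
-/

set_option autoImplicit false
set_option maxRecDepth 100000
set_option maxHeartbeats 4000000

namespace Cfsg.Agent.IcoLeech

/-- The trace form of one coordinate. -/
def trc (c : ℤ × ℤ) : ℤ := 2 * c.1 * c.1 + 2 * c.1 * c.2 + 3 * c.2 * c.2

/-- The square of one coordinate. -/
def sqc (c : ℤ × ℤ) : ℤ × ℤ := (c.1 * c.1 + c.2 * c.2, 2 * c.1 * c.2 + c.2 * c.2)

/-- The possible coordinates. -/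
def tOpts : List (ℤ × ℤ) :=
  ([-3, -2, -1, 0, 1, 2, 3].flatMap fun a : ℤ => [-3, -2, -1, 0, 1, 2, 3].map fun b : ℤ => (a, b)).filter
    fun c => decide (trc c ≤ 16)

theorem mem_tOpts {a b : ℤ} (h : trc (a, b) ≤ 16) : (a, b) ∈ tOpts := by
  simp only [tOpts, List.mem_filter, List.mem_flatMap, List.mem_map, decide_eq_true_eq]
  refine ⟨⟨a, ?_, b, ?_, rfl⟩, h⟩
  · simp only [trc] at h
    have h1 : a ≤ 3 := by nlinarith [sq_nonneg (a + 3 * b)]
    have h2 : -3 ≤ a := by nlinarith [sq_nonneg (a + 3 * b)]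
    interval_cases a <;> decide
  · simp only [trc] at h
    have h1 : b ≤ 3 := by nlinarith [sq_nonneg (2 * a + b)]
    have h2 : -3 ≤ b := by nlinarith [sq_nonneg (2 * a + b)]
    interval_cases b <;> decide

/-- The icosians of norm `al`, for small trace. -/
def search (al : ℤ × ℤ) : List Ico :=
  let M := 4 * (2 * al.1 + al.2)
  tOpts.flatMap fun c0 => (tOpts.filter fun c1 => decide (trc c0 + trc c1 ≤ M)).flatMap fun c1 =>
    (tOpts.filter fun c2 => decide (trc c0 + trc c1 + trc c2 ≤ M)).flatMap fun c2 =>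
      (tOpts.filter fun c3 => decide ((sqc c0).1 + (sqc c1).1 + (sqc c2).1 + (sqc c3).1 = 4 * al.1) &&
          decide ((sqc c0).2 + (sqc c1).2 + (sqc c2).2 + (sqc c3).2 = 4 * al.2)).flatMap fun c3 =>
        let t : Two := ⟨c0.1, c0.2, c1.1, c1.2, c2.1, c2.2, c3.1, c3.2⟩
        if t.ico.two = t then [t.ico] else []

theorem trc_nonneg (c : ℤ × ℤ) : 0 ≤ trc c := by
  simp only [trc]; nlinarith [sq_nonneg (2 * c.1 + c.2), sq_nonneg c.2]

theorem ico_two (x : Ico) : x.two.ico = x := by
  cases x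
  simp only [Ico.two, Two.ico, Ico.mk.injEq]
  omega

theorem mem_search {x : Ico} {al : ℤ × ℤ} (h : x.nrm = al) (hs : 2 * al.1 + al.2 ≤ 4) : x ∈ search al := by
  subst h
  have h1 := Ico.nrm_fst x
  have h2 := Ico.nrm_snd x
  have h3 := Ico.nrm_trace x
  have e : ∀ k, trc (x.twoA k, x.twoB k) = 2 * x.twoA k ^ 2 + 2 * x.twoA k * x.twoB k + 3 * x.twoB k ^ 2 :=
    fun k => by simp only [trc]; ring
  have n := fun k => trc_nonneg (x.twoA k, x.twoB k)
  have m0 := mem_tOpts (a := x.twoA 0) (b := x.twoB 0) (by linarith [e 0, e 1, e 2, e 3, n 1, n 2, n 3])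
  have m1 := mem_tOpts (a := x.twoA 1) (b := x.twoB 1) (by linarith [e 0, e 1, e 2, e 3, n 0, n 2, n 3])
  have m2 := mem_tOpts (a := x.twoA 2) (b := x.twoB 2) (by linarith [e 0, e 1, e 2, e 3, n 0, n 1, n 3])
  have m3 := mem_tOpts (a := x.twoA 3) (b := x.twoB 3) (by linarith [e 0, e 1, e 2, e 3, n 0, n 1, n 2])
  have et : (⟨x.twoA 0, x.twoB 0, x.twoA 1, x.twoB 1, x.twoA 2, x.twoB 2, x.twoA 3, x.twoB 3⟩ : Two) = x.two := rfl
  simp only [search, List.mem_flatMap, List.mem_filter, decide_eq_true_eq, Bool.and_eq_true]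
  refine ⟨_, m0, _, ⟨m1, ?_⟩, _, ⟨m2, ?_⟩, _, ⟨m3, ?_, ?_⟩, ?_⟩
  · linarith [e 0, e 1, e 2, e 3, n 2, n 3]
  · linarith [e 0, e 1, e 2, e 3, n 3]
  · simp only [sqc]; linear_combination -h1
  · simp only [sqc]; linear_combination -h2
  · rw [et, ico_two, if_pos rfl]
    exact List.mem_singleton_self x

theorem search_one : search (1, 0) = Data.units := by decide +kernel

theorem search_tau : search (1, 1) = Data.nTau := by decide +kernel

theorem search_sig : search (2, -1) = Data.nSig := by decide +kernel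

theorem search_two : search (2, 0) = Data.nTwo := by decide +kernel

theorem units_nrm : ∀ u ∈ Data.units, u.nrm = (1, 0) := by decide +kernel

theorem units_nodup : Data.units.Nodup := by decide +kernel

theorem mem_units {x : Ico} : x ∈ Data.units ↔ x.nrm = (1, 0) :=
  ⟨units_nrm x, fun h => search_one ▸ mem_search h (by norm_num)⟩

/-- The check that each element of norm two is moved to a representative. -/
def twoNormalOK : Bool :=
  (List.zip Data.nTwo Data.twoUnit).all (fun p => Data.reps.contains (Ico.mul (Data.units.getD p.2 Ico.zero) p.1) &&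
    decide (p.2 < 120)) && Data.nTwo.length == Data.twoUnit.length

theorem twoNormal : twoNormalOK = true := by decide +kernel

theorem exists_unit_two {y : Ico} (h : y.nrm = (2, 0)) : ∃ u ∈ Data.units, Ico.mul u y ∈ Data.reps := by
  have hy : y ∈ Data.nTwo := search_two ▸ mem_search h (by norm_num)
  have h' := twoNormal
  simp only [twoNormalOK, Bool.and_eq_true, List.all_eq_true, beq_iff_eq, decide_eq_true_eq,
    List.contains_eq_mem] at h'
  obtain ⟨i, hi, rfl⟩ := List.getElem_of_mem hy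
  have hi2 : i < Data.twoUnit.length := h'.2 ▸ hi
  have hiz : i < (List.zip Data.nTwo Data.twoUnit).length := by rw [List.length_zip]; omega
  obtain ⟨h1, h2⟩ := h'.1 _ (List.getElem_mem hiz)
  rw [List.getElem_zip] at h1 h2
  have hl : Data.units.length = 120 := by decide +kernel
  refine ⟨_, ?_, h1⟩
  rw [List.getD_eq_getElem _ _ (by omega)]
  exact List.getElem_mem _

end Cfsg.Agent.IcoLeech
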