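import Cfsg.Agent.Lib.IcoLeech.Vec
import Cfsg.Agent.Lib.IcoLeech.Search
import Cfsg.Agent.Lib.IcoLeech.Keys

/-!
The finite checks for the minimal vectors of the icosian lattice.
-/

set_option autoImplicit false
set_option maxRecDepth 100000
set_option maxHeartbeats 4000000

namespace Cfsg.Agent.IcoLeech

/-- The number four. -/
def four : Ico := ⟨4, 0, 0, 0, 0, 0, 0, 0⟩

/-- The number two. -/
def two' : Ico := ⟨2, 0, 0, 0, 0, 0, 0, 0⟩

/-- A minimal vector. -/
def IsMin (v : V3) : Prop := v.inLam = true ∧ V3.qip v v = four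

/-- A line as a vector. -/
def ofTriple (t : Ico × Ico × Ico) : V3 := ⟨t.1, t.2.1, t.2.2⟩

/-- The lines. -/
def lineV : List V3 := Data.lines.map ofTriple

/-- A totally nonnegative pair. -/
def tpos (c : ℤ × ℤ) : Bool :=
  decide (0 ≤ 2 * c.1 + c.2) && decide (0 ≤ c.1 * c.1 + c.1 * c.2 - c.2 * c.2)

/-- The possible norms. -/
def nOpts : List (ℤ × ℤ) :=
  ([0, 1, 2, 3, 4].flatMap fun p : ℤ => [-3, -2, -1, 0, 1, 2, 3].map fun q : ℤ => (p, q)).filter
    fun c => tpos c && tpos (4 - c.1, -c.2)

/-- The norm patterns of minimal vectors. -/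
def patterns : List ((ℤ × ℤ) × (ℤ × ℤ) × (ℤ × ℤ)) :=
  [((4, 0), (0, 0), (0, 0)), ((0, 0), (4, 0), (0, 0)), ((0, 0), (0, 0), (4, 0)),
    ((2, 0), (2, 0), (0, 0)), ((2, 0), (0, 0), (2, 0)), ((0, 0), (2, 0), (2, 0)),
    ((1, 0), (1, 0), (2, 0)), ((1, 0), (2, 0), (1, 0)), ((2, 0), (1, 0), (1, 0)),
    ((1, 0), (1, 1), (2, -1)), ((1, 0), (2, -1), (1, 1)), ((1, 1), (1, 0), (2, -1)),
    ((1, 1), (2, -1), (1, 0)), ((2, -1), (1, 0), (1, 1)), ((2, -1), (1, 1), (1, 0))]

/-- A pair divisible by two. -/
def evenPair (c : ℤ × ℤ) : Bool := c.1 % 2 == 0 && c.2 % 2 == 0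

theorem pattern_table : nOpts.all (fun a => nOpts.all fun c => nOpts.all fun e =>
    !(decide (a.1 + c.1 + e.1 = 4) && decide (a.2 + c.2 + e.2 = 0) &&
      (!(a == (0, 0) || c == (0, 0) || e == (0, 0)) || (evenPair a && evenPair c && evenPair e))) ||
      patterns.contains (a, c, e)) = true := by decide +kernel

/-- Membership in the ideal of `h`. -/
def inH (x : Ico) : Bool := (Ico.mul x Ico.hb).even

/-- The normalised components of a given norm. -/
def pivList (al : ℤ × ℤ) : List Ico :=
  if al = (1, 0) then [Ico.one] else if al = (2, 0) then Data.reps else if al = (4, 0) then [two'] else []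

/-- All components of a given norm. -/
def allList (al : ℤ × ℤ) : List Ico :=
  if al = (0, 0) then [Ico.zero] else if al = (1, 0) then Data.units else if al = (1, 1) then Data.nTau
  else if al = (2, -1) then Data.nSig else if al = (2, 0) then Data.nTwo else []

/-- The parities of a coordinate tuple, packed. -/
def bits (x : Ico) : ℕ :=
  (x.a % 2).toNat + 2 * (x.b % 2).toNat + 4 * (x.c % 2).toNat + 8 * (x.d % 2).toNat +
    16 * (x.a' % 2).toNat + 32 * (x.b' % 2).toNat + 64 * (x.c' % 2).toNat + 128 * (x.d' % 2).toNat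

/-- The class modulo the two ideals. -/
def key (x : Ico) : ℕ := bits (Ico.mul x Ico.hb) + 256 * bits (Ico.mul x Ico.h)

/-- All components of a given norm, with their classes. -/
def allKeyed (al : ℤ × ℤ) : List (ℕ × Ico) :=
  if al = (0, 0) then [(0, Ico.zero)] else if al = (1, 0) then List.zip Data.unitsKeys Data.units
  else if al = (1, 1) then List.zip Data.nTauKeys Data.nTau
  else if al = (2, -1) then List.zip Data.nSigKeys Data.nSig
  else if al = (2, 0) then List.zip Data.nTwoKeys Data.nTwo else []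

theorem allKeyed_eq : ∀ al ∈ [(0, 0), (1, 0), (1, 1), (2, -1), ((2 : ℤ), (0 : ℤ))],
    allKeyed al = (allList al).map fun x => (key x, x) := by decide +kernel

/-- The pivot position of a pattern. -/
def pivPos (t : (ℤ × ℤ) × (ℤ × ℤ) × (ℤ × ℤ)) : ℕ :=
  if t.1 = (1, 0) then 0 else if t.2.1 = (1, 0) then 1 else if t.2.2 = (1, 0) then 2
  else if t.1 ≠ (0, 0) then 0 else if t.2.1 ≠ (0, 0) then 1 else 2

/-- The components allowed in a position. -/
def compList (t : (ℤ × ℤ) × (ℤ × ℤ) × (ℤ × ℤ)) (i : ℕ) (al : ℤ × ℤ) : List Ico :=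
  if pivPos t = i then pivList al else allList al

/-- The components allowed in a position, with their classes. -/
def compKeyed (t : (ℤ × ℤ) × (ℤ × ℤ) × (ℤ × ℤ)) (i : ℕ) (al : ℤ × ℤ) : List (ℕ × Ico) :=
  if pivPos t = i then (pivList al).map (fun x => (key x, x)) else allKeyed al

/-- The check of a pattern. -/
def patOK (t : (ℤ × ℤ) × (ℤ × ℤ) × (ℤ × ℤ)) : Bool :=
  (compKeyed t 0 t.1).all fun a => (compKeyed t 1 t.2.1).all fun c => a.1 % 256 != c.1 % 256 ||
    (compKeyed t 2 t.2.2).all fun e => e.1 % 256 != a.1 % 256 ||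
      (e.1 / 256 != key (Ico.add a.2 c.2) / 256 || lineV.contains ⟨a.2, c.2, e.2⟩)

/-- The pivot component. -/
def piv (v : V3) : Ico :=
  if v.x.nrm = (1, 0) then v.x else if v.y.nrm = (1, 0) then v.y else if v.z.nrm = (1, 0) then v.z
  else if v.x.nrm ≠ (0, 0) then v.x else if v.y.nrm ≠ (0, 0) then v.y else v.z

/-- The normalised pivots. -/
def pivots : List Ico := Ico.one :: two' :: Data.reps

theorem pats_ok : patterns.all patOK = true := by decide +kernel

theorem piv_lines : lineV.all (fun l => pivots.contains (piv l)) = true := by decide +kernel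

theorem pivots_sep : pivots.all (fun a => Data.units.all fun u => !(pivots.contains (Ico.mul u a)) || u == Ico.one) = true := by
  decide +kernel

theorem lines_nodup : lineV.Nodup := by decide +kernel

theorem lines_length : lineV.length = 315 := by decide +kernel

theorem lines_min : lineV.all (fun l => l.inLam && V3.qip l l == four) = true := by decide +kernel

theorem units_length : Data.units.length = 120 := by decide +kernel

end Cfsg.Agent.IcoLeech
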