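import Cfsg.Agent.Lib.IcoLeech.Vec
import Cfsg.Agent.Lib.IcoLeech.MinTables

/-!
The minimal vectors of the icosian lattice: unit multiples of 315 listed lines.
-/

set_option autoImplicit false
set_option maxRecDepth 100000
set_option maxHeartbeats 4000000

namespace Cfsg.Agent.IcoLeech

open Cfsg.Spor Quaternion

namespace V3

theorem inLam_sm (u : Ico) {v : V3} (h : v.inLam = true) : (sm u v).inLam = true := by
  have h' := (toV_mem_iff v).2 h
  refine (toV_mem_iff _).1 ?_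
  rw [sm_toV]
  obtain ⟨hI, ⟨a, ha, e1⟩, ⟨b, hb, e2⟩, ⟨c, hc, e3⟩⟩ := h'
  refine ⟨fun t => mul_mem (Ico.toH_mem u) (hI t), ⟨_, mul_mem (Ico.toH_mem u) ha, ?_⟩,
    ⟨_, mul_mem (Ico.toH_mem u) hb, ?_⟩, ⟨_, mul_mem (Ico.toH_mem u) hc, ?_⟩⟩
  · rw [mul_assoc, ← e1, mul_sub]
  · rw [mul_assoc, ← e2, mul_sub]
  · rw [mul_assoc, ← e3, mul_add, mul_add]

theorem sm_sm (u u' : Ico) (v : V3) : sm u (sm u' v) = sm (Ico.mul u u') v := by
  simp only [sm, Ico.mul_assoc']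

theorem sm_one (v : V3) : sm Ico.one v = v := by simp only [sm, Ico.one_mul']

theorem qip_sm (u : Ico) (v w : V3) : qip (sm u v) w = Ico.mul u (qip v w) := by
  refine Ico.toH_injective ?_
  rw [Ico.toH_mul, qip_toV, qip_toV, sm_toV, Cfsg.Spor.qip, Cfsg.Spor.qip, Finset.mul_sum]
  exact Finset.sum_congr rfl fun t _ => mul_assoc _ _ _

theorem qip_self (v : V3) : Ico.toH (qip v v) =
    ((((Ico.nrm v.x).1 + (Ico.nrm v.y).1 + (Ico.nrm v.z).1 : ℤ) : ℝ) +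
      (((Ico.nrm v.x).2 + (Ico.nrm v.y).2 + (Ico.nrm v.z).2 : ℤ) : ℝ) * tau : ℝ) := by
  rw [qip, Ico.toH_add, Ico.toH_add, Ico.toH_mul, Ico.toH_mul, Ico.toH_mul, Ico.toH_conj, Ico.toH_conj,
    Ico.toH_conj, Ico.toH_mul_conj, Ico.toH_mul_conj, Ico.toH_mul_conj, ← Quaternion.coe_add,
    ← Quaternion.coe_add, Quaternion.coe_inj]
  push_cast
  ring

end V3

theorem nrm_sum {v : V3} (h : V3.qip v v = four) :
    v.x.nrm.1 + v.y.nrm.1 + v.z.nrm.1 = 4 ∧ v.x.nrm.2 + v.y.nrm.2 + v.z.nrm.2 = 0 := by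
  have e : Ico.toH four = ((((4 : ℤ) : ℝ) + ((0 : ℤ) : ℝ) * tau : ℝ) : ℍ[ℝ]) := by
    refine QuaternionAlgebra.ext ?_ ?_ ?_ ?_ <;>
      simp [Ico.re_toH, Ico.imI_toH, Ico.imJ_toH, Ico.imK_toH, four, Ico.twoA, Ico.twoB] <;> norm_num
  have h2 := V3.qip_self v
  rw [h, e, Quaternion.coe_inj] at h2
  obtain ⟨a, b⟩ := Ico.pair_ext h2
  exact ⟨a.symm, b.symm⟩

theorem four_of_nrm {v : V3} (h1 : v.x.nrm.1 + v.y.nrm.1 + v.z.nrm.1 = 4)
    (h2 : v.x.nrm.2 + v.y.nrm.2 + v.z.nrm.2 = 0) : V3.qip v v = four := by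
  refine Ico.toH_injective ?_
  have h := V3.qip_self v
  rw [h1, h2] at h
  rw [h]
  refine QuaternionAlgebra.ext ?_ ?_ ?_ ?_ <;>
    simp [Ico.re_toH, Ico.imI_toH, Ico.imJ_toH, Ico.imK_toH, four, Ico.twoA, Ico.twoB] <;> norm_num

theorem nrm_tpos (x : Ico) : tpos x.nrm = true := by
  have ht := x.nrm_nonneg tau_sq
  have hs := x.nrm_nonneg (t := sig) (by rw [sig_eq]; linear_combination tau_sq)
  rw [sig_eq] at hs
  have e1 : (0 : ℝ) ≤ ((2 * x.nrm.1 + x.nrm.2 : ℤ) : ℝ) := by push_cast; linarith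
  have e2 : (0 : ℝ) ≤ ((x.nrm.1 * x.nrm.1 + x.nrm.1 * x.nrm.2 - x.nrm.2 * x.nrm.2 : ℤ) : ℝ) := by
    have := mul_nonneg ht hs
    push_cast
    linear_combination this - (x.nrm.2 : ℝ) ^ 2 * tau_sq
  simp only [tpos, Bool.and_eq_true, decide_eq_true_eq]
  exact ⟨by exact_mod_cast e1, by exact_mod_cast e2⟩

theorem inH_all {v : V3} (h : v.inLam = true) (hz : v.x = Ico.zero ∨ v.y = Ico.zero ∨ v.z = Ico.zero) :
    inH v.x = true ∧ inH v.y = true ∧ inH v.z = true := by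
  simp only [V3.inLam, Bool.and_eq_true, Ico.even_iff] at h
  have hsub : ∀ a c : Ico, inH (Ico.sub a c) = true → inH c = true → inH a = true := fun a c ha hc => by
    rw [inH, ← Ico.mem_leftIdeal_h] at ha hc ⊢
    obtain ⟨p, hp, e1⟩ := ha
    obtain ⟨q, hq, e2⟩ := hc
    exact ⟨p + q, add_mem hp hq, by rw [add_mul, ← e1, ← e2, Ico.toH_sub, sub_add_cancel]⟩
  have hsub' : ∀ a c : Ico, inH (Ico.sub a c) = true → inH a = true → inH c = true := fun a c ha hc => by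
    rw [inH, ← Ico.mem_leftIdeal_h] at ha hc ⊢
    obtain ⟨p, hp, e1⟩ := ha
    obtain ⟨q, hq, e2⟩ := hc
    exact ⟨q - p, sub_mem hq hp, by rw [sub_mul, ← e1, ← e2, Ico.toH_sub, sub_sub_cancel]⟩
  have hxy : inH (Ico.sub v.x v.y) = true := Ico.even_iff.2 h.1.1
  have hyz : inH (Ico.sub v.y v.z) = true := Ico.even_iff.2 h.1.2
  have h0 : inH Ico.zero = true := by decide
  rcases hz with e | e | e
  · have hy := hsub' _ _ hxy (e ▸ h0)
    exact ⟨e ▸ h0, hy, hsub' _ _ hyz hy⟩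
  · exact ⟨hsub _ _ hxy (e ▸ h0), e ▸ h0, hsub' _ _ hyz (e ▸ h0)⟩
  · have hy := hsub _ _ hyz (e ▸ h0)
    exact ⟨hsub _ _ hxy hy, hy, e ▸ h0⟩

theorem mem_nOpts {v : V3} (h : V3.qip v v = four) :
    v.x.nrm ∈ nOpts ∧ v.y.nrm ∈ nOpts ∧ v.z.nrm ∈ nOpts := by
  obtain ⟨h1, h2⟩ := nrm_sum h
  have key : ∀ a c e : ℤ × ℤ, tpos a = true → tpos c = true → tpos e = true →
      a.1 + c.1 + e.1 = 4 → a.2 + c.2 + e.2 = 0 → a ∈ nOpts := by
    rintro ⟨a1, a2⟩ ⟨c1, c2⟩ ⟨e1, e2⟩ ha hc he s1 s2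
    simp only [tpos, Bool.and_eq_true, decide_eq_true_eq] at ha hc he
    dsimp only at ha hc he s1 s2
    have hb : ∀ p q : ℤ, 0 ≤ 2 * p + q → 0 ≤ p * p + p * q - q * q → 5 * q ^ 2 ≤ (2 * p + q) ^ 2 :=
      fun p q _ h' => by nlinarith
    have hs : (4 - a1, -a2) = (c1 + e1, c2 + e2) := by ext <;> dsimp only <;> omega
    have hce : 0 ≤ (c1 + e1) * (c1 + e1) + (c1 + e1) * (c2 + e2) - (c2 + e2) * (c2 + e2) := by
      have k1 := hb _ _ hc.1 hc.2
      have k2 := hb _ _ he.1 he.2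
      have k3 : 5 * (c2 * e2) ≤ (2 * c1 + c2) * (2 * e1 + e2) := by
        have hp : 0 ≤ (2 * c1 + c2) * (2 * e1 + e2) := mul_nonneg hc.1 he.1
        nlinarith [mul_le_mul k1 k2 (by positivity) (by positivity), sq_nonneg ((2 * c1 + c2) * (2 * e1 + e2) - 5 * (c2 * e2))]
      nlinarith
    have h5 := hb _ _ ha.1 ha.2
    have h8 : 2 * a1 + a2 ≤ 8 := by omega
    have hq1 : a2 ≤ 3 := by nlinarith
    have hq2 : -3 ≤ a2 := by nlinarith
    have hp1 : a1 ≤ 5 := by omega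
    have hp2 : -1 ≤ a1 := by omega
    have hmem : tpos (4 - a1, -a2) = true := by
      rw [hs]; simp only [tpos, Bool.and_eq_true, decide_eq_true_eq]; exact ⟨by omega, hce⟩
    have hmem2 : tpos (a1, a2) = true := by
      simp only [tpos, Bool.and_eq_true, decide_eq_true_eq]; exact ha
    clear hs hce h5 h8 ha hc he s1 s2 hb
    interval_cases a1 <;> interval_cases a2 <;> first
      | decide
      | exact absurd hmem (by decide)
      | exact absurd hmem2 (by decide)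
  exact ⟨key _ _ _ (nrm_tpos _) (nrm_tpos _) (nrm_tpos _) h1 h2,
    key _ _ _ (nrm_tpos _) (nrm_tpos v.x) (nrm_tpos v.z) (by omega) (by omega),
    key _ _ _ (nrm_tpos _) (nrm_tpos v.x) (nrm_tpos v.y) (by omega) (by omega)⟩

theorem pattern_mem {v : V3} (h : IsMin v) : (v.x.nrm, v.y.nrm, v.z.nrm) ∈ patterns := by
  obtain ⟨ha, hc, he⟩ := mem_nOpts h.2
  obtain ⟨h1, h2⟩ := nrm_sum h.2
  have ht := List.all_eq_true.1 (List.all_eq_true.1 (List.all_eq_true.1 pattern_table _ ha) _ hc) _ he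
  simp only [Bool.or_eq_true, Bool.not_eq_true', Bool.and_eq_false_iff, decide_eq_false_iff_not,
    Bool.or_eq_false_iff, Bool.not_eq_false', beq_iff_eq, List.contains_eq_mem,
    decide_eq_true_eq, h1, h2] at ht
  rcases ht with ((h0 | h0) | ⟨h0, hev⟩) | ht
  · exact absurd trivial h0
  · exact absurd trivial h0
  · exfalso
    have hzero : v.x = Ico.zero ∨ v.y = Ico.zero ∨ v.z = Ico.zero := by
      rcases h0 with (e | e) | e
      · exact Or.inl (Ico.eq_zero_of_nrm e)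
      · exact Or.inr (Or.inl (Ico.eq_zero_of_nrm e))
      · exact Or.inr (Or.inr (Ico.eq_zero_of_nrm e))
    obtain ⟨hx, hy, hz⟩ := inH_all h.1 hzero
    have ev : ∀ x : Ico, inH x = true → evenPair x.nrm = true := fun x hx => by
      obtain ⟨d1, d2⟩ := Ico.nrm_h_mul x hx
      simp only [evenPair, Bool.and_eq_true, beq_iff_eq]
      omega
    simp [ev _ hx, ev _ hy, ev _ hz] at hev
  · exact ht

theorem mem_allList {x : Ico} {al : ℤ × ℤ} (h : x.nrm = al)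
    (hal : al ∈ [(0, 0), (1, 0), (1, 1), (2, -1), ((2 : ℤ), (0 : ℤ))]) : x ∈ allList al := by
  simp only [List.mem_cons, List.not_mem_nil, or_false] at hal
  rcases hal with e | e | e | e | e <;> subst e
  · rw [Ico.eq_zero_of_nrm h]; exact List.mem_singleton_self _
  · exact mem_units.2 h
  · show x ∈ Data.nTau
    rw [← search_tau]; exact mem_search h (by norm_num)
  · show x ∈ Data.nSig
    rw [← search_sig]; exact mem_search h (by norm_num)
  · show x ∈ Data.nTwo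
    rw [← search_two]; exact mem_search h (by norm_num)

theorem exists_piv {x : Ico} {al : ℤ × ℤ} (h : x.nrm = al) (hal : al ∈ [(1, 0), ((2 : ℤ), (0 : ℤ))]) :
    ∃ u ∈ Data.units, Ico.mul u x ∈ pivList al := by
  simp only [List.mem_cons, List.not_mem_nil, or_false] at hal
  rcases hal with e | e <;> subst e
  · exact ⟨Ico.conj x, mem_units.2 (by rw [Ico.nrm_conj, h]),
      List.mem_singleton.2 (Ico.conj_mul_unit h)⟩
  · exact exists_unit_two h

theorem four_case {x y z : Ico} (h : V3.inLam ⟨x, y, z⟩ = true) (hx : x.nrm = (4, 0)) :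
    (y = Ico.zero ∧ z = Ico.zero → ∃ u ∈ Data.units, Ico.mul u x = two') := by
  rintro ⟨rfl, rfl⟩
  have hev : x.even = true := by
    have h' : (Ico.mul x Ico.hb).even = true ∧ (Ico.mul x Ico.h).even = true := by
      obtain ⟨hx', -, -⟩ := inH_all h (Or.inr (Or.inl rfl))
      refine ⟨hx', ?_⟩
      simp only [V3.inLam, Bool.and_eq_true] at h
      have e : Ico.add (Ico.add x Ico.zero) Ico.zero = x :=
        Ico.toH_injective (by simp [Ico.toH_add, Ico.toH_zero])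
      exact e ▸ h.2
    obtain ⟨p, hp⟩ := Ico.even_iff.1 h'.1
    obtain ⟨q, hq⟩ := Ico.even_iff.1 h'.2
    have e5 : Ico.mul (Ico.add Ico.hb Ico.h) (Ico.add Ico.hb Ico.h) = ⟨5, 0, 0, 0, 0, 0, 0, 0⟩ := by decide
    have e5' : Ico.mul x ⟨5, 0, 0, 0, 0, 0, 0, 0⟩ =
        Ico.add (Ico.mul (Ico.add p q) (Ico.add Ico.hb Ico.h)) (Ico.mul (Ico.add p q) (Ico.add Ico.hb Ico.h)) := by
      rw [← e5]
      refine Ico.toH_injective ?_
      have hp' := congrArg Ico.toH hp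
      have hq' := congrArg Ico.toH hq
      simp only [Ico.toH_mul, Ico.toH_add] at hp' hq' ⊢
      rw [← mul_assoc, mul_add (Ico.toH x), hp', hq']
      noncomm_ring
    have e6 : Ico.mul x ⟨5, 0, 0, 0, 0, 0, 0, 0⟩ =
        ⟨5 * x.a, 5 * x.b, 5 * x.c, 5 * x.d, 5 * x.a', 5 * x.b', 5 * x.c', 5 * x.d'⟩ := by
      simp only [Ico.mul, Ico.mk.injEq, mul_zero, neg_zero, add_zero, sub_zero, zero_add, zero_sub]
      refine ⟨?_, ?_, ?_, ?_, ?_, ?_, ?_, ?_⟩ <;> ring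
    have he : Ico.even ⟨5 * x.a, 5 * x.b, 5 * x.c, 5 * x.d, 5 * x.a', 5 * x.b', 5 * x.c', 5 * x.d'⟩ = true :=
      Ico.even_iff.2 ⟨_, e6.symm.trans e5'⟩
    simp only [Ico.even, Bool.and_eq_true, beq_iff_eq] at he ⊢
    obtain ⟨⟨⟨⟨⟨⟨⟨g0, g1⟩, g2⟩, g3⟩, g4⟩, g5⟩, g6⟩, g7⟩ := he
    refine ⟨⟨⟨⟨⟨⟨⟨?_, ?_⟩, ?_⟩, ?_⟩, ?_⟩, ?_⟩, ?_⟩, ?_⟩ <;> omega
  obtain ⟨y, rfl⟩ := Ico.even_iff.1 hev
  have hy : y.nrm = (1, 0) := by
    have e : (Ico.add y y).nrm = (4 * y.nrm.1, 4 * y.nrm.2) := by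
      simp only [Ico.nrm, Ico.mul, Ico.conj, Ico.add, Prod.mk.injEq]
      constructor <;> ring
    rw [e, Prod.mk.injEq] at hx
    exact Prod.ext (by show y.nrm.1 = 1; omega) (by show y.nrm.2 = 0; omega)
  refine ⟨Ico.conj y, mem_units.2 (by rw [Ico.nrm_conj, hy]), Ico.toH_injective ?_⟩
  have e1 := congrArg Ico.toH (Ico.conj_mul_unit hy)
  rw [Ico.toH_mul] at e1
  rw [Ico.toH_mul, Ico.toH_add, mul_add, e1, ← Ico.toH_add]
  rfl

theorem comp_cases {t : (ℤ × ℤ) × (ℤ × ℤ) × (ℤ × ℤ)} (h : t ∈ patterns) :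
    (t.1 ∈ [(0, 0), (1, 0), (1, 1), (2, -1), ((2 : ℤ), (0 : ℤ))] ∨ pivPos t = 0) ∧
      (t.2.1 ∈ [(0, 0), (1, 0), (1, 1), (2, -1), ((2 : ℤ), (0 : ℤ))] ∨ pivPos t = 1) ∧
      (t.2.2 ∈ [(0, 0), (1, 0), (1, 1), (2, -1), ((2 : ℤ), (0 : ℤ))] ∨ pivPos t = 2) := by
  simp only [patterns, List.mem_cons, List.not_mem_nil, or_false] at h
  rcases h with e | e | e | e | e | e | e | e | e | e | e | e | e | e | e <;> subst e <;> decide

theorem bits_eq {a c : Ico} (h : (Ico.sub a c).even = true) : bits a = bits c := by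
  simp only [Ico.even, Ico.sub, Bool.and_eq_true, beq_iff_eq] at h
  obtain ⟨⟨⟨⟨⟨⟨⟨h0, h1⟩, h2⟩, h3⟩, h4⟩, h5⟩, h6⟩, h7⟩ := h
  have e : ∀ p q : ℤ, (p - q) % 2 = 0 → p % 2 = q % 2 := fun p q hpq => by omega
  rw [bits, bits, e _ _ h0, e _ _ h1, e _ _ h2, e _ _ h3, e _ _ h4, e _ _ h5, e _ _ h6, e _ _ h7]

theorem bits_lt (a : Ico) : bits a < 256 := by
  have h : ∀ p : ℤ, (p % 2).toNat < 2 := fun p => by omega
  have := h a.a; have := h a.b; have := h a.c; have := h a.d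
  have := h a.a'; have := h a.b'; have := h a.c'; have := h a.d'
  rw [bits]
  generalize (a.a % 2).toNat = n0, (a.b % 2).toNat = n1, (a.c % 2).toNat = n2, (a.d % 2).toNat = n3,
    (a.a' % 2).toNat = n4, (a.b' % 2).toNat = n5, (a.c' % 2).toNat = n6, (a.d' % 2).toNat = n7 at *
  omega

theorem keys_of {v : V3} (h : v.inLam = true) :
    key v.x % 256 = key v.y % 256 ∧ key v.z % 256 = key v.x % 256 ∧
      key v.z / 256 = key (Ico.add v.x v.y) / 256 := by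
  simp only [V3.inLam, Bool.and_eq_true] at h
  obtain ⟨⟨hxy, hyz⟩, hs⟩ := h
  have e1 : ∀ a c q : Ico, Ico.mul (Ico.sub a c) q = Ico.sub (Ico.mul a q) (Ico.mul c q) := fun a c q =>
    Ico.toH_injective (by simp only [Ico.toH_mul, Ico.toH_sub, sub_mul])
  have e2 : ∀ a c q : Ico, Ico.mul (Ico.add a c) q = Ico.add (Ico.mul a q) (Ico.mul c q) := fun a c q =>
    Ico.toH_injective (by simp only [Ico.toH_mul, Ico.toH_add, add_mul])
  rw [e1] at hxy hyz
  rw [e2] at hs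
  have b1 := bits_eq hxy
  have b2 := bits_eq hyz
  have hlt := bits_lt
  have b3 : bits (Ico.mul v.z Ico.h) = bits (Ico.mul (Ico.add v.x v.y) Ico.h) := by
    refine (bits_eq ?_).symm
    rw [← e2] at hs
    obtain ⟨y, hy⟩ := Ico.even_iff.1 hs
    refine Ico.even_iff.2 ⟨Ico.sub y (Ico.mul v.z Ico.h), Ico.toH_injective ?_⟩
    have e := congrArg Ico.toH hy
    simp only [Ico.toH_mul, Ico.toH_add, Ico.toH_sub, add_mul] at e ⊢
    rw [eq_sub_of_add_eq e]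
    abel
  simp only [key]
  generalize bits (Ico.mul v.x Ico.hb) = a1, bits (Ico.mul v.x Ico.h) = a2, bits (Ico.mul v.y Ico.hb) = a3,
    bits (Ico.mul v.y Ico.h) = a4 at *
  have := hlt (Ico.mul v.x Ico.hb); have := hlt (Ico.mul v.y Ico.hb); have := hlt (Ico.mul v.z Ico.hb)
  have := hlt (Ico.mul v.z Ico.h); have := hlt (Ico.mul (Ico.add v.x v.y) Ico.hb)
  omega

theorem sub_zero' (a : Ico) : Ico.sub a Ico.zero = a := by
  cases a; simp [Ico.sub, Ico.zero]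

theorem add_zero' (a : Ico) : Ico.add a Ico.zero = a := by
  cases a; simp [Ico.add, Ico.zero]

theorem zero_add' (a : Ico) : Ico.add Ico.zero a = a := by
  cases a; simp [Ico.add, Ico.zero]

theorem perm_lam {x y z : Ico} (h : V3.inLam ⟨x, y, z⟩ = true) (hx : x = Ico.zero) (hz : z = Ico.zero) :
    V3.inLam ⟨y, x, z⟩ = true ∧ True := by
  subst hx hz
  refine ⟨?_, trivial⟩
  have hzh : (Ico.mul Ico.zero Ico.hb).even = true := by decide
  simp only [V3.inLam, sub_zero', add_zero', zero_add', Bool.and_eq_true] at h ⊢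
  exact ⟨⟨h.1.2, hzh⟩, h.2⟩

theorem perm_lam2 {x y z : Ico} (h : V3.inLam ⟨x, y, z⟩ = true) (hx : x = Ico.zero) (hy : y = Ico.zero) :
    V3.inLam ⟨z, x, y⟩ = true := by
  subst hx hy
  have hzh : (Ico.mul Ico.zero Ico.hb).even = true := by decide
  simp only [V3.inLam, sub_zero', add_zero', zero_add', Bool.and_eq_true] at h ⊢
  refine ⟨⟨?_, hzh⟩, h.2⟩
  obtain ⟨q, hq⟩ := Ico.even_iff.1 h.1.2
  refine Ico.even_iff.2 ⟨Ico.neg q, Ico.toH_injective ?_⟩
  have e := congrArg Ico.toH hq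
  simp only [Ico.toH_mul, Ico.toH_sub, Ico.toH_zero, zero_sub, Ico.toH_add, Ico.toH_neg, neg_mul] at e ⊢
  rw [← neg_add, ← e, neg_neg]

theorem piv_cases {t : (ℤ × ℤ) × (ℤ × ℤ) × (ℤ × ℤ)} (h : t ∈ patterns) :
    (pivPos t = 0 ∧ (t.1 ∈ [(1, 0), ((2 : ℤ), (0 : ℤ))] ∨ (t.1 = (4, 0) ∧ t.2.1 = (0, 0) ∧ t.2.2 = (0, 0)))) ∨
      (pivPos t = 1 ∧ (t.2.1 ∈ [(1, 0), ((2 : ℤ), (0 : ℤ))] ∨ (t.2.1 = (4, 0) ∧ t.1 = (0, 0) ∧ t.2.2 = (0, 0)))) ∨
      (pivPos t = 2 ∧ (t.2.2 ∈ [(1, 0), ((2 : ℤ), (0 : ℤ))] ∨ (t.2.2 = (4, 0) ∧ t.1 = (0, 0) ∧ t.2.1 = (0, 0)))) := by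
  simp only [patterns, List.mem_cons, List.not_mem_nil, or_false] at h
  rcases h with e | e | e | e | e | e | e | e | e | e | e | e | e | e | e <;> subst e <;> decide

theorem mem_comp_piv {t : (ℤ × ℤ) × (ℤ × ℤ) × (ℤ × ℤ)} {i : ℕ} {al : ℤ × ℤ} (h : pivPos t = i) {x : Ico}
    (hx : x ∈ pivList al) : x ∈ compList t i al := by
  rw [compList, if_pos h]; exact hx

theorem mem_comp_other {t : (ℤ × ℤ) × (ℤ × ℤ) × (ℤ × ℤ)} {i : ℕ} {al : ℤ × ℤ} (h : pivPos t ≠ i) {x : Ico}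
    (hx : x ∈ allList al) : x ∈ compList t i al := by
  rw [compList, if_neg h]; exact hx

theorem pivList_four : pivList (4, 0) = [two'] := rfl

attribute [local irreducible] allList pivList compList compKeyed key bits lineV patterns

/-- Every minimal vector is a unit multiple of a line. -/
theorem exists_line {v : V3} (h : IsMin v) : ∃ u ∈ Data.units, ∃ l ∈ lineV, v = V3.sm u l := by
  have hp := pattern_mem h
  set t := (v.x.nrm, v.y.nrm, v.z.nrm) with ht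
  obtain ⟨hc0, hc1, hc2⟩ := comp_cases hp
  obtain ⟨u, hu, hux, huy, huz⟩ : ∃ u ∈ Data.units, Ico.mul u v.x ∈ compList t 0 t.1 ∧
      Ico.mul u v.y ∈ compList t 1 t.2.1 ∧ Ico.mul u v.z ∈ compList t 2 t.2.2 := by
    have hm : ∀ u ∈ Data.units, ∀ (i : ℕ) (x : Ico) (al : ℤ × ℤ), x.nrm = al →
        (al ∈ [(0, 0), (1, 0), (1, 1), (2, -1), ((2 : ℤ), (0 : ℤ))] ∨ pivPos t = i) → pivPos t ≠ i →
        Ico.mul u x ∈ compList t i al := fun u hu i x al hx hal hi =>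
      mem_comp_other hi (mem_allList (by rw [Ico.nrm_unit_mul (units_nrm u hu), hx]) (hal.resolve_right hi))
    rcases piv_cases hp with ⟨hi, hal⟩ | ⟨hi, hal⟩ | ⟨hi, hal⟩
    · obtain ⟨u, hu, e'⟩ : ∃ u ∈ Data.units, Ico.mul u v.x ∈ pivList t.1 := by
        rcases hal with hal | ⟨e1, e2, e3⟩
        · exact exists_piv rfl hal
        · obtain ⟨u, hu, e'⟩ := four_case h.1 e1 ⟨Ico.eq_zero_of_nrm e2, Ico.eq_zero_of_nrm e3⟩
          exact ⟨u, hu, by rw [e1, pivList_four, e']; exact List.mem_singleton_self _⟩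
      exact ⟨u, hu, mem_comp_piv hi e', hm u hu 1 _ _ rfl hc1 (by omega), hm u hu 2 _ _ rfl hc2 (by omega)⟩
    · obtain ⟨u, hu, e'⟩ : ∃ u ∈ Data.units, Ico.mul u v.y ∈ pivList t.2.1 := by
        rcases hal with hal | ⟨e1, e2, e3⟩
        · exact exists_piv rfl hal
        · obtain ⟨u, hu, e'⟩ := four_case (x := v.y) (y := v.x) (z := v.z)
            (perm_lam h.1 (Ico.eq_zero_of_nrm e2) (Ico.eq_zero_of_nrm e3)).1 e1
            ⟨Ico.eq_zero_of_nrm e2, Ico.eq_zero_of_nrm e3⟩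
          exact ⟨u, hu, by rw [e1, pivList_four, e']; exact List.mem_singleton_self _⟩
      exact ⟨u, hu, hm u hu 0 _ _ rfl hc0 (by omega), mem_comp_piv hi e', hm u hu 2 _ _ rfl hc2 (by omega)⟩
    · obtain ⟨u, hu, e'⟩ : ∃ u ∈ Data.units, Ico.mul u v.z ∈ pivList t.2.2 := by
        rcases hal with hal | ⟨e1, e2, e3⟩
        · exact exists_piv rfl hal
        · obtain ⟨u, hu, e'⟩ := four_case (x := v.z) (y := v.x) (z := v.y)
            (perm_lam2 h.1 (Ico.eq_zero_of_nrm e2) (Ico.eq_zero_of_nrm e3)) e1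
            ⟨Ico.eq_zero_of_nrm e2, Ico.eq_zero_of_nrm e3⟩
          exact ⟨u, hu, by rw [e1, pivList_four, e']; exact List.mem_singleton_self _⟩
      exact ⟨u, hu, hm u hu 0 _ _ rfl hc0 (by omega), hm u hu 1 _ _ rfl hc1 (by omega), mem_comp_piv hi e'⟩
  have hu1 := units_nrm u hu
  have hl : (V3.sm u v).inLam = true := V3.inLam_sm u h.1
  have hok := List.all_eq_true.1 pats_ok _ hp
  simp only [patOK, List.all_eq_true, Bool.or_eq_true, bne_iff_ne] at hok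
  have hk : ∀ i al x, al ∈ [(0, 0), (1, 0), (1, 1), (2, -1), ((2 : ℤ), (0 : ℤ))] ∨ pivPos t = i →
      x ∈ compList t i al → (key x, x) ∈ compKeyed t i al := by
    intro i al x hal hx
    rw [compList] at hx
    rw [compKeyed]
    by_cases hp' : pivPos t = i
    · rw [if_pos hp'] at hx ⊢
      exact List.mem_map.2 ⟨x, hx, rfl⟩
    · rw [if_neg hp'] at hx ⊢
      rw [allKeyed_eq al (hal.resolve_right hp')]
      exact List.mem_map.2 ⟨x, hx, rfl⟩
  have h1 := hok _ (hk _ _ _ hc0 hux) _ (hk _ _ _ hc1 huy)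
  obtain ⟨k1, k2, k3⟩ := keys_of (v := ⟨Ico.mul u v.x, Ico.mul u v.y, Ico.mul u v.z⟩) hl
  dsimp only at k1 k2 k3
  have h2 := (h1.resolve_left (fun e => e k1)) _ (hk _ _ _ hc2 huz)
  have h3 : V3.sm u v ∈ lineV := by
    rcases h2.resolve_left (fun e => e k2) with e | e
    · exact absurd k3 e
    · simpa [List.contains_eq_mem, V3.sm] using e
  refine ⟨Ico.conj u, mem_units.2 (by rw [Ico.nrm_conj, hu1]), _, h3, ?_⟩
  rw [V3.sm_sm, Ico.conj_mul_unit hu1, V3.sm_one]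

/-! ### Lines are distinct -/

theorem isMin_line {l : V3} (h : l ∈ lineV) : IsMin l := by
  have := List.all_eq_true.1 lines_min l h
  simpa [IsMin] using this

theorem piv_sm {u : Ico} (hu : u ∈ Data.units) (v : V3) : piv (V3.sm u v) = Ico.mul u (piv v) := by
  have e := fun x => Ico.nrm_unit_mul (units_nrm u hu) x
  simp only [piv, V3.sm, e]
  split_ifs <;> rfl

/-- Units and lines are determined by the vector. -/
theorem sm_line_inj {u u' : Ico} (hu : u ∈ Data.units) (hu' : u' ∈ Data.units) {l l' : V3} (hl : l ∈ lineV)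
    (hl' : l' ∈ lineV) (h : V3.sm u l = V3.sm u' l') : u = u' ∧ l = l' := by
  have n' := units_nrm u' hu'
  have h2 : V3.sm (Ico.mul (Ico.conj u') u) l = l' := by
    have := congrArg (V3.sm (Ico.conj u')) h
    rwa [V3.sm_sm, V3.sm_sm, Ico.conj_mul_unit n', V3.sm_one] at this
  have hm : Ico.mul (Ico.conj u') u ∈ Data.units := mem_units.2 (by
    rw [Ico.nrm_unit_mul (by rw [Ico.nrm_conj, n']), units_nrm u hu])
  have hp := List.all_eq_true.1 piv_lines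
  have hsep := List.all_eq_true.1 (List.all_eq_true.1 pivots_sep _ (by simpa using hp l hl)) _ hm
  have hc : Ico.mul (Ico.conj u') u = Ico.one := by
    have hin : pivots.contains (Ico.mul (Ico.mul (Ico.conj u') u) (piv l)) = true := by
      rw [← piv_sm hm, h2]; exact hp l' hl'
    rw [hin] at hsep
    simpa using hsep
  rw [hc, V3.sm_one] at h2
  refine ⟨?_, h2⟩
  have := congrArg (Ico.mul u') hc
  rwa [← Ico.mul_assoc', Ico.unit_mul_conj n', Ico.one_mul', Ico.mul_one'] at this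

end Cfsg.Agent.IcoLeech
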