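import Cfsg.Agent.Lib.IcoLeech.Eval

/-!
The norm of the icosian model and its bounds.
-/

set_option autoImplicit false

namespace Cfsg.Agent.IcoLeech

open Cfsg.Spor Quaternion

namespace Ico

theorem nrm_fst (x : Ico) : 4 * (nrm x).1 =
    x.twoA 0 ^ 2 + x.twoB 0 ^ 2 + (x.twoA 1 ^ 2 + x.twoB 1 ^ 2) + (x.twoA 2 ^ 2 + x.twoB 2 ^ 2) +
      (x.twoA 3 ^ 2 + x.twoB 3 ^ 2) := by
  simp only [nrm, mul, conj, twoA, twoB]
  ring

theorem nrm_snd (x : Ico) : 4 * (nrm x).2 =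
    2 * x.twoA 0 * x.twoB 0 + x.twoB 0 ^ 2 + (2 * x.twoA 1 * x.twoB 1 + x.twoB 1 ^ 2) +
      (2 * x.twoA 2 * x.twoB 2 + x.twoB 2 ^ 2) + (2 * x.twoA 3 * x.twoB 3 + x.twoB 3 ^ 2) := by
  simp only [nrm, mul, conj, twoA, twoB]
  ring

theorem nrm_trace (x : Ico) : 4 * (2 * (nrm x).1 + (nrm x).2) =
    (2 * x.twoA 0 ^ 2 + 2 * x.twoA 0 * x.twoB 0 + 3 * x.twoB 0 ^ 2) +
      (2 * x.twoA 1 ^ 2 + 2 * x.twoA 1 * x.twoB 1 + 3 * x.twoB 1 ^ 2) +
      (2 * x.twoA 2 ^ 2 + 2 * x.twoA 2 * x.twoB 2 + 3 * x.twoB 2 ^ 2) +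
      (2 * x.twoA 3 ^ 2 + 2 * x.twoA 3 * x.twoB 3 + 3 * x.twoB 3 ^ 2) := by
  have h1 := nrm_fst x
  have h2 := nrm_snd x
  linear_combination 2 * h1 + h2

theorem nrm_nonneg (x : Ico) {t : ℝ} (ht : t * t = t + 1) :
    0 ≤ ((nrm x).1 : ℝ) + (nrm x).2 * t := by
  have h1 := congrArg (fun z : ℤ => (z : ℝ)) (nrm_fst x)
  have h2 := congrArg (fun z : ℤ => (z : ℝ)) (nrm_snd x)
  push_cast at h1 h2
  have h : 4 * (((nrm x).1 : ℝ) + (nrm x).2 * t) =
      ((x.twoA 0 : ℝ) + x.twoB 0 * t) ^ 2 + ((x.twoA 1 : ℝ) + x.twoB 1 * t) ^ 2 +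
        ((x.twoA 2 : ℝ) + x.twoB 2 * t) ^ 2 + ((x.twoA 3 : ℝ) + x.twoB 3 * t) ^ 2 := by
    linear_combination h1 + t * h2 -
      ((x.twoB 0 : ℝ) ^ 2 + (x.twoB 1 : ℝ) ^ 2 + (x.twoB 2 : ℝ) ^ 2 + (x.twoB 3 : ℝ) ^ 2) * ht
  nlinarith [sq_nonneg ((x.twoA 0 : ℝ) + x.twoB 0 * t), sq_nonneg ((x.twoA 1 : ℝ) + x.twoB 1 * t),
    sq_nonneg ((x.twoA 2 : ℝ) + x.twoB 2 * t), sq_nonneg ((x.twoA 3 : ℝ) + x.twoB 3 * t)]

theorem toH_mul_conj (x : Ico) :
    toH x * star (toH x) = ((((nrm x).1 : ℝ) + (nrm x).2 * tau : ℝ) : ℍ[ℝ]) := by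
  have h1 := congrArg (fun z : ℤ => (z : ℝ)) (nrm_fst x)
  have h2 := congrArg (fun z : ℤ => (z : ℝ)) (nrm_snd x)
  push_cast at h1 h2
  rw [Quaternion.self_mul_star, Quaternion.coe_inj, Quaternion.normSq_def', re_toH, imI_toH, imJ_toH,
    imK_toH]
  linear_combination -(1 / 4 : ℝ) * h1 - (1 / 4 : ℝ) * tau * h2 +
    (1 / 4 : ℝ) * ((x.twoB 0 : ℝ) ^ 2 + (x.twoB 1 : ℝ) ^ 2 + (x.twoB 2 : ℝ) ^ 2 + (x.twoB 3 : ℝ) ^ 2) * tau_sq

theorem eq_zero_of_nrm {x : Ico} (h : nrm x = (0, 0)) : x = zero := by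
  refine toH_injective ?_
  have e := toH_mul_conj x
  rw [h, Quaternion.self_mul_star, Quaternion.coe_inj] at e
  simp at e
  rw [toH_zero, e]

theorem nrm_eq_of {x y : Ico} (h : toH x * star (toH x) = toH y * star (toH y)) : nrm x = nrm y := by
  rw [toH_mul_conj, toH_mul_conj, Quaternion.coe_inj] at h
  obtain ⟨h1, h2⟩ := pair_ext h
  exact Prod.ext h1 h2

theorem nrm_unit_mul {u : Ico} (hu : nrm u = (1, 0)) (x : Ico) : nrm (mul u x) = nrm x := by
  refine nrm_eq_of ?_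
  have e := toH_mul_conj u
  rw [hu] at e
  simp only [Int.cast_one, Int.cast_zero, zero_mul, add_zero, Quaternion.coe_one] at e
  rw [toH_mul, star_mul, mul_assoc, ← mul_assoc (toH x), toH_mul_conj x, ← mul_assoc,
    (Quaternion.coe_commute _ (toH u)).eq.symm, mul_assoc, e, mul_one]

theorem nrm_conj (x : Ico) : nrm (conj x) = nrm x := by
  refine nrm_eq_of ?_
  rw [toH_conj, star_star, star_comm_self']

theorem unit_mul_conj {u : Ico} (hu : nrm u = (1, 0)) : mul u (conj u) = one := by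
  refine toH_injective ?_
  rw [toH_mul, toH_conj, toH_mul_conj, hu, toH_one]
  simp

theorem conj_mul_unit {u : Ico} (hu : nrm u = (1, 0)) : mul (conj u) u = one := by
  refine toH_injective ?_
  rw [toH_mul, toH_conj, star_comm_self', toH_mul_conj, hu, toH_one]
  simp

theorem mul_assoc' (x y z : Ico) : mul (mul x y) z = mul x (mul y z) :=
  toH_injective (by simp only [toH_mul, mul_assoc])

theorem mul_one' (x : Ico) : mul x one = x := toH_injective (by rw [toH_mul, toH_one, mul_one])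

theorem one_mul' (x : Ico) : mul one x = x := toH_injective (by rw [toH_mul, toH_one, one_mul])

theorem nrm_one : nrm one = (1, 0) := by decide

theorem even_iff {x : Ico} : x.even = true ↔ ∃ y, x = add y y := by
  simp only [even, Bool.and_eq_true, beq_iff_eq]
  constructor
  · intro h
    refine ⟨half x, ?_⟩
    cases x
    simp only [half, add, Ico.mk.injEq] at *
    omega
  · rintro ⟨y, rfl⟩
    simp only [add]
    omega

theorem toH_half {x : Ico} (h : x.even = true) : toH (half x) = (1 / 2 : ℝ) • toH x := by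
  obtain ⟨y, rfl⟩ := even_iff.1 h
  have e : half (add y y) = y := by cases y; simp only [half, add, Ico.mk.injEq]; omega
  rw [e, toH_add, smul_add, ← add_smul]
  norm_num

theorem two_ne : (2 : ℍ[ℝ]) ≠ 0 := by
  intro h
  have h2 : (((2 : ℕ) : ℍ[ℝ])).re = (0 : ℍ[ℝ]).re := by rw [Nat.cast_ofNat, h]
  rw [Quaternion.re_natCast, Quaternion.re_zero] at h2
  norm_num at h2

theorem mem_leftIdeal_h {x : Ico} : toH x ∈ leftIdeal icoH ↔ (mul x hb).even = true := by
  have hh : toH h * toH hb = 2 := by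
    rw [← toH_mul, show mul h hb = add one one by decide, toH_add, toH_one]
    norm_num
  have hh' : toH hb * toH h = 2 := by
    rw [← toH_mul, show mul hb h = add one one by decide, toH_add, toH_one]
    norm_num
  constructor
  · rintro ⟨a, ha, e⟩
    obtain ⟨a', rfl⟩ := exists_toH ha
    refine even_iff.2 ⟨a', toH_injective ?_⟩
    rw [toH_mul, e, ← toH_h, mul_assoc, hh, toH_add, mul_two]
  · intro he
    obtain ⟨a, ea⟩ := even_iff.1 he
    refine ⟨toH a, toH_mem a, ?_⟩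
    have e := congrArg (fun z => toH z * toH h) ea
    simp only [toH_mul, toH_add, mul_assoc, hh', add_mul, ← toH_h] at e
    rw [← toH_h]
    exact mul_right_cancel₀ two_ne (e.trans (mul_two _).symm)

theorem mem_leftIdeal_hb {x : Ico} : toH x ∈ leftIdeal (star icoH) ↔ (mul x h).even = true := by
  have hh : toH hb * toH h = 2 := by
    rw [← toH_mul, show mul hb h = add one one by decide, toH_add, toH_one]
    norm_num
  have hh' : toH h * toH hb = 2 := by
    rw [← toH_mul, show mul h hb = add one one by decide, toH_add, toH_one]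
    norm_num
  constructor
  · rintro ⟨a, ha, e⟩
    obtain ⟨a', rfl⟩ := exists_toH ha
    refine even_iff.2 ⟨a', toH_injective ?_⟩
    rw [toH_mul, e, ← toH_hb, mul_assoc, hh, toH_add, mul_two]
  · intro he
    obtain ⟨a, ea⟩ := even_iff.1 he
    refine ⟨toH a, toH_mem a, ?_⟩
    have e := congrArg (fun z => toH z * toH hb) ea
    simp only [toH_mul, toH_add, mul_assoc, hh', add_mul, ← toH_hb] at e
    rw [← toH_hb]
    exact mul_right_cancel₀ two_ne (e.trans (mul_two _).symm)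

theorem nrm_h_mul (x : Ico) (hx : (mul x hb).even = true) : 2 ∣ (nrm x).1 ∧ 2 ∣ (nrm x).2 := by
  obtain ⟨a, ha⟩ := mem_leftIdeal_h.2 hx
  obtain ⟨ha, e⟩ := ha
  obtain ⟨a', rfl⟩ := exists_toH ha
  have hn : nrm x = nrm (mul a' h) := nrm_eq_of (by rw [e, ← toH_h, toH_mul])
  have hh : nrm (mul a' h) = (2 * (nrm a').1, 2 * (nrm a').2) := by
    have h2 : toH h * star (toH h) = 2 := by
      rw [← toH_conj, ← toH_mul, show mul h (conj h) = add one one by decide, toH_add, toH_one]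
      norm_num
    have e1 := toH_mul_conj (mul a' h)
    rw [toH_mul, star_mul, mul_assoc, ← mul_assoc (toH h), h2, two_mul, mul_add, toH_mul_conj,
      ← Quaternion.coe_add, Quaternion.coe_inj] at e1
    obtain ⟨p, q⟩ := pair_ext (A := (nrm (mul a' h)).1) (B := (nrm (mul a' h)).2)
      (A' := 2 * (nrm a').1) (B' := 2 * (nrm a').2) (by push_cast; linear_combination -e1)
    exact Prod.ext p q
  rw [hn, hh]
  exact ⟨dvd_mul_right _ _, dvd_mul_right _ _⟩

end Ico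

end Cfsg.Agent.IcoLeech
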