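import Cfsg.Agent.Lib.IcoLeech.Gens

/-!
Isometries of the icosian lattice, transitivity of the reflection group on minimal vectors.
-/

set_option autoImplicit false
set_option maxRecDepth 100000
set_option maxHeartbeats 4000000

namespace Cfsg.Agent.IcoLeech

open Cfsg.Spor Quaternion

/-- The isometries. -/
def isoGroup : Subgroup (Equiv.Perm icoLeech) where
  carrier := {f | ∀ x y : icoLeech, Cfsg.Spor.qip (f x : Fin 3 → ℍ[ℝ]) (f y : Fin 3 → ℍ[ℝ]) =
    Cfsg.Spor.qip (x : Fin 3 → ℍ[ℝ]) (y : Fin 3 → ℍ[ℝ])}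
  one_mem' := fun _ _ => rfl
  mul_mem' := fun {f g} hf hg x y => by
    rw [Equiv.Perm.mul_apply, Equiv.Perm.mul_apply, hf, hg]
  inv_mem' := fun {f} hf x y => by
    conv_rhs => rw [← show f (f⁻¹ x) = x from f.apply_symm_apply x, ← show f (f⁻¹ y) = y from f.apply_symm_apply y]
    rw [hf]

theorem twoJ2_le_iso : twoJ2 ≤ isoGroup := by
  refine (Subgroup.closure_le _).2 ?_
  rintro f ⟨r, hr, hf⟩ x y
  rw [hf, hf, qip_qrefl hr]

theorem iso_of_mem (g : twoJ2) (x y : icoLeech) :
    Cfsg.Spor.qip ((g : Equiv.Perm icoLeech) x : Fin 3 → ℍ[ℝ]) ((g : Equiv.Perm icoLeech) y : Fin 3 → ℍ[ℝ]) =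
      Cfsg.Spor.qip (x : Fin 3 → ℍ[ℝ]) (y : Fin 3 → ℍ[ℝ]) := twoJ2_le_iso g.2 x y

/-- A frame vector of each coordinate. -/
noncomputable def frame : Fin 3 → icoLeech :=
  ![el E0 inLam_facts.1, el E1 inLam_facts.2.1, el E2 inLam_facts.2.2.1]

theorem frame_zero : frame 0 = e0 := rfl

theorem qip_frame (x : Fin 3 → ℍ[ℝ]) (t : Fin 3) : Cfsg.Spor.qip x (frame t : Fin 3 → ℍ[ℝ]) = x t * 2 := by
  fin_cases t <;> simp [frame, el, Cfsg.Spor.qip, Fin.sum_univ_three, V3.toV, E0, E1, E2, toH_two', Ico.toH_zero]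

theorem eq_of_qip {a b : Fin 3 → ℍ[ℝ]}
    (h : ∀ y : icoLeech, Cfsg.Spor.qip a (y : Fin 3 → ℍ[ℝ]) = Cfsg.Spor.qip b (y : Fin 3 → ℍ[ℝ])) : a = b :=
  funext fun t => mul_right_cancel₀ Ico.two_ne (by rw [← qip_frame, h, qip_frame])

theorem eq_of_qip_image (g : twoJ2) {a b : Fin 3 → ℍ[ℝ]}
    (h : ∀ y : icoLeech, Cfsg.Spor.qip a ((g : Equiv.Perm icoLeech) y : Fin 3 → ℍ[ℝ]) =
      Cfsg.Spor.qip b ((g : Equiv.Perm icoLeech) y : Fin 3 → ℍ[ℝ])) : a = b :=
  eq_of_qip fun y => by
    have := h ((g : Equiv.Perm icoLeech).symm y)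
    rwa [Equiv.apply_symm_apply] at this

/-- A left multiple of a lattice element. -/
noncomputable def sml (u : Ico) (x : icoLeech) : icoLeech := el _ (V3.inLam_sm u (vec_inLam x))

theorem coe_sml (u : Ico) (x : icoLeech) :
    (sml u x : Fin 3 → ℍ[ℝ]) = fun t => Ico.toH u * (x : Fin 3 → ℍ[ℝ]) t := by
  rw [← toV_vec x]
  exact V3.sm_toV u _

theorem vec_sml (u : Ico) (x : icoLeech) : vec (sml u x) = V3.sm u (vec x) := vec_el _ _

theorem qip_scal (a : ℍ[ℝ]) (x y : Fin 3 → ℍ[ℝ]) :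
    Cfsg.Spor.qip (fun t => a * x t) y = a * Cfsg.Spor.qip x y := by
  simp only [Cfsg.Spor.qip, Finset.mul_sum, mul_assoc]

theorem iso_sml (g : twoJ2) (u : Ico) (x : icoLeech) :
    (g : Equiv.Perm icoLeech) (sml u x) = sml u ((g : Equiv.Perm icoLeech) x) := by
  refine Subtype.ext (eq_of_qip_image g fun y => ?_)
  rw [iso_of_mem, coe_sml, coe_sml, qip_scal, qip_scal, iso_of_mem]

theorem isMin_iff (x : icoLeech) : IsMin (vec x) ↔ Cfsg.Spor.qip (x : Fin 3 → ℍ[ℝ]) (x : Fin 3 → ℍ[ℝ]) = 4 := by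
  rw [← toV_vec x, ← V3.qip_toV, ← toH_four]
  exact ⟨fun h => congrArg Ico.toH h.2, fun h => ⟨vec_inLam x, Ico.toH_injective h⟩⟩

theorem vec_e0 : vec e0 = E0 := vec_el _ _

theorem E0_qip : V3.qip E0 E0 = four := by decide +kernel

theorem isMin_e0 : IsMin (vec e0) := by rw [vec_e0]; exact ⟨inLam_facts.1, E0_qip⟩

/-- A unit reached from the first vector. -/
def ReachU (u : Ico) : Prop := ∃ g : twoJ2, vec ((g : Equiv.Perm icoLeech) e0) = V3.sm u E0

theorem words_units : wapp Data.wordI E0 = V3.sm Ico.gI E0 ∧ wapp Data.wordW E0 = V3.sm Ico.gW E0 := by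
  decide +kernel

theorem reach_one : ReachU Ico.one := ⟨1, by rw [V3.sm_one]; exact vec_e0⟩

theorem reach_mul {u v : Ico} (hu : ReachU u) (hv : ReachU v) : ReachU (Ico.mul u v) := by
  obtain ⟨g, hg⟩ := hu
  obtain ⟨h, hh⟩ := hv
  refine ⟨h * g, ?_⟩
  have e : (g : Equiv.Perm icoLeech) e0 = sml u e0 := vec_injective (by rw [vec_sml, hg, vec_e0])
  rw [Subgroup.coe_mul, Equiv.Perm.mul_apply, e, iso_sml, vec_sml, hh, V3.sm_sm]

/-- The position of the `j`th unit of the tree. -/
def upos (j : ℕ) : ℕ := if j = 0 then Data.unitOne else (Data.unitTree.getD (j - 1) (0, 0, 0)).2.2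

/-- The check of the tree of units. -/
def unitTreeOK : Bool :=
  Data.units.getD Data.unitOne Ico.zero == Ico.one &&
    ((List.range 119).all fun j =>
      decide ((Data.unitTree.getD j (0, 0, 0)).1 ≤ j) &&
        Data.units.getD (upos (j + 1)) Ico.zero ==
          Ico.mul (Data.units.getD (upos (Data.unitTree.getD j (0, 0, 0)).1) Ico.zero)
            (if (Data.unitTree.getD j (0, 0, 0)).2.1 == 0 then Ico.gI else Ico.gW)) &&
    (List.range 120).all fun i => (List.range 120).any fun j => upos j == i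

theorem unit_tree_ok : unitTreeOK = true := by decide +kernel

theorem reach_upos : ∀ j, j < 120 → ReachU (Data.units.getD (upos j) Ico.zero) := by
  intro j
  induction j using Nat.strong_induction_on with
  | _ j ih =>
    intro hj
    have h := unit_tree_ok
    simp only [unitTreeOK, Bool.and_eq_true, beq_iff_eq, List.all_eq_true, List.mem_range, decide_eq_true_eq] at h
    cases j with
    | zero => rw [upos, if_pos rfl, h.1.1]; exact reach_one
    | succ j =>
      obtain ⟨hp, he⟩ := h.1.2 j (by omega)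
      rw [he]
      refine reach_mul (ih _ (by omega) (by omega)) ?_
      split_ifs
      · exact ⟨wel Data.wordI, by rw [vec_wel, vec_e0, words_units.1]⟩
      · exact ⟨wel Data.wordW, by rw [vec_wel, vec_e0, words_units.2]⟩

theorem reach_units {u : Ico} (hu : u ∈ Data.units) : ReachU u := by
  obtain ⟨i, hi, rfl⟩ := List.getElem_of_mem hu
  have h := unit_tree_ok
  simp only [unitTreeOK, Bool.and_eq_true, List.all_eq_true, List.any_eq_true, List.mem_range, beq_iff_eq] at h
  obtain ⟨j, hj, e⟩ := h.2 i (units_length ▸ hi)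
  have := reach_upos j hj
  rwa [e, List.getD_eq_getElem _ _ hi] at this

/-- A line. -/
def ln (j : ℕ) : V3 := lineV.getD j E0

/-- An edge of the tree. -/
def edge (j : ℕ) : ℕ × ℕ × ℕ := Data.tree.getD j (0, 0, 0)

/-- The check of the tree. -/
def treeOK : Bool :=
  ln 0 == E0 && (List.range 314).all fun j => decide ((edge j).1 ≤ j) && decide ((edge j).2.2 < 120) &&
    V3.refl (G (edge j).2.1) (ln (edge j).1) == V3.sm (Data.units.getD (edge j).2.2 Ico.one) (ln (j + 1))

theorem tree_ok : treeOK = true := by decide +kernel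

theorem inLam_ln (j : ℕ) : (ln j).inLam = true := by
  rw [ln]
  by_cases h : j < lineV.length
  · rw [List.getD_eq_getElem _ _ h]; exact (isMin_line (List.getElem_mem h)).1
  · rw [List.getD_eq_default _ _ (by omega)]; exact inLam_facts.1

theorem reach_line : ∀ j, j < 315 → ∃ g : twoJ2, ∃ u ∈ Data.units,
    vec ((g : Equiv.Perm icoLeech) e0) = V3.sm u (ln j) := by
  intro j
  induction j using Nat.strong_induction_on with
  | _ j ih =>
    intro hj
    have h := tree_ok
    simp only [treeOK, Bool.and_eq_true, beq_iff_eq, List.all_eq_true, List.mem_range, decide_eq_true_eq] at h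
    cases j with
    | zero => exact ⟨1, Ico.one, mem_units.2 Ico.nrm_one, by rw [V3.sm_one, h.1]; exact vec_e0⟩
    | succ j =>
      obtain ⟨⟨hp, hu⟩, he⟩ := h.2 j (by omega)
      obtain ⟨g, u, hu', hg⟩ := ih (edge j).1 (by omega) (by omega)
      have hu'' : Data.units.getD (edge j).2.2 Ico.one ∈ Data.units := by
        rw [List.getD_eq_getElem _ _ (units_length ▸ hu)]; exact List.getElem_mem _
      refine ⟨wel [(edge j).2.1] * g, Ico.mul u (Data.units.getD (edge j).2.2 Ico.one),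
        mem_units.2 (by rw [Ico.nrm_unit_mul (units_nrm u hu'), units_nrm _ hu'']), ?_⟩
      have e : (g : Equiv.Perm icoLeech) e0 = sml u (el _ (inLam_ln (edge j).1)) :=
        vec_injective (by rw [vec_sml, vec_el, hg])
      rw [Subgroup.coe_mul, Equiv.Perm.mul_apply, e, iso_sml, vec_sml, vec_wel, vec_el]
      show V3.sm u (V3.refl _ _) = _
      rw [wapp, he, V3.sm_sm]

/-- Transitivity on minimal vectors. -/
theorem exists_map_e0 {x : icoLeech} (hx : IsMin (vec x)) : ∃ g : twoJ2, (g : Equiv.Perm icoLeech) e0 = x := by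
  obtain ⟨u, hu, l, hl, e⟩ := exists_line hx
  obtain ⟨j, hj, rfl⟩ := List.getElem_of_mem hl
  obtain ⟨g, w, hw, hg⟩ := reach_line j (lines_length ▸ hj)
  rw [ln, List.getD_eq_getElem _ _ hj] at hg
  have hm : Ico.mul u (Ico.conj w) ∈ Data.units := mem_units.2 (by
    rw [Ico.nrm_unit_mul (units_nrm u hu), Ico.nrm_conj, units_nrm w hw])
  obtain ⟨h, hh⟩ := reach_units hm
  refine ⟨g * h, vec_injective ?_⟩
  have e' : (h : Equiv.Perm icoLeech) e0 = sml (Ico.mul u (Ico.conj w)) e0 :=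
    vec_injective (by rw [vec_sml, hh, vec_e0])
  rw [Subgroup.coe_mul, Equiv.Perm.mul_apply, e', iso_sml, vec_sml, hg, V3.sm_sm, Ico.mul_assoc',
    Ico.conj_mul_unit (units_nrm w hw), Ico.mul_one', e]

theorem isMin_image (g : twoJ2) {x : icoLeech} (hx : IsMin (vec x)) : IsMin (vec ((g : Equiv.Perm icoLeech) x)) := by
  rw [isMin_iff] at hx ⊢
  rw [iso_of_mem, hx]

theorem isMin_sm_line {u : Ico} (hu : u ∈ Data.units) {l : V3} (hl : l ∈ lineV) : IsMin (V3.sm u l) := by
  obtain ⟨h1, h2⟩ := isMin_line hl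
  obtain ⟨a, b⟩ := nrm_sum h2
  refine ⟨V3.inLam_sm u h1, four_of_nrm ?_ ?_⟩ <;>
    simp only [V3.sm, Ico.nrm_unit_mul (units_nrm u hu)] <;> assumption

/-- The number of minimal vectors. -/
theorem card_min : {v : V3 | IsMin v}.ncard = 37800 := by
  classical
  have e : {v : V3 | IsMin v} = ↑((Data.units.toFinset ×ˢ lineV.toFinset).image fun p => V3.sm p.1 p.2) := by
    ext v
    simp only [Set.mem_ofPred_eq, Finset.coe_image, Finset.coe_product, List.coe_toFinset, Set.mem_image,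
      Set.mem_prod, Prod.exists]
    constructor
    · intro h
      obtain ⟨u, hu, l, hl, e⟩ := exists_line h
      exact ⟨u, l, ⟨hu, hl⟩, e.symm⟩
    · rintro ⟨u, l, ⟨hu, hl⟩, rfl⟩
      exact isMin_sm_line hu hl
  rw [e, Set.ncard_coe_finset, Finset.card_image_of_injOn, Finset.card_product,
    List.toFinset_card_of_nodup units_nodup, List.toFinset_card_of_nodup lines_nodup, units_length, lines_length]
  rintro ⟨u, l⟩ hp ⟨u', l'⟩ hp' h
  simp only [Finset.coe_product, List.coe_toFinset, Set.mem_prod, Set.mem_ofPred_eq] at hp hp'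
  obtain ⟨rfl, rfl⟩ := sm_line_inj hp.1 hp'.1 hp.2 hp'.2 h
  rfl

end Cfsg.Agent.IcoLeech
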