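import Cfsg.Agent.Lib.IcoLeech.Orbit

/-!
The order of the reflection group of the icosian lattice, its centre and its reflections.
-/

set_option autoImplicit false
set_option maxRecDepth 100000
set_option maxHeartbeats 4000000

namespace Cfsg.Agent.IcoLeech

open Cfsg.Spor Quaternion

/-- The second base vector. -/
def R2 : V3 := ofTriple Data.base2

/-- The third base vector. -/
def R3 : V3 := ofTriple Data.base3

/-- The multiplier of the determination. -/
def detC : Ico :=
  Ico.sub (Ico.mul (Ico.mul (Ico.conj R2.y) R2.z) (Ico.mul (Ico.conj R3.z) R3.z))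
    (Ico.mul (Ico.mul (Ico.conj R3.y) R3.z) (Ico.mul (Ico.conj R2.z) R2.z))

theorem base_facts : R2.inLam = true ∧ R3.inLam = true ∧ R2.x = Ico.phi ∧ R3.x = Ico.phi ∧
    V3.qip R2 R2 = four ∧ V3.qip R3 R3 = four ∧ detC ≠ Ico.zero ∧ R2.z ≠ Ico.zero := by decide +kernel

/-- The second base vector, in the lattice. -/
noncomputable def r2 : icoLeech := el R2 base_facts.1

/-- The third base vector, in the lattice. -/
noncomputable def r3 : icoLeech := el R3 base_facts.2.1

theorem commute_nn (z w : Ico) :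
    Ico.toH (Ico.mul (Ico.conj z) z) * Ico.toH w = Ico.toH w * Ico.toH (Ico.mul (Ico.conj z) z) := by
  rw [Ico.toH_mul, Ico.toH_conj, star_comm_self', Ico.toH_mul_conj]
  exact (Quaternion.coe_commute _ _).eq

/-- The base determines a vector. -/
theorem eq_of_base {a b : Fin 3 → ℍ[ℝ]}
    (h0 : Cfsg.Spor.qip a (e0 : Fin 3 → ℍ[ℝ]) = Cfsg.Spor.qip b (e0 : Fin 3 → ℍ[ℝ]))
    (h2 : Cfsg.Spor.qip a (r2 : Fin 3 → ℍ[ℝ]) = Cfsg.Spor.qip b (r2 : Fin 3 → ℍ[ℝ]))
    (h3 : Cfsg.Spor.qip a (r3 : Fin 3 → ℍ[ℝ]) = Cfsg.Spor.qip b (r3 : Fin 3 → ℍ[ℝ])) : a = b := by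
  rw [← frame_zero, qip_frame, qip_frame] at h0
  have d0 := mul_right_cancel₀ Ico.two_ne h0
  simp only [Cfsg.Spor.qip, Fin.sum_univ_three, r2, r3, el, V3.toV_zero, V3.toV_one, V3.toV_two, d0,
    add_assoc, add_right_inj, ← Ico.toH_conj] at h2 h3
  set p := a 1 - b 1 with hp
  set q := a 2 - b 2 with hq
  have k2 : p * Ico.toH (Ico.conj R2.y) + q * Ico.toH (Ico.conj R2.z) = 0 := by
    rw [hp, hq, sub_mul, sub_mul]
    linear_combination (norm := abel) h2
  have k3 : p * Ico.toH (Ico.conj R3.y) + q * Ico.toH (Ico.conj R3.z) = 0 := by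
    rw [hp, hq, sub_mul, sub_mul]
    linear_combination (norm := abel) h3
  have kc : p * Ico.toH detC = 0 := by
    have e2 := congrArg (fun x => x * Ico.toH R2.z * Ico.toH (Ico.mul (Ico.conj R3.z) R3.z)) k2
    have e3 := congrArg (fun x => x * Ico.toH R3.z * Ico.toH (Ico.mul (Ico.conj R2.z) R2.z)) k3
    simp only [zero_mul, add_mul, mul_assoc] at e2 e3
    have hc : Ico.toH (Ico.conj R2.z) * (Ico.toH R2.z * Ico.toH (Ico.mul (Ico.conj R3.z) R3.z)) =
        Ico.toH (Ico.conj R3.z) * (Ico.toH R3.z * Ico.toH (Ico.mul (Ico.conj R2.z) R2.z)) := by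
      rw [← mul_assoc, ← mul_assoc, ← Ico.toH_mul (Ico.conj R2.z) R2.z, ← Ico.toH_mul (Ico.conj R3.z) R3.z]
      exact commute_nn _ _
    rw [hc] at e2
    simp only [detC, Ico.toH_sub, Ico.toH_mul, mul_sub, mul_assoc] at e2 e3 ⊢
    linear_combination (norm := abel) e2 - e3
  have hc0 : Ico.toH detC ≠ 0 := fun h => base_facts.2.2.2.2.2.2.1
    (Ico.toH_injective (h.trans Ico.toH_zero.symm))
  have p0 := (mul_eq_zero.1 kc).resolve_right hc0
  rw [p0, zero_mul, zero_add] at k2
  have hz0 : Ico.toH (Ico.conj R2.z) ≠ 0 := by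
    rw [Ico.toH_conj]
    exact star_ne_zero.2 fun h => base_facts.2.2.2.2.2.2.2 (Ico.toH_injective (h.trans Ico.toH_zero.symm))
  have q0 := (mul_eq_zero.1 k2).resolve_right hz0
  funext t
  fin_cases t
  exacts [d0, sub_eq_zero.1 p0, sub_eq_zero.1 q0]

/-- The cofactor of a component of norm `τ²`. -/
def toPhi (x : Ico) : Ico := Ico.conj (Ico.mul (Ico.sub Ico.phi Ico.one) x)

/-- The minimal vectors with first component `τ`. -/
def list32 : List V3 :=
  (lineV.filter fun l => l.x.nrm == (1, 1)).map fun l => V3.sm (toPhi l.x) l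

theorem toPhi_ok : (lineV.all fun l => l.x.nrm != (1, 1) || Ico.mul (toPhi l.x) l.x == Ico.phi) = true := by
  decide +kernel

theorem list32_len : list32.length = 32 := by decide +kernel

theorem phi_nrm : Ico.phi.nrm = (1, 1) := by decide

theorem mem_list32 {v : V3} (h : IsMin v) (hx : v.x = Ico.phi) : v ∈ list32 := by
  obtain ⟨u, hu, l, hl, rfl⟩ := exists_line h
  have hn : l.x.nrm = (1, 1) := by
    rw [← Ico.nrm_unit_mul (units_nrm u hu) l.x, show Ico.mul u l.x = Ico.phi from hx, phi_nrm]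
  have hf := List.all_eq_true.1 toPhi_ok l hl
  simp only [hn, bne_self_eq_false, Bool.false_or, beq_iff_eq] at hf
  have hne : Ico.toH l.x ≠ 0 := fun h0 => by
    have e : l.x = Ico.zero := Ico.toH_injective (h0.trans Ico.toH_zero.symm)
    rw [e] at hn
    exact absurd hn (by decide)
  have e : u = toPhi l.x := Ico.toH_injective (mul_right_cancel₀ hne (by
    rw [← Ico.toH_mul, ← Ico.toH_mul, show Ico.mul u l.x = Ico.phi from hx, hf]))
  exact List.mem_map.2 ⟨l, List.mem_filter.2 ⟨hl, by simp [hn]⟩, by rw [e]⟩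

theorem third_unique : (list32.all fun v => V3.qip v R2 != V3.qip R3 R2 || v == R3) = true := by
  decide +kernel

/-- The stabiliser of the first vector. -/
noncomputable abbrev Stab : Subgroup twoJ2 := MulAction.stabilizer twoJ2 e0

theorem mem_Stab {g : twoJ2} : g ∈ Stab ↔ (g : Equiv.Perm icoLeech) e0 = e0 := Iff.rfl

theorem stab_x {g : twoJ2} (hg : g ∈ Stab) {x : icoLeech} (hx : IsMin (vec x)) (he : (vec x).x = Ico.phi) :
    vec ((g : Equiv.Perm icoLeech) x) ∈ list32 := by
  refine mem_list32 (isMin_image g hx) (Ico.toH_injective (mul_right_cancel₀ Ico.two_ne ?_))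
  rw [← he, ← V3.toV_zero, ← V3.toV_zero, toV_vec, toV_vec, ← qip_frame, ← qip_frame, frame_zero]
  conv_lhs => arg 2; rw [← mem_Stab.1 hg]
  rw [iso_of_mem]

theorem isMin_r2 : IsMin (vec r2) := by rw [r2, vec_el]; exact ⟨base_facts.1, base_facts.2.2.2.2.1⟩

theorem isMin_r3 : IsMin (vec r3) := by rw [r3, vec_el]; exact ⟨base_facts.2.1, base_facts.2.2.2.2.2.1⟩

theorem vec_r2 : vec r2 = R2 := vec_el _ _

theorem vec_r3 : vec r3 = R3 := vec_el _ _

/-- An element fixing the first two base vectors is trivial. -/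
theorem eq_one_of_fix {g : twoJ2} (h0 : g ∈ Stab) (h2 : (g : Equiv.Perm icoLeech) r2 = r2) : g = 1 := by
  have h3 : (g : Equiv.Perm icoLeech) r3 = r3 := by
    refine vec_injective ?_
    have hm := stab_x h0 isMin_r3 (by rw [vec_r3]; exact base_facts.2.2.2.1)
    have hq : V3.qip (vec ((g : Equiv.Perm icoLeech) r3)) R2 = V3.qip R3 R2 := by
      refine Ico.toH_injective ?_
      rw [← vec_r2, ← vec_r3, V3.qip_toV, V3.qip_toV, toV_vec, toV_vec, toV_vec]
      conv_lhs => arg 2; rw [← h2]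
      exact iso_of_mem g r3 r2
    have := List.all_eq_true.1 third_unique _ hm
    simp only [hq, bne_self_eq_false, Bool.false_or, beq_iff_eq] at this
    rw [this, vec_r3]
  apply Subtype.ext
  refine Equiv.ext fun x => Subtype.ext (eq_of_base ?_ ?_ ?_)
  · conv_lhs => arg 2; rw [← mem_Stab.1 h0]
    exact iso_of_mem g x e0
  · conv_lhs => arg 2; rw [← h2]
    exact iso_of_mem g x r2
  · conv_lhs => arg 2; rw [← h3]
    exact iso_of_mem g x r3

theorem stab_determined {g h : twoJ2} (hg : g ∈ Stab) (hh : h ∈ Stab)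
    (e : (g : Equiv.Perm icoLeech) r2 = (h : Equiv.Perm icoLeech) r2) : g = h := by
  refine (inv_mul_eq_one.1 (eq_one_of_fix (mul_mem (inv_mem hh) hg) ?_)).symm
  rw [Subgroup.coe_mul, Equiv.Perm.mul_apply, e, InvMemClass.coe_inv]
  exact Equiv.symm_apply_apply _ _

/-- The vectors reached from the second base vector in the stabiliser. -/
def stabImg : List V3 := Data.stabWords.map fun w => wapp w R2

theorem stab_words : (Data.stabWords.all fun w => wapp w E0 == E0) = true ∧ stabImg.Nodup ∧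
    stabImg.length = 32 := by decide +kernel

theorem card_Stab : Finite Stab ∧ Nat.card Stab = 32 := by
  let f : Stab → {v : V3 // v ∈ list32} := fun g =>
    ⟨_, stab_x g.2 isMin_r2 (by rw [vec_r2]; exact base_facts.2.2.1)⟩
  have hf : Function.Injective f := fun g h e =>
    Subtype.ext (stab_determined g.2 h.2 (vec_injective (congrArg Subtype.val e)))
  have hfin : Finite {v : V3 // v ∈ list32} := List.finite_toSet list32 |>.to_subtype
  have hF : Finite Stab := Finite.of_injective f hf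
  refine ⟨hF, le_antisymm ?_ ?_⟩
  · refine (Nat.card_le_card_of_injective f hf).trans ?_
    rw [Nat.card_congr (Equiv.subtypeEquivRight fun v => (List.mem_toFinset (l := list32)).symm),
      Nat.card_eq_fintype_card, Fintype.card_coe]
    exact (List.toFinset_card_le _).trans list32_len.le
  · obtain ⟨h1, h2, h3⟩ := stab_words
    have hw : ∀ i : Fin 32, wel (Data.stabWords.getD i.1 []) ∈ Stab := fun i => by
      rw [mem_Stab]
      refine vec_injective ?_
      rw [vec_wel, vec_e0]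
      have hl : i.1 < Data.stabWords.length := by
        rw [stabImg, List.length_map] at h3; omega
      rw [List.getD_eq_getElem _ _ hl]
      simpa using List.all_eq_true.1 h1 _ (List.getElem_mem hl)
    let g : Fin 32 → Stab := fun i => ⟨_, hw i⟩
    have hg : Function.Injective g := fun i j e => by
      have e' := congrArg (fun x : Stab => vec (((x : twoJ2) : Equiv.Perm icoLeech) r2)) e
      simp only [g, vec_wel, vec_r2] at e'
      have hl : Data.stabWords.length = 32 := by rw [stabImg, List.length_map] at h3; exact h3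
      rw [List.getD_eq_getElem _ _ (by omega), List.getD_eq_getElem _ _ (by omega)] at e'
      have := h2.getElem_inj_iff (i := i.1) (j := j.1) (hi := by omega) (hj := by omega)
      exact Fin.ext (this.1 (by simpa [stabImg] using e'))
    have := Nat.card_le_card_of_injective g hg
    rwa [Nat.card_eq_fintype_card, Fintype.card_fin] at this

theorem orbit_e0 : MulAction.orbit twoJ2 e0 = {x : icoLeech | IsMin (vec x)} := by
  ext x
  constructor
  · rintro ⟨g, rfl⟩
    exact isMin_image g isMin_e0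
  · intro hx
    obtain ⟨g, hg⟩ := exists_map_e0 hx
    exact ⟨g, hg⟩

theorem ncard_orbit : (MulAction.orbit twoJ2 e0).ncard = 37800 := by
  rw [orbit_e0, ← card_min, ← Set.ncard_image_of_injective _ vec_injective]
  congr 1
  ext v
  exact ⟨fun ⟨x, hx, e⟩ => e ▸ hx, fun hv => ⟨el v hv.1, by rw [Set.mem_ofPred_eq, vec_el]; exact hv, vec_el _ _⟩⟩

theorem card_twoJ2 : Nat.card twoJ2 = 1209600 := by
  rw [← Subgroup.card_mul_index Stab, card_Stab.2]
  show 32 * (MulAction.stabilizer twoJ2 e0).index = _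
  rw [MulAction.index_stabilizer, ncard_orbit]

theorem finite_twoJ2 : Finite twoJ2 := Nat.finite_of_card_ne_zero (by rw [card_twoJ2]; norm_num)

/-! ### The centre -/

/-- The negation, as a word. -/
def negWord : List ℕ := [0, 1, 2]

theorem neg_facts : (wapp negWord E0 = V3.sm (Ico.neg Ico.one) E0) ∧
    wapp negWord R2 = V3.sm (Ico.neg Ico.one) R2 ∧ wapp negWord R3 = V3.sm (Ico.neg Ico.one) R3 := by
  decide +kernel

/-- The negation. -/
noncomputable def negI : twoJ2 := wel negWord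

theorem negI_apply (x : icoLeech) : ((negI : Equiv.Perm icoLeech) x : Fin 3 → ℍ[ℝ]) = -(x : Fin 3 → ℍ[ℝ]) := by
  have key : ∀ b : icoLeech, wapp negWord (vec b) = V3.sm (Ico.neg Ico.one) (vec b) →
      Cfsg.Spor.qip ((negI : Equiv.Perm icoLeech) x : Fin 3 → ℍ[ℝ]) (b : Fin 3 → ℍ[ℝ]) =
        Cfsg.Spor.qip (-(x : Fin 3 → ℍ[ℝ])) (b : Fin 3 → ℍ[ℝ]) := by
    intro b hb
    have e : (negI : Equiv.Perm icoLeech) b = sml (Ico.neg Ico.one) b :=
      vec_injective (by rw [negI, vec_wel, hb, vec_sml])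
    have h := iso_of_mem negI x b
    rw [e, coe_sml, ← qip_star, qip_scal, Ico.toH_neg, Ico.toH_one, neg_one_mul, star_neg, qip_star] at h
    rw [neg_eq_iff_eq_neg] at h
    rw [h]
    simp [Cfsg.Spor.qip]
  exact eq_of_base (key e0 (by rw [vec_e0]; exact neg_facts.1)) (key r2 (by rw [vec_r2]; exact neg_facts.2.1))
    (key r3 (by rw [vec_r3]; exact neg_facts.2.2))

theorem iso_neg (g : twoJ2) (x y : icoLeech) (h : (y : Fin 3 → ℍ[ℝ]) = -(x : Fin 3 → ℍ[ℝ])) :
    ((g : Equiv.Perm icoLeech) y : Fin 3 → ℍ[ℝ]) = -((g : Equiv.Perm icoLeech) x : Fin 3 → ℍ[ℝ]) := by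
  refine eq_of_qip_image g fun z => ?_
  rw [iso_of_mem, h]
  simp only [Cfsg.Spor.qip, Pi.neg_apply, neg_mul, Finset.sum_neg_distrib, neg_inj]
  exact (iso_of_mem g x z).symm

theorem negI_central : negI ∈ Subgroup.center twoJ2 := by
  rw [Subgroup.mem_center_iff]
  intro g
  refine Subtype.ext (Equiv.ext fun x => Subtype.ext ?_)
  rw [Subgroup.coe_mul, Subgroup.coe_mul, Equiv.Perm.mul_apply, Equiv.Perm.mul_apply, negI_apply,
    iso_neg g x _ (negI_apply x)]

theorem negI_ne_one : negI ≠ 1 := by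
  intro h
  have e := negI_apply e0
  rw [h] at e
  have e' := congrFun e 0
  simp only [OneMemClass.coe_one, Equiv.Perm.one_apply, Pi.neg_apply] at e'
  rw [eq_neg_iff_add_eq_zero, ← two_mul, mul_eq_zero] at e'
  rcases e' with e' | e'
  · exact Ico.two_ne e'
  · rw [show ((e0 : icoLeech) : Fin 3 → ℍ[ℝ]) 0 = Ico.toH two' from rfl, toH_two'] at e'
    exact Ico.two_ne e'

/-- A reflection fixing the line of `r` only. -/
theorem refl_eq {f : Equiv.Perm icoLeech} {r : icoLeech}
    (hf : ∀ x : icoLeech, (f x : Fin 3 → ℍ[ℝ]) = qrefl (r : Fin 3 → ℍ[ℝ]) (x : Fin 3 → ℍ[ℝ]))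
    {f' : Equiv.Perm icoLeech}
    (hf' : ∀ x : icoLeech, (f' x : Fin 3 → ℍ[ℝ]) = qrefl (r : Fin 3 → ℍ[ℝ]) (x : Fin 3 → ℍ[ℝ])) : f = f' :=
  Equiv.ext fun x => Subtype.ext ((hf x).trans (hf' x).symm)

/-- Conjugates of reflections are reflections. -/
theorem conj_refl (g : twoJ2) {f : Equiv.Perm icoLeech} {r : icoLeech}
    (hf : ∀ x : icoLeech, (f x : Fin 3 → ℍ[ℝ]) = qrefl (r : Fin 3 → ℍ[ℝ]) (x : Fin 3 → ℍ[ℝ])) (x : icoLeech) :
    (((g : Equiv.Perm icoLeech) * f * (g : Equiv.Perm icoLeech)⁻¹) x : Fin 3 → ℍ[ℝ]) =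
      qrefl ((g : Equiv.Perm icoLeech) r : Fin 3 → ℍ[ℝ]) (x : Fin 3 → ℍ[ℝ]) := by
  obtain ⟨y, rfl⟩ : ∃ y, (g : Equiv.Perm icoLeech) y = x := ⟨_, Equiv.apply_symm_apply _ x⟩
  rw [Equiv.Perm.mul_apply, Equiv.Perm.mul_apply, show (g : Equiv.Perm icoLeech)⁻¹ ((g : Equiv.Perm icoLeech) y) = y
    from Equiv.symm_apply_apply _ y]
  refine eq_of_qip_image g fun z => ?_
  rw [iso_of_mem, hf]
  show Cfsg.Spor.qip (fun t => _ - _) _ = Cfsg.Spor.qip (fun t => _ - _) _
  rw [qip_sub_smul, qip_sub_smul, iso_of_mem, iso_of_mem, iso_of_mem]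

end Cfsg.Agent.IcoLeech
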