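import Cfsg.Agent.Lib.IcoLeech.PermSpec

/-!
The action of `J2` on the 315 cosets of the centraliser of a reflection, and the element orders.
-/

set_option autoImplicit false
set_option maxRecDepth 100000
set_option maxHeartbeats 4000000

namespace Cfsg.Agent.IcoLeech

open Cfsg.Spor Quaternion

theorem gperm'_facts (k : ℕ) {j : ℕ} (hj : j < 315) :
    gperm' k j < 315 ∧ ∃ u ∈ Data.units, V3.refl (G k) (ln j) = V3.sm u (ln (gperm' k j)) := by
  have hk : genOK (min k 5) = true := by
    have : min k 5 < 6 := by omega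
    obtain ⟨m, hm⟩ : ∃ m, min k 5 = m := ⟨_, rfl⟩
    rw [hm] at this ⊢
    interval_cases m
    exacts [gen_ok0, gen_ok1, gen_ok2, gen_ok3, gen_ok4, gen_ok5]
  have h := List.all_eq_true.1 hk j (List.mem_range.2 hj)
  simp only [Bool.and_eq_true, decide_eq_true_eq, beq_iff_eq] at h
  have e : gperm' (min k 5) j = gperm' k j := by
    show pget (PData.gP.getD (min (min k 5) 5) 0) 9 j = _
    rw [min_assoc, min_self]; rfl
  have hG : G (min k 5) = G k := by
    rcases Nat.lt_or_ge k 5 with hlt | hge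
    · rw [min_eq_left hlt.le]
    · rw [min_eq_right hge, G_big hge]
  rw [e, hG] at h
  refine ⟨h.1.1, _, ?_, h.2⟩
  rw [List.getD_eq_getElem _ _ (units_length ▸ h.1.2)]
  exact List.getElem_mem _

theorem wact_lt : ∀ (w : List ℕ) {j : ℕ}, j < 315 → wact w j < 315
  | [], _, hj => hj
  | k :: w, _, hj => (gperm'_facts k (wact_lt w hj)).1

theorem wact_append : ∀ (a c : List ℕ) (j : ℕ), wact (a ++ c) j = wact a (wact c j)
  | [], _, _ => rfl
  | k :: a, c, j => by
    show gperm' k (wact (a ++ c) j) = gperm' k (wact a (wact c j))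
    rw [wact_append a c j]

/-- A lattice vector of a line. -/
noncomputable def lel (j : ℕ) : icoLeech := el (ln j) (inLam_ln j)

theorem wel_line : ∀ (w : List ℕ) {j : ℕ}, j < 315 →
    ∃ u ∈ Data.units, (wel w : Equiv.Perm icoLeech) (lel j) = sml u (lel (wact w j))
  | [], j, _ => ⟨Ico.one, mem_units.2 Ico.nrm_one, vec_injective (by rw [vec_sml, V3.sm_one]; simp [wel, wact])⟩
  | k :: w, j, hj => by
    obtain ⟨u, hu, e⟩ := wel_line w hj
    obtain ⟨-, v, hv, e'⟩ := gperm'_facts k (wact_lt w hj)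
    refine ⟨Ico.mul u v, unit_mul_mem hu hv, ?_⟩
    rw [show k :: w = [k] ++ w from rfl, wel_append, Subgroup.coe_mul, Equiv.Perm.mul_apply, e, iso_sml]
    refine vec_injective ?_
    rw [vec_sml, vec_sml, vec_wel, lel, vec_el, lel, vec_el]
    show V3.sm u (V3.refl (G k) (ln (wact w j))) = V3.sm (Ico.mul u v) (ln (wact ([k] ++ w) j))
    rw [e', V3.sm_sm]
    rfl

/-- The image of a word. -/
noncomputable def wJ (w : List ℕ) : J2 := QuotientGroup.mk' (Subgroup.center twoJ2) (wel w)

theorem wJ_append (a c : List ℕ) : wJ (a ++ c) = wJ a * wJ c := by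
  rw [wJ, wel_append, map_mul]; rfl

theorem wJ_nil : wJ [] = 1 := by simp [wJ, wel]

/-- The coset of a line. -/
noncomputable def cset (j : ℕ) : J2 ⧸ CJ := QuotientGroup.mk (wJ (tword j))

theorem tword_zero : tword 0 = [] := by decide +kernel

theorem tword_act {j : ℕ} (hj : j < 315) : wact (tword j) 0 = j :=
  eq_of_beq (List.all_eq_true.1 tw_ok j (List.mem_range.2 hj))

theorem lel_zero : lel 0 = e0 := vec_injective (by
  have h := tree_ok
  simp only [treeOK, Bool.and_eq_true, beq_iff_eq] at h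
  rw [lel, vec_el, h.1, vec_e0])

theorem mk_eq_mk {g h : twoJ2} (H : ∃ u ∈ Data.units,
    (g : Equiv.Perm icoLeech) e0 = sml u ((h : Equiv.Perm icoLeech) e0)) :
    (QuotientGroup.mk (QuotientGroup.mk' (Subgroup.center twoJ2) g) : J2 ⧸ CJ) =
      QuotientGroup.mk (QuotientGroup.mk' (Subgroup.center twoJ2) h) := by
  obtain ⟨u, hu, e⟩ := H
  refine (QuotientGroup.eq.2 ?_).symm
  rw [← map_inv, ← map_mul, Subgroup.mem_centralizer_singleton_iff]
  refine (centralizes_iff _).2 ⟨u, hu, ?_⟩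
  rw [Subgroup.coe_mul, Equiv.Perm.mul_apply, e, InvMemClass.coe_inv, Equiv.Perm.inv_def, Equiv.symm_apply_eq, iso_sml]

theorem smul_cset (w : List ℕ) {j : ℕ} (hj : j < 315) : wJ w • cset j = cset (wact w j) := by
  show (QuotientGroup.mk (wJ w * wJ (tword j)) : J2 ⧸ CJ) = QuotientGroup.mk (wJ (tword (wact w j)))
  rw [← wJ_append]
  obtain ⟨a, ha, ea⟩ := wel_line (w ++ tword j) (show 0 < 315 by norm_num)
  obtain ⟨c, hc, ec⟩ := wel_line (tword (wact w j)) (show 0 < 315 by norm_num)
  rw [wact_append, tword_act hj, lel_zero] at ea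
  rw [tword_act (wact_lt w hj), lel_zero] at ec
  refine mk_eq_mk ⟨Ico.mul a (Ico.conj c), unit_mul_mem ha (conj_mem hc), ?_⟩
  rw [ea, ec]
  exact vec_injective (by
    rw [vec_sml, vec_sml, vec_sml, V3.sm_sm, Ico.mul_assoc', Ico.conj_mul_unit (units_nrm c hc), Ico.mul_one'])

theorem cset_surjective (x : J2 ⧸ CJ) : ∃ j : Fin 315, cset j = x := by
  obtain ⟨g, rfl⟩ := QuotientGroup.mk_surjective x
  obtain ⟨g, rfl⟩ := QuotientGroup.mk'_surjective _ g
  obtain ⟨u, hu, l, hl, e⟩ := exists_line (isMin_image g isMin_e0)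
  obtain ⟨j, hj, rfl⟩ := List.getElem_of_mem hl
  have hj' : j < 315 := lines_length ▸ hj
  obtain ⟨c, hc, ec⟩ := wel_line (tword j) (show 0 < 315 by norm_num)
  rw [tword_act hj', lel_zero] at ec
  refine ⟨⟨j, hj'⟩, (mk_eq_mk ⟨Ico.mul u (Ico.conj c), unit_mul_mem hu (conj_mem hc), ?_⟩).symm⟩
  rw [ec]
  refine vec_injective ?_
  rw [vec_sml, vec_sml, lel, vec_el, V3.sm_sm, Ico.mul_assoc', Ico.conj_mul_unit (units_nrm c hc), Ico.mul_one',
    e, ln, List.getD_eq_getElem _ _ hj]

theorem card_CJ : Nat.card CJ = 1920 := by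
  rw [Subgroup.card_eq_card_quotient_mul_card_subgroup QJ, card_QJ, Nat.card_congr quotEquiv.toEquiv,
    show Nat.card (alternatingGroup (Fin 5)) = 60 by rw [Nat.card_eq_fintype_card]; decide +kernel]

theorem index_CJ : CJ.index = 315 := by
  haveI := finite_J2
  have h1 := Subgroup.card_mul_index CJ
  rw [card_CJ, card_J2] at h1
  omega

theorem cset_injective {i j : ℕ} (hi : i < 315) (hj : j < 315) (h : cset i = cset j) : i = j := by
  haveI := finite_J2
  have hb : Function.Bijective fun a : Fin 315 => cset a :=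
    (Nat.bijective_iff_surjective_and_card _).2
      ⟨cset_surjective, by rw [Nat.card_eq_fintype_card, Fintype.card_fin]; exact index_CJ.symm⟩
  exact congrArg Fin.val (hb.1 (a₁ := ⟨i, hi⟩) (a₂ := ⟨j, hj⟩) h)

theorem mem_CJ_iff {g : J2} : g ∈ CJ ↔ g • cset 0 = cset 0 := by
  show _ ↔ (QuotientGroup.mk (g * wJ (tword 0)) : J2 ⧸ CJ) = QuotientGroup.mk (wJ (tword 0))
  rw [tword_zero, wJ_nil, mul_one, QuotientGroup.eq, mul_one, Subgroup.inv_mem_iff]

/-! ### The stabiliser -/

theorem cact_eq {i j : ℕ} (hi : i < 1920) (hj : j < 315) : wact (cword i) j = cact i j := by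
  have hb := List.all_eq_true.1 (List.all_eq_true.1 bP_ok (i % 32) (List.mem_range.2 (Nat.mod_lt _ (by norm_num))))
    j (List.mem_range.2 hj)
  rw [beq_iff_eq] at hb
  have ha := List.all_eq_true.1 (List.all_eq_true.1 aP_ok (i / 32) (List.mem_range.2 (by omega)))
    (wact (sw (i % 32)) j) (List.mem_range.2 (wact_lt _ hj))
  rw [beq_iff_eq] at ha
  rw [cword, wact_append, cact, hb, ha]

theorem ord_facts {i : ℕ} (hi : i < 1920) : cact i 0 = 0 ∧ pget PData.rank 11 i < 1920 ∧
    pget PData.ord 11 (pget PData.rank 11 i) = i ∧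
    (1919 ≤ i ∨ ckey (pget PData.ord 11 i) < ckey (pget PData.ord 11 (i + 1))) := by
  have h := List.all_eq_true.1 ord_ok i (List.mem_range.2 hi)
  simp only [Bool.and_eq_true, Bool.or_eq_true, decide_eq_true_eq, beq_iff_eq] at h
  exact ⟨h.1.1.1, h.1.1.2, h.1.2, h.2⟩

theorem ckey_lt : ∀ {c a : ℕ}, a < c → c < 1920 → ckey (pget PData.ord 11 a) < ckey (pget PData.ord 11 c) := by
  intro c
  induction c with
  | zero => intro a h; omega
  | succ c ih =>
    intro a hac hc
    have hs := (ord_facts (i := c) (by omega)).2.2.2.resolve_left (by omega)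
    rcases Nat.lt_succ_iff_lt_or_eq.1 hac with h | h
    · exact (ih h (by omega)).trans hs
    · rw [h]; exact hs

theorem ckey_injective {a c : ℕ} (ha : a < 1920) (hc : c < 1920) (h : ckey a = ckey c) : a = c := by
  obtain ⟨-, ha1, ha2, -⟩ := ord_facts ha
  obtain ⟨-, hc1, hc2, -⟩ := ord_facts hc
  rcases lt_trichotomy (pget PData.rank 11 a) (pget PData.rank 11 c) with hlt | he | hlt
  · have := ckey_lt hlt hc1
    rw [ha2, hc2, h] at this
    exact absurd this (lt_irrefl _)
  · rw [← ha2, ← hc2, he]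
  · have := ckey_lt hlt ha1
    rw [ha2, hc2, h] at this
    exact absurd this (lt_irrefl _)

/-- An element of the stabiliser. -/
noncomputable def cel (i : Fin 1920) : CJ :=
  ⟨wJ (cword i), mem_CJ_iff.2 (by rw [smul_cset _ (by norm_num), cact_eq i.2 (by norm_num), (ord_facts i.2).1])⟩

theorem ckey_eq {i j : Fin 1920} (h2 : wJ (cword i) • cset 2 = wJ (cword j) • cset 2)
    (h8 : wJ (cword i) • cset 8 = wJ (cword j) • cset 8) : i = j := by
  rw [smul_cset _ (by norm_num), smul_cset _ (by norm_num)] at h2 h8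
  have e2 := cset_injective (wact_lt _ (by norm_num)) (wact_lt _ (by norm_num)) h2
  have e8 := cset_injective (wact_lt _ (by norm_num)) (wact_lt _ (by norm_num)) h8
  rw [cact_eq i.2 (by norm_num), cact_eq j.2 (by norm_num)] at e2 e8
  exact Fin.ext (ckey_injective i.2 j.2 (by rw [ckey, ckey, e2, e8]))

theorem cel_bijective : Function.Bijective cel := by
  haveI := finite_J2
  refine (Nat.bijective_iff_injective_and_card _).2
    ⟨fun i j h => ?_, by rw [Nat.card_eq_fintype_card, Fintype.card_fin, card_CJ]⟩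
  have h' : wJ (cword i) = wJ (cword j) := congrArg Subtype.val h
  exact ckey_eq (by rw [h']) (by rw [h'])

theorem exists_cword {g : J2} (hg : g ∈ CJ) : ∃ i < 1920, wJ (cword i) = g := by
  obtain ⟨i, hi⟩ := cel_bijective.2 ⟨g, hg⟩
  exact ⟨i, i.2, congrArg Subtype.val hi⟩

/-- The base of three lines. -/
theorem eq_one_of_base {g : J2} (h0 : g • cset 0 = cset 0) (h2 : g • cset 2 = cset 2) (h8 : g • cset 8 = cset 8) :
    g = 1 := by
  obtain ⟨i, hi, rfl⟩ := exists_cword (mem_CJ_iff.2 h0)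
  obtain ⟨j, hj, ej⟩ := exists_cword CJ.one_mem
  have := ckey_eq (i := ⟨i, hi⟩) (j := ⟨j, hj⟩) (by rw [h2, ej, one_smul]) (by rw [h8, ej, one_smul])
  rw [show i = j from congrArg Fin.val this, ej]

/-! ### Orders -/

theorem period_spec (f : ℕ → ℕ) (x : ℕ) :
    ∀ fuel n, period f x fuel (f^[n] x) n ≠ 0 → f^[period f x fuel (f^[n] x) n] x = x := by
  intro fuel
  induction fuel with
  | zero => intro n h; exact absurd rfl h
  | succ fuel ih =>
    intro n h
    have he : f (f^[n] x) = f^[n + 1] x := (Function.iterate_succ_apply' f n x).symm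
    simp only [period] at h ⊢
    rw [he] at h ⊢
    cases hc : (f^[n + 1] x == x) with
    | true => simp only [hc, cond_true]; exact eq_of_beq hc
    | false => simp only [hc, cond_false] at h ⊢; exact ih (n + 1) h

theorem iterate_period {f : ℕ → ℕ} {x e : ℕ} (he : e ≠ 0) (h : e % period f x 15 x 0 = 0) : f^[e] x = x := by
  have hn : period f x 15 x 0 ≠ 0 := fun h0 => he (by rwa [h0, Nat.mod_zero] at h)
  have hs := period_spec f x 15 0 hn
  simp only [Function.iterate_zero, id] at hs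
  obtain ⟨m, hm⟩ := Nat.dvd_of_mod_eq_zero h
  rw [hm, Function.iterate_mul]
  exact Function.iterate_fixed hs m

theorem hact_eq {r i j : ℕ} (hr : r < 6) (hi : i < 1920) (hj : j < 315) :
    wact (hword r i) j = hact r i j := by
  rw [hword, wact_append, cact_eq hi hj, hact]
  have h := List.all_eq_true.1 tP_ok r (List.mem_range.2 hr)
  simp only [Bool.and_eq_true] at h
  exact (eq_of_beq (List.all_eq_true.1 h.2 (cact i j) (List.mem_range.2 (cact_eq hi hj ▸ wact_lt _ hj)))).symm

theorem pow_smul_cset {r i : ℕ} (hr : r < 6) (hi : i < 1920) : ∀ (e : ℕ) {j : ℕ}, j < 315 →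
    (hact r i)^[e] j < 315 ∧ wJ (hword r i) ^ e • cset j = cset ((hact r i)^[e] j)
  | 0, j, hj => ⟨hj, by rw [pow_zero, one_smul]; rfl⟩
  | e + 1, j, hj => by
    obtain ⟨h1, h2⟩ := pow_smul_cset hr hi e hj
    rw [Function.iterate_succ_apply', ← hact_eq hr hi h1, pow_succ', mul_smul, h2, smul_cset _ h1]
    exact ⟨wact_lt _ h1, rfl⟩

theorem pow_eq_one {r i e : ℕ} (hr : r < 6) (hi : i < 1920) (he : e ≠ 0)
    (h0 : e % period (hact r i) 0 15 0 0 = 0) (h2 : e % period (hact r i) 2 15 2 0 = 0)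
    (h8 : e % period (hact r i) 8 15 8 0 = 0) : wJ (hword r i) ^ e = 1 := by
  refine eq_one_of_base ?_ ?_ ?_
  · rw [(pow_smul_cset hr hi e (by norm_num)).2, iterate_period he h0]
  · rw [(pow_smul_cset hr hi e (by norm_num)).2, iterate_period he h2]
  · rw [(pow_smul_cset hr hi e (by norm_num)).2, iterate_period he h8]

/-- Every element of `J2` satisfies one of five exponents. -/
theorem exponent_cases (g : J2) : ∃ e ∈ [10, 8, 7, 12, 15], g ^ e = 1 := by
  obtain ⟨j, hj⟩ := cset_surjective (g • cset 0)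
  have hc := List.all_eq_true.1 cover_ok j.1 (List.mem_range.2 j.2)
  simp only [Bool.and_eq_true, decide_eq_true_eq, beq_iff_eq] at hc
  obtain ⟨⟨hr, hi⟩, hcj⟩ := hc
  set r := pget PData.cover 14 j.1 / 2048
  set a := pget PData.cover 14 j.1 % 2048
  have hrl : PData.reps.getD r 0 < 315 := by
    have h := List.all_eq_true.1 tP_ok r (List.mem_range.2 hr)
    simp only [Bool.and_eq_true, decide_eq_true_eq] at h
    exact h.1
  set c := wJ (cword a) with hcdef
  have hc0 : c • cset 0 = cset 0 := mem_CJ_iff.1 (cel ⟨a, hi⟩).2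
  have hcr : c • cset (PData.reps.getD r 0) = cset j := by
    rw [hcdef, smul_cset _ hrl, cact_eq hi hrl, hcj]
  set h := c⁻¹ * g * c with hh
  have h0 : h • cset 0 = cset (PData.reps.getD r 0) := by
    rw [hh, mul_smul, hc0, mul_smul, ← hj, inv_smul_eq_iff, hcr]
  have ht : (wJ (tword (PData.reps.getD r 0)))⁻¹ * h ∈ CJ := mem_CJ_iff.2 (by
    rw [mul_smul, h0, inv_smul_eq_iff, smul_cset _ (by norm_num), tword_act hrl])
  obtain ⟨i, hi', ei⟩ := exists_cword ht
  have eh : wJ (hword r i) = h := by rw [hword, wJ_append, ei, mul_inv_cancel_left]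
  have hs := List.all_eq_true.1 (spec_ok hr) i (List.mem_range.2 hi')
  simp only [expOK, List.any_eq_true, List.all_eq_true, beq_iff_eq, List.forall_mem_cons] at hs
  obtain ⟨e, he, e0', e2', e8', -⟩ := hs
  have he0 : e ≠ 0 := fun h' => by simp [h'] at he
  refine ⟨e, he, ?_⟩
  have := pow_eq_one hr hi' he0 e0' e2' e8'
  rw [eh, hh] at this
  have hconj : (c⁻¹ * g * c) ^ e = c⁻¹ * g ^ e * c := by
    simpa using (conj_pow (a := c⁻¹) (b := g) (i := e))
  rw [hconj] at this
  calc g ^ e = c * (c⁻¹ * g ^ e * c) * c⁻¹ := by group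
    _ = 1 := by rw [this]; group

theorem orderOf_wit {r i n : ℕ} (hr : r < 6) (hi : i < 1920) (hn : n ≠ 0) (h : witOK r i n = true) :
    orderOf (wJ (hword r i)) = n := by
  simp only [witOK, Bool.and_eq_true, beq_iff_eq, List.all_eq_true, List.mem_range, Bool.or_eq_true, bne_iff_ne] at h
  refine (orderOf_eq_iff (Nat.pos_of_ne_zero hn)).2 ⟨pow_eq_one hr hi hn h.1.1.1 h.1.1.2 h.1.2, fun m hm hm0 e => ?_⟩
  have key : ∀ {x : ℕ}, x < 315 → (hact r i)^[m] x = x := fun {x} hx => by
    obtain ⟨h1, h2⟩ := pow_smul_cset hr hi m hx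
    rw [e, one_smul] at h2
    exact (cset_injective hx h1 h2).symm
  rcases h.2 m hm with ((h' | h') | h') | h'
  · omega
  all_goals exact h' (key (by norm_num))

/-- The element orders of `J2`. -/
theorem range_orderOf_J2 : Set.range (orderOf : J2 → ℕ) = {1, 2, 3, 4, 5, 6, 7, 8, 10, 12, 15} := by
  ext n
  constructor
  · rintro ⟨g, rfl⟩
    obtain ⟨e, he, hge⟩ := exponent_cases g
    have hd := orderOf_dvd_of_pow_eq_one hge
    have hmem : orderOf g ∈ Nat.divisors e :=
      Nat.mem_divisors.2 ⟨hd, fun h' => by simp [h'] at he⟩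
    have key : ∀ e ∈ ([10, 8, 7, 12, 15] : List ℕ), ∀ d ∈ Nat.divisors e,
        d ∈ ([1, 2, 3, 4, 5, 6, 7, 8, 10, 12, 15] : List ℕ) := by decide +kernel
    have := key e he _ hmem
    simpa using this
  · intro hn
    obtain ⟨h7, h8, h10, h12, h15⟩ := wit_ok
    have o7 := orderOf_wit (by norm_num) (by norm_num) (by norm_num) h7
    have o8 := orderOf_wit (by norm_num) (by norm_num) (by norm_num) h8
    have o10 := orderOf_wit (by norm_num) (by norm_num) (by norm_num) h10
    have o12 := orderOf_wit (by norm_num) (by norm_num) (by norm_num) h12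
    have o15 := orderOf_wit (by norm_num) (by norm_num) (by norm_num) h15
    have sub : ∀ {g : J2} {N d : ℕ}, orderOf g = N → 0 < N → d ∣ N → ∃ h : J2, orderOf h = d := by
      intro g N d hg hN hd
      subst hg
      refine ⟨g ^ (orderOf g / d), ?_⟩
      rw [orderOf_pow_of_dvd (Nat.div_pos (Nat.le_of_dvd hN hd) (Nat.pos_of_dvd_of_pos hd hN)).ne'
        (Nat.div_dvd_of_dvd hd), Nat.div_div_self hd hN.ne']
    simp only [Set.mem_insert_iff, Set.mem_singleton_iff] at hn
    rcases hn with rfl | rfl | rfl | rfl | rfl | rfl | rfl | rfl | rfl | rfl | rfl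
    exacts [sub o8 (by norm_num) (by norm_num), sub o8 (by norm_num) (by norm_num),
      sub o12 (by norm_num) (by norm_num), sub o8 (by norm_num) (by norm_num), sub o10 (by norm_num) (by norm_num),
      sub o12 (by norm_num) (by norm_num), ⟨_, o7⟩, ⟨_, o8⟩, ⟨_, o10⟩, ⟨_, o12⟩, ⟨_, o15⟩]

end Cfsg.Agent.IcoLeech
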