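import Cfsg.Agent.Lib.IcoLeech.Cent
import Cfsg.Agent.Lib.IcoLeech.PermData

/-!
Computations with the permutations of the 315 lines.
-/

set_option autoImplicit false
set_option maxRecDepth 100000
set_option maxHeartbeats 4000000
set_option Elab.async false

namespace Cfsg.Agent.IcoLeech

/-- An entry of a packed table. -/
def pget (t w j : ℕ) : ℕ := (t >>> (w * j)) % 2 ^ w

/-- The permutation of a reflection. -/
def gperm' (k j : ℕ) : ℕ := pget (PData.gP.getD (min k 5) 0) 9 j

/-- The permutation of a word. -/
def wact : List ℕ → ℕ → ℕ
  | [], j => j
  | k :: w, j => gperm' k (wact w j)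

/-- A word of the transversal. -/
def tword (j : ℕ) : List ℕ := PData.tw.getD j []

/-- A word of a stabiliser element. -/
def cword (i : ℕ) : List ℕ := PData.aw.getD (i / 32) [] ++ sw (i % 32)

/-- The permutation of a stabiliser element. -/
def cact (i j : ℕ) : ℕ := pget (PData.aP.getD (i / 32) 0) 9 (pget (PData.bP.getD (i % 32) 0) 9 j)

/-- The key of a stabiliser element. -/
def ckey (i : ℕ) : ℕ := cact i 2 * 315 + cact i 8

/-- The permutation of a representative element. -/
def hact (r i j : ℕ) : ℕ := pget (PData.tP.getD r 0) 9 (cact i j)

/-- The word of a representative element. -/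
def hword (r i : ℕ) : List ℕ := tword (PData.reps.getD r 0) ++ cword i

/-- The number of steps after which a point returns, zero if there are too many. -/
def period (f : ℕ → ℕ) (x : ℕ) : ℕ → ℕ → ℕ → ℕ
  | 0, _, _ => 0
  | fuel + 1, y, n => bif f y == x then n + 1 else period f x fuel (f y) (n + 1)

/-- The check of the reflections on the lines. -/
def genOK (k : ℕ) : Bool :=
  (List.range 315).all fun j => decide (gperm' k j < 315) && decide (pget (PData.gU.getD k 0) 7 j < 120) &&
    V3.refl (G k) (ln j) == V3.sm (Data.units.getD (pget (PData.gU.getD k 0) 7 j) Ico.one) (ln (gperm' k j))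

/-- The check of the transversal. -/
def twOK : Bool := (List.range 315).all fun j => wact (tword j) 0 == j

/-- The check of the packed permutations of the representatives. -/
def tPOK : Bool :=
  (List.range 6).all fun r => decide (PData.reps.getD r 0 < 315) &&
    (List.range 315).all fun j => pget (PData.tP.getD r 0) 9 j == wact (tword (PData.reps.getD r 0)) j

/-- The check of the packed permutations of the coset representatives. -/
def aPOK : Bool :=
  (List.range 60).all fun a => (List.range 315).all fun j =>
    pget (PData.aP.getD a 0) 9 j == wact (PData.aw.getD a []) j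

/-- The check of the packed permutations of the normal subgroup. -/
def bPOK : Bool :=
  (List.range 32).all fun a => (List.range 315).all fun j => pget (PData.bP.getD a 0) 9 j == wact (sw a) j

/-- The check of the list of stabiliser elements. -/
def ordOK : Bool :=
  (List.range 1920).all fun i => cact i 0 == 0 && decide (pget PData.rank 11 i < 1920) &&
    pget PData.ord 11 (pget PData.rank 11 i) == i &&
    (decide (1919 ≤ i) || decide (ckey (pget PData.ord 11 i) < ckey (pget PData.ord 11 (i + 1))))

/-- The check of the cover by suborbits. -/
def coverOK : Bool :=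
  (List.range 315).all fun j =>
    decide (pget PData.cover 14 j / 2048 < 6) && decide (pget PData.cover 14 j % 2048 < 1920) &&
      cact (pget PData.cover 14 j % 2048) (PData.reps.getD (pget PData.cover 14 j / 2048) 0) == j

/-- The check of one element. -/
def expOK (r i : ℕ) : Bool :=
  [period (hact r i) 0 15 0 0, period (hact r i) 2 15 2 0, period (hact r i) 8 15 8 0] |> fun l =>
    [10, 8, 7, 12, 15].any fun e => l.all fun n => e % n == 0

/-- The check of the elements of a suborbit. -/
def specOK (r : ℕ) : Bool := (List.range 1920).all fun i => expOK r i

/-- The check of an element of given order. -/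
def witOK (r i n : ℕ) : Bool :=
  n % period (hact r i) 0 15 0 0 == 0 && n % period (hact r i) 2 15 2 0 == 0 &&
    n % period (hact r i) 8 15 8 0 == 0 &&
    (List.range n).all fun m => m == 0 || (hact r i)^[m] 0 != 0 || (hact r i)^[m] 2 != 2 || (hact r i)^[m] 8 != 8

theorem gen_ok0 : genOK 0 = true := by decide +kernel

theorem gen_ok1 : genOK 1 = true := by decide +kernel

theorem gen_ok2 : genOK 2 = true := by decide +kernel

theorem gen_ok3 : genOK 3 = true := by decide +kernel

theorem gen_ok4 : genOK 4 = true := by decide +kernel

theorem gen_ok5 : genOK 5 = true := by decide +kernel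

theorem tw_ok : twOK = true := by decide +kernel

theorem tP_ok : tPOK = true := by decide +kernel

theorem aP_ok : aPOK = true := by decide +kernel

theorem bP_ok : bPOK = true := by decide +kernel

theorem ord_ok : ordOK = true := by decide +kernel

theorem cover_ok : coverOK = true := by decide +kernel

theorem wit_ok : witOK 1 65 7 = true ∧ witOK 0 33 8 = true ∧ witOK 0 96 10 = true ∧ witOK 0 160 12 = true ∧
    witOK 2 33 15 = true := by decide +kernel

end Cfsg.Agent.IcoLeech
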