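import Cfsg.Agent.Lib.IcoLeech.PermCheck

/-!
The exponents of the elements moving the first line into a suborbit.
-/

set_option autoImplicit false
set_option maxRecDepth 100000
set_option maxHeartbeats 4000000
set_option Elab.async false

namespace Cfsg.Agent.IcoLeech

theorem spec_ok0 : specOK 0 = true := by decide +kernel

theorem spec_ok1 : specOK 1 = true := by decide +kernel

theorem spec_ok2 : specOK 2 = true := by decide +kernel

theorem spec_ok3 : specOK 3 = true := by decide +kernel

theorem spec_ok4 : specOK 4 = true := by decide +kernel

theorem spec_ok5 : specOK 5 = true := by decide +kernel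

theorem spec_ok {r : ℕ} (hr : r < 6) : specOK r = true := by
  interval_cases r
  exacts [spec_ok0, spec_ok1, spec_ok2, spec_ok3, spec_ok4, spec_ok5]

end Cfsg.Agent.IcoLeech
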