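import Cfsg.Agent.Lib.IcoLeech.Center
import Cfsg.Agent.Lib.IcoLeech.CentData
import Cfsg.Agent.Lib.LargeExtra.Centralizer
import Cfsg.Agent.Lib.LargeExtra.Affine

/-!
The stabiliser of a minimal vector is extraspecial; the units act on five ideals.
-/

set_option autoImplicit false
set_option maxRecDepth 100000
set_option maxHeartbeats 4000000

namespace Cfsg.Agent.IcoLeech

open Cfsg.Spor Quaternion

/-! ### The vector stabiliser -/

/-- A word of the stabiliser. -/
def sw (i : ℕ) : List ℕ := Data.stabWords.getD i []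

/-- Its image of the second base vector. -/
def si (i : ℕ) : V3 := wapp (sw i) R2

/-- The central involution of the stabiliser, as a word. -/
def qWord : List ℕ := [0, 1, 2, 0]

theorem sw_E0 : ∀ i : Fin 32, wapp (sw i.1) E0 = E0 := by decide +kernel

theorem si_inj : ((List.range 32).map si).Nodup := by decide +kernel

/-- An element of the stabiliser. -/
noncomputable def se (i : Fin 32) : twoJ2 := wel (sw i.1)

theorem se_mem (i : Fin 32) : se i ∈ Stab := by
  rw [mem_Stab]
  exact vec_injective (by rw [se, vec_wel, vec_e0, sw_E0])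

theorem vec_se (i : Fin 32) : vec ((se i : Equiv.Perm icoLeech) r2) = si i.1 := by
  rw [se, vec_wel, vec_r2]; rfl

theorem se_surjective {g : twoJ2} (hg : g ∈ Stab) : ∃ i, se i = g := by
  haveI := card_Stab.1
  let f : Fin 32 → Stab := fun i => ⟨se i, se_mem i⟩
  have hf : Function.Injective f := fun i j e => by
    have e' : si i.1 = si j.1 := by rw [← vec_se, ← vec_se, show se i = se j from congrArg Subtype.val e]
    have h := (si_inj.getElem_inj_iff (i := i.1) (j := j.1)
      (hi := by simp) (hj := by simp)).1 (by simpa using e')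
    exact Fin.ext h
  obtain ⟨i, hi⟩ := (Nat.bijective_iff_injective_and_card f).2
    ⟨hf, by rw [card_Stab.2, Nat.card_eq_fintype_card, Fintype.card_fin]⟩ |>.2 ⟨g, hg⟩
  exact ⟨i, congrArg Subtype.val hi⟩

/-- The central involution of the stabiliser. -/
noncomputable def zQ : twoJ2 := wel qWord

theorem qWord_facts : wapp qWord E0 = E0 ∧ wapp qWord R2 ≠ R2 ∧
    ((List.range 32).all fun i =>
      let a := sw i
      (wapp a (si i) == R2 || wapp a (si i) == wapp qWord R2) &&
        wapp a (wapp qWord R2) == wapp qWord (si i) &&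
        (si i == R2 || si i == wapp qWord R2 ||
          (List.range 32).any fun j => wapp a (si j) != wapp (sw j) (si i))) = true ∧
    ((List.range 32).any fun i => (List.range 32).any fun j => wapp (sw i) (si j) != wapp (sw j) (si i)) = true := by
  decide +kernel

theorem zQ_mem : zQ ∈ Stab := by
  rw [mem_Stab]
  exact vec_injective (by rw [zQ, vec_wel, vec_e0, qWord_facts.1])

theorem vec_mul_se (a : twoJ2) (w : List ℕ) (ha : a = wel w) (b : twoJ2) (v : V3)
    (hb : vec ((b : Equiv.Perm icoLeech) r2) = v) :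
    vec (((a * b : twoJ2) : Equiv.Perm icoLeech) r2) = wapp w v := by
  rw [Subgroup.coe_mul, Equiv.Perm.mul_apply, ha, vec_wel, hb]

theorem vec_se_mul (i : Fin 32) (b : twoJ2) :
    vec (((se i * b : twoJ2) : Equiv.Perm icoLeech) r2) = wapp (sw i.1) (vec ((b : Equiv.Perm icoLeech) r2)) :=
  vec_mul_se _ _ rfl _ _ rfl

theorem vec_zQ_mul (b : twoJ2) :
    vec (((zQ * b : twoJ2) : Equiv.Perm icoLeech) r2) = wapp qWord (vec ((b : Equiv.Perm icoLeech) r2)) :=
  vec_mul_se _ _ rfl _ _ rfl

theorem stab_ext {g h : twoJ2} (hg : g ∈ Stab) (hh : h ∈ Stab)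
    (e : vec ((g : Equiv.Perm icoLeech) r2) = vec ((h : Equiv.Perm icoLeech) r2)) : g = h :=
  stab_determined hg hh (vec_injective e)

theorem vec_one : vec (((1 : twoJ2) : Equiv.Perm icoLeech) r2) = R2 := vec_r2

theorem vec_zQ : vec ((zQ : Equiv.Perm icoLeech) r2) = wapp qWord R2 := by rw [zQ, vec_wel, vec_r2]

theorem isExtraspecial_Stab : Cfsg.IsExtraspecial 2 ↥(Stab : Subgroup twoJ2) := by
  haveI := finite_twoJ2
  obtain ⟨h0, h1, h2, h3⟩ := qWord_facts
  simp only [List.all_eq_true, List.any_eq_true, List.mem_range, Bool.and_eq_true, Bool.or_eq_true,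
    beq_iff_eq, bne_iff_ne] at h2 h3
  refine Cfsg.Agent.LargeExtra.Affine.isExtraspecial_mk (z := zQ)
    (IsPGroup.of_card (n := 5) (by rw [card_Stab.2]; norm_num)) zQ_mem ?_ ?_ ?_ ?_ ?_
  · intro e
    exact h1 (by rw [← vec_zQ, e, vec_one])
  · intro x hx
    obtain ⟨i, rfl⟩ := se_surjective hx
    refine stab_ext (mul_mem hx zQ_mem) (mul_mem zQ_mem hx) ?_
    rw [vec_se_mul, vec_zQ, vec_zQ_mul, vec_se]
    exact (h2 i.1 i.2).1.2
  · intro x hx
    obtain ⟨i, rfl⟩ := se_surjective hx
    rcases (h2 i.1 i.2).1.1 with e | e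
    · exact Or.inl (stab_ext (mul_mem hx hx) (one_mem _) (by rw [vec_se_mul, vec_se, vec_one, e]))
    · exact Or.inr (stab_ext (mul_mem hx hx) zQ_mem (by rw [vec_se_mul, vec_se, vec_zQ, e]))
  · intro x hx hc
    obtain ⟨i, rfl⟩ := se_surjective hx
    rcases (h2 i.1 i.2).2 with (e | e) | ⟨j, hj, e⟩
    · exact Or.inl (stab_ext hx (one_mem _) (by rw [vec_se, vec_one, e]))
    · exact Or.inr (stab_ext hx zQ_mem (by rw [vec_se, vec_zQ, e]))
    · exfalso
      apply e
      have := hc (se ⟨j, hj⟩) (se_mem _)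
      have e2 := congrArg (fun g : twoJ2 => vec ((g : Equiv.Perm icoLeech) r2)) this
      simp only [vec_se_mul, vec_se] at e2
      exact e2.symm
  · obtain ⟨i, hi, j, hj, e⟩ := h3
    refine ⟨se ⟨i, hi⟩, se_mem _, se ⟨j, hj⟩, se_mem _, fun h => e ?_⟩
    have e2 := congrArg (fun g : twoJ2 => vec ((g : Equiv.Perm icoLeech) r2)) h
    simp only [vec_se_mul, vec_se] at e2
    exact e2.symm

/-! ### The five ideals -/

/-- A representative of norm two. -/
def rep (k : Fin 5) : Ico := Data.reps.getD k.1 Ico.zero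

/-- The check of the table of the action. -/
def sigOK : Bool :=
  (List.range 120).all fun i => (List.range 5).all fun k =>
    decide ((Data.sigTab.getD i []).getD k 9 < 5) && decide ((Data.sigUnit.getD i []).getD k 999 < 120) &&
    Ico.mul (Data.units.getD ((Data.sigUnit.getD i []).getD k 999) Ico.zero)
      (Ico.mul (Data.reps.getD k Ico.zero) (Data.units.getD i Ico.zero)) ==
        Data.reps.getD ((Data.sigTab.getD i []).getD k 9) Ico.zero

theorem sig_ok : sigOK = true := by decide +kernel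

theorem reps_facts : Data.reps.Nodup ∧ Data.reps.length = 5 := by decide +kernel

/-- `k` goes to `j` under `u`. -/
def Moves (u : Ico) (k j : Fin 5) : Prop := ∃ v ∈ Data.units, Ico.mul v (Ico.mul (rep k) u) = rep j

theorem rep_pivot (k : Fin 5) : rep k ∈ pivots := by
  rw [rep, List.getD_eq_getElem _ _ (by rw [reps_facts.2]; exact k.2)]
  exact List.mem_cons_of_mem _ (List.mem_cons_of_mem _ (List.getElem_mem _))

theorem rep_inj {j l : Fin 5} (h : rep j = rep l) : j = l := by
  rw [rep, rep, List.getD_eq_getElem _ _ (by rw [reps_facts.2]; exact j.2),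
    List.getD_eq_getElem _ _ (by rw [reps_facts.2]; exact l.2)] at h
  exact Fin.ext (reps_facts.1.getElem_inj_iff.1 h)

theorem unit_mul_mem {u v : Ico} (hu : u ∈ Data.units) (hv : v ∈ Data.units) : Ico.mul u v ∈ Data.units :=
  mem_units.2 (by rw [Ico.nrm_unit_mul (units_nrm u hu), units_nrm v hv])

theorem conj_mem {u : Ico} (hu : u ∈ Data.units) : Ico.conj u ∈ Data.units :=
  mem_units.2 (by rw [Ico.nrm_conj, units_nrm u hu])

theorem moves_unique {u : Ico} {k j l : Fin 5} (h : Moves u k j) (h' : Moves u k l) : j = l := by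
  obtain ⟨v, hv, e⟩ := h
  obtain ⟨w, hw, e'⟩ := h'
  have hm := unit_mul_mem hw (conj_mem hv)
  have e2 : Ico.mul (Ico.mul w (Ico.conj v)) (rep j) = rep l := by
    rw [← e, Ico.mul_assoc', ← Ico.mul_assoc' (Ico.conj v), Ico.conj_mul_unit (units_nrm v hv), Ico.one_mul', e']
  have h1 := List.all_eq_true.1 (List.all_eq_true.1 pivots_sep _ (rep_pivot j)) _ hm
  simp only [e2, List.contains_eq_mem, rep_pivot l, decide_true, Bool.not_true, Bool.false_or,
    beq_iff_eq] at h1
  rw [h1, Ico.one_mul'] at e2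
  exact rep_inj e2

theorem moves_mul {u v : Ico} {k j l : Fin 5} (h : Moves u k j) (h' : Moves v j l) : Moves (Ico.mul u v) k l := by
  obtain ⟨a, ha, e⟩ := h
  obtain ⟨b, hb, e'⟩ := h'
  refine ⟨Ico.mul b a, unit_mul_mem hb ha, ?_⟩
  rw [← e', ← e]
  simp only [Ico.mul_assoc']

theorem moves_one (k : Fin 5) : Moves Ico.one k k :=
  ⟨Ico.one, mem_units.2 Ico.nrm_one, by rw [Ico.one_mul', Ico.mul_one']⟩

/-- The tabulated image. -/
def sigI (i : Fin 120) (k : Fin 5) : Fin 5 := Fin.ofNat 5 ((Data.sigTab.getD i.1 []).getD k.1 9)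

/-- The unit of a number. -/
def uI (i : Fin 120) : Ico := Data.units.getD i.1 Ico.zero

theorem uI_mem (i : Fin 120) : uI i ∈ Data.units := by
  rw [uI, List.getD_eq_getElem _ _ (units_length.symm ▸ i.2)]; exact List.getElem_mem _

theorem exists_uI {u : Ico} (hu : u ∈ Data.units) : ∃ i, uI i = u := by
  obtain ⟨i, hi, rfl⟩ := List.getElem_of_mem hu
  exact ⟨⟨i, units_length ▸ hi⟩, List.getD_eq_getElem _ _ hi⟩

theorem moves_sigI (i : Fin 120) (k : Fin 5) : Moves (uI i) k (sigI i k) := by
  have h := sig_ok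
  simp only [sigOK, List.all_eq_true, List.mem_range, Bool.and_eq_true, decide_eq_true_eq, beq_iff_eq] at h
  obtain ⟨⟨h1, h2⟩, h3⟩ := h i.1 i.2 k.1 k.2
  refine ⟨Data.units.getD ((Data.sigUnit.getD i.1 []).getD k.1 999) Ico.zero, ?_, ?_⟩
  · rw [List.getD_eq_getElem _ _ (units_length.symm ▸ h2)]; exact List.getElem_mem _
  · rw [rep, uI, h3, rep, sigI, Fin.val_ofNat, Nat.mod_eq_of_lt h1]

/-- The map of a unit. -/
noncomputable def sig (u : Ico) (k : Fin 5) : Fin 5 :=
  if hu : u ∈ Data.units then sigI (exists_uI hu).choose k else k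

theorem moves_sig {u : Ico} (hu : u ∈ Data.units) (k : Fin 5) : Moves u k (sig u k) := by
  rw [sig, dif_pos hu]
  conv => arg 1; rw [← (exists_uI hu).choose_spec]
  exact moves_sigI _ k

theorem sig_uI (i : Fin 120) (k : Fin 5) : sig (uI i) k = sigI i k :=
  moves_unique (moves_sig (uI_mem i) k) (moves_sigI i k)

theorem sig_mul {u v : Ico} (hu : u ∈ Data.units) (hv : v ∈ Data.units) (k : Fin 5) :
    sig (Ico.mul u v) k = sig v (sig u k) :=
  moves_unique (moves_sig (unit_mul_mem hu hv) k) (moves_mul (moves_sig hu k) (moves_sig hv _))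

theorem sig_one (k : Fin 5) : sig Ico.one k = k :=
  moves_unique (moves_sig (mem_units.2 Ico.nrm_one) k) (moves_one k)

/-- The permutation of a unit. -/
noncomputable def sigP (u : Data.units.toFinset) : Equiv.Perm (Fin 5) where
  toFun := sig u.1
  invFun := sig (Ico.conj u.1)
  left_inv k := by
    have hu := List.mem_toFinset.1 u.2
    rw [← sig_mul hu (conj_mem hu), Ico.unit_mul_conj (units_nrm _ hu), sig_one]
  right_inv k := by
    have hu := List.mem_toFinset.1 u.2
    rw [← sig_mul (conj_mem hu) hu, Ico.conj_mul_unit (units_nrm _ hu), sig_one]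

/-- The inversions of a function on five points. -/
def evenFn (f : Fin 5 → Fin 5) : Bool :=
  ((List.finRange 5).flatMap fun a => (List.finRange 5).filter fun b => decide (a < b ∧ f b < f a)).length % 2 == 0

theorem evenFn_sign : ∀ σ : Equiv.Perm (Fin 5), evenFn σ = true → Equiv.Perm.sign σ = 1 := by decide +kernel

theorem sig_table : (∀ i : Fin 120, evenFn (sigI i) = true) ∧
    (∀ i : Fin 120, (∀ k, sigI i k = k) → uI i = Ico.one ∨ uI i = Ico.neg Ico.one) ∧
    (Data.sigPick.map fun i => (List.finRange 5).map fun k => sigI (Fin.ofNat 120 i) k).Nodup ∧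
    Data.sigPick.length = 60 := by decide +kernel

theorem sigP_sign (u : Data.units.toFinset) : Equiv.Perm.sign (sigP u) = 1 := by
  obtain ⟨i, hi⟩ := exists_uI (List.mem_toFinset.1 u.2)
  refine evenFn_sign _ ?_
  have e : (⇑(sigP u) : Fin 5 → Fin 5) = sigI i := funext fun k => by
    show sig u.1 k = _
    rw [← hi, sig_uI]
  rw [e]
  exact sig_table.1 i

theorem sig_eq_id {u : Ico} (hu : u ∈ Data.units) (h : ∀ k, sig u k = k) : u = Ico.one ∨ u = Ico.neg Ico.one := by
  obtain ⟨i, rfl⟩ := exists_uI hu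
  exact sig_table.2.1 i fun k => by rw [← sig_uI, h]

end Cfsg.Agent.IcoLeech
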