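import Cfsg.Agent.Lib.IcoLeech.U33Check
import Cfsg.Agent.Lib.IcoLeech.Out
import Cfsg.Agent.Lib.Chevalley.Exceptional.G2Two

/-!
The subgroup of index 100 of `J2`, isomorphic to the unitary group of degree three over nine elements,
and its suborbits.
-/

set_option autoImplicit false
set_option maxRecDepth 100000
set_option maxHeartbeats 1000000

open scoped Matrix

namespace Cfsg.Agent.IcoLeech.U33

open Cfsg.Spor

/-! ### Images of the orbit of 63 lines -/

/-- The image of a line under an element, as a number. -/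
noncomputable def gact (g : J2) (x : ℕ) : ℕ := (rho g (Fin.ofNat 315 x) : ℕ)

theorem gact_lt (g : J2) (x : ℕ) : gact g x < 315 := (rho g _).isLt

theorem gact_wJ (w : List ℕ) {x : ℕ} (hx : x < 315) : gact (wJ w) x = wact w x := by
  rw [gact, rho_apply, Fin.val_ofNat, Nat.mod_eq_of_lt hx]

theorem gact_mul (g h : J2) (x : ℕ) : gact (g * h) x = gact g (gact h x) := by
  simp only [gact, map_mul, Equiv.Perm.mul_apply]
  congr 2
  exact Fin.ext (Nat.mod_eq_of_lt (rho h _).isLt).symm

theorem gact_one {x : ℕ} (hx : x < 315) : gact 1 x = x := by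
  rw [← wJ_nil, gact_wJ _ hx]; rfl

theorem gact_injective (g : J2) {x y : ℕ} (hx : x < 315) (hy : y < 315) (h : gact g x = gact g y) : x = y := by
  have := congrArg (gact g⁻¹) h
  rwa [← gact_mul, ← gact_mul, inv_mul_cancel, gact_one hx, gact_one hy] at this

theorem testBit_foldl (f : ℕ → ℕ) : ∀ (l : List ℕ) (m y : ℕ),
    (l.foldl (fun m x => m ||| 2 ^ f x) m).testBit y = true ↔ m.testBit y = true ∨ ∃ x ∈ l, f x = y
  | [], m, y => by simp
  | a :: l, m, y => by
    rw [List.foldl_cons, testBit_foldl f l, Nat.testBit_or, Bool.or_eq_true, Nat.testBit_two_pow]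
    simp [or_assoc]

theorem testBit_maskOf (f : ℕ → ℕ) (y : ℕ) : (maskOf f).testBit y = true ↔ ∃ x ∈ U33Data.pts, f x = y := by
  rw [maskOf, testBit_foldl]; simp

theorem maskOf_congr {f g : ℕ → ℕ} (h : ∀ y, (∃ x ∈ U33Data.pts, f x = y) ↔ ∃ x ∈ U33Data.pts, g x = y) :
    maskOf f = maskOf g := by
  refine Nat.eq_of_testBit_eq fun y => Bool.eq_iff_iff.2 ?_
  rw [testBit_maskOf, testBit_maskOf, h]

theorem pts_facts : U33Data.pts.length = 63 ∧ U33Data.pts.Nodup ∧ (∀ x ∈ U33Data.pts, x < 315) ∧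
    wmask [] = U33Data.mask0 ∧ wmask U33Data.wa = U33Data.mask0 ∧ wmask U33Data.wb = U33Data.mask0 ∧
    allMasks.Nodup ∧ allMasks.length = 100 := by
  have h := pts_ok
  simp only [ptsOK, Bool.and_eq_true, beq_iff_eq, decide_eq_true_eq, List.all_eq_true] at h
  obtain ⟨⟨⟨⟨⟨⟨⟨h1, h2⟩, h3⟩, h4⟩, h5⟩, h6⟩, h7⟩, h8⟩ := h
  exact ⟨h1, h2, h3, h4, h5, h6, h7, h8⟩

/-- The mask of the image of the orbit under an element. -/
noncomputable def gmask (g : J2) : ℕ := maskOf (gact g)

theorem gmask_wJ (w : List ℕ) : gmask (wJ w) = wmask w := by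
  refine maskOf_congr fun y => ?_
  constructor <;> rintro ⟨x, hx, rfl⟩ <;> exact ⟨x, hx, by rw [gact_wJ _ (pts_facts.2.2.1 x hx)]⟩

theorem gmask_eq {g h : J2} (e : gmask g = gmask h) (y : ℕ) :
    (∃ x ∈ U33Data.pts, gact g x = y) ↔ ∃ x ∈ U33Data.pts, gact h x = y := by
  rw [← testBit_maskOf, ← testBit_maskOf]
  exact Bool.eq_iff_iff.1 (congrArg (fun m => m.testBit y) e)

theorem gmask_mul_left (k : J2) {g h : J2} (e : gmask g = gmask h) : gmask (k * g) = gmask (k * h) := by
  refine maskOf_congr fun y => ?_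
  constructor <;> rintro ⟨x, hx, rfl⟩
  · obtain ⟨x', hx', e'⟩ := (gmask_eq e _).1 ⟨x, hx, rfl⟩
    exact ⟨x', hx', by rw [gact_mul, gact_mul, e']⟩
  · obtain ⟨x', hx', e'⟩ := (gmask_eq e _).2 ⟨x, hx, rfl⟩
    exact ⟨x', hx', by rw [gact_mul, gact_mul, e']⟩

/-- The stabiliser of the orbit. -/
def stab : Subgroup J2 where
  carrier := {g | gmask g = gmask 1}
  one_mem' := rfl
  mul_mem' {a b} (ha : gmask a = gmask 1) (hb : gmask b = gmask 1) := by
    show gmask (a * b) = gmask 1
    rw [gmask_mul_left a hb, mul_one, ha]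
  inv_mem' {a} (ha : gmask a = gmask 1) := by
    show gmask a⁻¹ = gmask 1
    have := gmask_mul_left a⁻¹ ha
    rwa [inv_mul_cancel, mul_one, eq_comm] at this

theorem mem_stab {g : J2} : g ∈ stab ↔ gmask g = gmask 1 := Iff.rfl

/-- The mask of a coset. -/
noncomputable def cmask : J2 ⧸ stab → ℕ :=
  Quotient.lift gmask fun a b hab => by
    have h : gmask (a⁻¹ * b) = gmask 1 := mem_stab.1 (QuotientGroup.leftRel_apply.1 hab)
    have := gmask_mul_left a h
    rwa [mul_inv_cancel_left, mul_one, eq_comm] at this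

theorem cmask_mk (g : J2) : cmask (QuotientGroup.mk g) = gmask g := rfl

theorem cmask_injective : Function.Injective cmask := by
  intro x y
  obtain ⟨a, rfl⟩ := QuotientGroup.mk_surjective x
  obtain ⟨b, rfl⟩ := QuotientGroup.mk_surjective y
  intro e
  rw [cmask_mk, cmask_mk] at e
  refine QuotientGroup.eq.2 (mem_stab.2 ?_)
  rw [gmask_mul_left a⁻¹ e.symm, inv_mul_cancel]

/-! ### The subgroup generated by the two words -/

/-- The subgroup. -/
noncomputable def K : Subgroup J2 := Subgroup.closure {wJ U33Data.wa, wJ U33Data.wb}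

theorem wa_mem : wJ U33Data.wa ∈ K := Subgroup.subset_closure (Set.mem_insert _ _)

theorem wb_mem : wJ U33Data.wb ∈ K := Subgroup.subset_closure (Set.mem_insert_of_mem _ rfl)

theorem ew_mem (n : ℕ) : wJ (ew n) ∈ K := by
  suffices ∀ f n, wJ (decode f n) ∈ K from this 40 n
  intro f
  induction f with
  | zero => intro n; rw [decode, wJ_nil]; exact one_mem _
  | succ f ih =>
    intro n
    rw [decode]
    split
    · rw [wJ_nil]; exact one_mem _
    · rw [wJ_append]
      refine mul_mem (ih _) ?_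
      split
      · exact wa_mem
      · exact wb_mem

theorem K_le : K ≤ stab := by
  refine (Subgroup.closure_le _).2 ?_
  rintro g (rfl | rfl) <;> rw [SetLike.mem_coe, mem_stab, ← wJ_nil, gmask_wJ, gmask_wJ, pts_facts.2.2.2.1]
  · exact pts_facts.2.2.2.2.1
  · exact pts_facts.2.2.2.2.2.1

theorem orb_facts {v masks reach : List ℕ} (h : orbOK v masks reach = true) :
    (∀ m ∈ masks, ∃ k ∈ K, gmask (k * wJ v) = m) ∧
      ∀ k ∈ K, ∀ g : J2, gmask g ∈ masks → gmask (k * g) ∈ masks := by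
  have hs : ∀ m ∈ masks, ∃ r, gmask (wJ (ew r) * wJ v) = m ∧
      gmask (wJ U33Data.wa * (wJ (ew r) * wJ v)) ∈ masks ∧
      gmask (wJ U33Data.wb * (wJ (ew r) * wJ v)) ∈ masks := by
    intro m hm
    obtain ⟨i, hi, rfl⟩ := List.getElem_of_mem hm
    have h' := List.all_eq_true.1 h i (List.mem_range.2 hi)
    simp only [Bool.and_eq_true, beq_iff_eq, List.contains_iff_mem] at h'
    refine ⟨reach.getD i 0, ?_⟩
    rw [← wJ_append, ← wJ_append, ← wJ_append, gmask_wJ, gmask_wJ, gmask_wJ, h'.1.1, List.getD_eq_getElem _ _ hi]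
    exact ⟨rfl, h'.1.2, h'.2⟩
  refine ⟨fun m hm => ?_, ?_⟩
  · obtain ⟨r, e, -⟩ := hs m hm
    exact ⟨_, ew_mem r, e⟩
  · haveI := finite_J2
    intro k hk
    have hk' : k ∈ Submonoid.closure ({wJ U33Data.wa, wJ U33Data.wb} : Set J2) := by
      rw [← Subgroup.closure_toSubmonoid_of_finite]; exact hk
    clear hk
    induction hk' using Submonoid.closure_induction with
    | one => intro g hg; rwa [one_mul]
    | mul x y _ _ hx hy => intro g hg; rw [mul_assoc]; exact hx _ (hy g hg)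
    | mem x hx =>
      intro g hg
      obtain ⟨r, e, ea, eb⟩ := hs _ hg
      rw [gmask_mul_left x e.symm]
      rcases hx with rfl | rfl
      · exact ea
      · exact eb

theorem index_stab : 100 ≤ stab.index := by
  haveI := finite_J2
  have hs : ∀ m ∈ allMasks, ∃ c, cmask c = m := by
    intro m hm
    rw [allMasks, List.mem_cons, List.mem_append] at hm
    rcases hm with rfl | hm | hm
    · exact ⟨QuotientGroup.mk 1, by rw [cmask_mk, ← wJ_nil, gmask_wJ]; exact pts_facts.2.2.2.1⟩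
    · obtain ⟨k, -, e⟩ := (orb_facts orbA_ok).1 m hm
      exact ⟨QuotientGroup.mk (k * wJ U33Data.vA), e⟩
    · obtain ⟨k, -, e⟩ := (orb_facts orbB_ok).1 m hm
      exact ⟨QuotientGroup.mk (k * wJ U33Data.vB), e⟩
  rw [Subgroup.index, ← Set.ncard_univ]
  refine le_trans (le_of_eq ?_) (Set.ncard_le_ncard (Set.subset_univ (cmask ⁻¹' {m | m ∈ allMasks})) Set.finite_univ)
  have hsub : {m : ℕ | m ∈ allMasks} ⊆ Set.range cmask := fun m hm => hs m hm
  rw [Set.ncard_preimage_of_injective_subset_range cmask_injective hsub,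
    ← List.coe_toFinset, Set.ncard_coe_finset, List.toFinset_card_of_nodup pts_facts.2.2.2.2.2.2.1]
  exact pts_facts.2.2.2.2.2.2.2.symm

theorem card_stab_le : Nat.card stab ≤ 6048 := by
  haveI := finite_J2
  have h := Subgroup.card_mul_index stab
  rw [card_J2] at h
  have := index_stab
  nlinarith

theorem trans_facts : (U33Data.stab.length = 96) ∧ keys.Nodup ∧ U33Data.trans.getD 0 0 = 1 ∧
    U33Data.stab.getD 0 0 = 1 ∧
    (∀ i < 63, wact (ew (U33Data.trans.getD i 0)) (pt 0) = pt i) ∧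
    ∀ j < 96, wact (ew (U33Data.stab.getD j 0)) (pt 0) = pt 0 ∧
      (j = 0 ∨ ∃ k < 63, wact (ew (U33Data.stab.getD j 0)) (pt k) ≠ pt k) := by
  have h := trans_ok
  simp only [transOK, Bool.and_eq_true, Bool.or_eq_true, beq_iff_eq, decide_eq_true_eq, List.all_eq_true,
    List.any_eq_true, List.mem_range, bne_iff_ne] at h
  obtain ⟨⟨⟨⟨⟨⟨-, h1⟩, h2⟩, h3⟩, h4⟩, h5⟩, h6⟩ := h
  exact ⟨h1, h2, h3, h4, h5, h6⟩

theorem pt_mem {i : ℕ} (hi : i < 63) : pt i ∈ U33Data.pts := by
  have hi' : i < U33Data.pts.length := pts_facts.1.symm ▸ hi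
  rw [pt, List.getD_eq_getElem _ _ hi']
  exact List.getElem_mem _

theorem pt_lt {i : ℕ} (hi : i < 63) : pt i < 315 := pts_facts.2.2.1 _ (pt_mem hi)

theorem pt_injective {i j : ℕ} (hi : i < 63) (hj : j < 63) (h : pt i = pt j) : i = j := by
  have hi' : i < U33Data.pts.length := pts_facts.1.symm ▸ hi
  have hj' : j < U33Data.pts.length := pts_facts.1.symm ▸ hj
  rw [pt, pt, List.getD_eq_getElem _ _ hi', List.getD_eq_getElem _ _ hj'] at h
  exact (List.Nodup.getElem_inj_iff pts_facts.2.1).1 h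

/-- The product of a transversal element and a stabiliser element. -/
noncomputable def elt (p : Fin 63 × Fin 96) : K :=
  ⟨wJ (ew (U33Data.trans.getD p.1 0)) * wJ (ew (U33Data.stab.getD p.2 0)), mul_mem (ew_mem _) (ew_mem _)⟩

theorem gact_elt (p : Fin 63 × Fin 96) : gact (elt p : J2) (pt 0) = pt p.1 := by
  obtain ⟨-, -, -, -, h5, h6⟩ := trans_facts
  show gact (_ * _) _ = _
  rw [gact_mul, gact_wJ _ (pt_lt (by norm_num)), (h6 _ p.2.2).1, gact_wJ _ (pt_lt (by norm_num)), h5 _ p.1.2]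

theorem elt_bijective : Function.Bijective elt := by
  haveI := finite_J2
  obtain ⟨h1, h2, -, -, h5, h6⟩ := trans_facts
  have hinj : Function.Injective elt := by
    rintro ⟨i, j⟩ ⟨i', j'⟩ h
    have hi : i = i' := Fin.ext (pt_injective i.2 i'.2 (by
      have := gact_elt (i, j); rw [h, gact_elt] at this; exact this.symm))
    subst hi
    have e := mul_left_cancel (congrArg Subtype.val h :
      wJ (ew (U33Data.trans.getD i 0)) * wJ (ew (U33Data.stab.getD j 0)) = _ * wJ (ew (U33Data.stab.getD j' 0)))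
    have hk : ∀ x : ℕ, x < 315 → wact (ew (U33Data.stab.getD j 0)) x = wact (ew (U33Data.stab.getD j' 0)) x :=
      fun x hx => by rw [← gact_wJ _ hx, ← gact_wJ _ hx, e]
    have hj : (j : ℕ) < keys.length := by rw [keys, List.length_map, h1]; exact j.2
    have hj' : (j' : ℕ) < keys.length := by rw [keys, List.length_map, h1]; exact j'.2
    refine Prod.ext rfl (Fin.ext ((List.Nodup.getElem_inj_iff h2 (hi := hj) (hj := hj')).1 ?_))
    simp only [keys, List.getElem_map]
    rw [← List.getD_eq_getElem _ 0, ← List.getD_eq_getElem _ 0, key, key, hk 0 (by norm_num),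
      hk 2 (by norm_num), hk 8 (by norm_num)]
  refine ⟨hinj, ?_⟩
  have h := hinj.bijective_of_nat_card_le ?_
  · exact h.2
  · rw [Nat.card_eq_fintype_card (α := Fin 63 × Fin 96), Fintype.card_prod, Fintype.card_fin, Fintype.card_fin]
    exact (Subgroup.card_le_of_le K_le).trans card_stab_le

theorem card_K : Nat.card K = 6048 := by
  rw [← Nat.card_congr (Equiv.ofBijective _ elt_bijective), Nat.card_eq_fintype_card, Fintype.card_prod,
    Fintype.card_fin, Fintype.card_fin]

theorem K_eq : K = stab := by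
  haveI := finite_J2
  exact Subgroup.eq_of_le_of_card_ge K_le (card_K.symm ▸ card_stab_le)

theorem index_K : K.index = 100 := by
  haveI := finite_J2
  have h := Subgroup.card_mul_index K
  rw [card_K, card_J2] at h
  omega

/-- An element of the subgroup fixing all the lines of the orbit is trivial. -/
theorem eq_one_of_fix {k : J2} (hk : k ∈ K) (h : ∀ i < 63, gact k (pt i) = pt i) : k = 1 := by
  obtain ⟨⟨i, j⟩, e⟩ := elt_bijective.2 ⟨k, hk⟩
  obtain ⟨-, -, h3, h4, -, h6⟩ := trans_facts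
  have ek : (elt (i, j) : J2) = k := congrArg Subtype.val e
  have hi : (i : ℕ) = 0 := pt_injective i.2 (by norm_num) (by
    rw [← gact_elt (i, j), ek, h 0 (by norm_num)])
  have hone : wJ (ew 1) = 1 := by rw [show ew 1 = [] from rfl, wJ_nil]
  have hk' : k = wJ (ew (U33Data.stab.getD j 0)) := by
    rw [← ek]
    show wJ (ew (U33Data.trans.getD i 0)) * _ = _
    rw [hi, h3, hone, one_mul]
  rcases (h6 j j.2).2 with hj | ⟨x, hx, hne⟩
  · rw [hk', hj, h4, hone]
  · refine absurd ?_ hne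
    rw [← gact_wJ _ (pt_lt hx), ← hk', h x hx]

/-- The suborbit of a word is as long as its list of masks. -/
theorem orbit_card {v masks reach : List ℕ} (h : orbOK v masks reach = true)
    (hv : wmask v ∈ masks) (hnd : masks.Nodup) :
    ∃ c : J2 ⧸ K, (MulAction.orbit ↥K c).ncard = masks.length := by
  rw [K_eq]
  obtain ⟨h1, h2⟩ := orb_facts h
  rw [K_eq] at h1 h2
  refine ⟨QuotientGroup.mk (wJ v), ?_⟩
  rw [← Set.ncard_image_of_injective _ cmask_injective, ← List.toFinset_card_of_nodup hnd,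
    ← Set.ncard_coe_finset, List.coe_toFinset]
  congr 1
  ext m
  constructor
  · rintro ⟨_, ⟨k, rfl⟩, rfl⟩
    exact h2 k.1 k.2 _ (gmask_wJ v ▸ hv)
  · intro hm
    obtain ⟨k, hk, rfl⟩ := h1 m hm
    exact ⟨_, ⟨⟨k, hk⟩, rfl⟩, rfl⟩

theorem suborbits : ∃ c₁ c₂ : J2 ⧸ K,
    (MulAction.orbit ↥K c₁).ncard = 36 ∧ (MulAction.orbit ↥K c₂).ncard = 63 := by
  have hn := (List.nodup_cons.1 pts_facts.2.2.2.2.2.2.1).2
  rw [List.nodup_append] at hn
  obtain ⟨c₁, e₁⟩ := orbit_card orbA_ok (by decide +kernel) hn.1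
  obtain ⟨c₂, e₂⟩ := orbit_card orbB_ok (by decide +kernel) hn.2.1
  exact ⟨c₁, c₂, e₁.trans rfl, e₂.trans rfl⟩

end Cfsg.Agent.IcoLeech.U33
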