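import Cfsg.Agent.Lib.IcoLeech.PermCheck
import Cfsg.Agent.Lib.IcoLeech.U33Data
import Cfsg.Agent.Lib.Chevalley.Exceptional.G2Two

/-!
Computations for the subgroup of index 100 of `J2`.
-/

set_option autoImplicit false
set_option maxRecDepth 100000
set_option maxHeartbeats 4000000
set_option Elab.async false

open scoped Matrix

namespace Cfsg.Agent.IcoLeech.U33

open Cfsg.Agent.Exceptional.G2Two (E eq3)

/-- A word in the two generators, decoded from the binary digits below the leading one. -/
def decode : ℕ → ℕ → List ℕ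
  | 0, _ => []
  | f + 1, n => if n ≤ 1 then [] else decode f (n / 2) ++ (if n % 2 = 1 then U33Data.wa else U33Data.wb)

/-- A word in the two generators. -/
def ew (n : ℕ) : List ℕ := decode 40 n

/-- A line of the orbit. -/
def pt (i : ℕ) : ℕ := U33Data.pts.getD i 0

/-- The mask of the image of the orbit. -/
def maskOf (f : ℕ → ℕ) : ℕ := U33Data.pts.foldl (fun m x => m ||| 2 ^ f x) 0

/-- The mask of the image under a word. -/
def wmask (w : List ℕ) : ℕ := maskOf (wact w)

/-- All masks. -/
def allMasks : List ℕ := U33Data.mask0 :: (U33Data.maskA ++ U33Data.maskB)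

/-- The check of the orbit of lines. -/
def ptsOK : Bool :=
  U33Data.pts.length == 63 && decide U33Data.pts.Nodup && (U33Data.pts.all fun x => decide (x < 315)) &&
    wmask [] == U33Data.mask0 && wmask U33Data.wa == U33Data.mask0 && wmask U33Data.wb == U33Data.mask0 &&
    decide allMasks.Nodup && allMasks.length == 100

/-- The check of an orbit of images. -/
def orbOK (v masks reach : List ℕ) : Bool :=
  (List.range masks.length).all fun i =>
    let u := ew (reach.getD i 0) ++ v
    wmask u == masks.getD i 0 && masks.contains (wmask (U33Data.wa ++ u)) &&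
      masks.contains (wmask (U33Data.wb ++ u))

/-- The key of a word. -/
def key (w : List ℕ) : ℕ := (wact w 0 * 315 + wact w 2) * 315 + wact w 8

/-- The keys of the stabiliser words. -/
def keys : List ℕ := U33Data.stab.map fun n => key (ew n)

/-- The check of the transversal and the stabiliser. -/
def transOK : Bool :=
  U33Data.trans.length == 63 && U33Data.stab.length == 96 && decide keys.Nodup &&
    U33Data.trans.getD 0 0 == 1 && U33Data.stab.getD 0 0 == 1 &&
    ((List.range 63).all fun i => wact (ew (U33Data.trans.getD i 0)) (pt 0) == pt i) &&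
    (List.range 96).all fun j => wact (ew (U33Data.stab.getD j 0)) (pt 0) == pt 0 &&
      (j == 0 || (List.range 63).any fun k => wact (ew (U33Data.stab.getD j 0)) (pt k) != pt k)

/-- A Gaussian scalar from a digit. -/
def dig (k : ℕ) : E := ⟨((k % 3 : ℕ) : ℤ), ((k / 3 : ℕ) : ℤ)⟩

/-- The vector of a line. -/
def evec (i : ℕ) : Fin 3 → E := fun r => dig (U33Data.vecs.getD i 0 / 9 ^ (r : ℕ) % 9)

/-- The nonzero scalars. -/
def scalars : List E := [⟨1, 0⟩, ⟨2, 0⟩, ⟨0, 1⟩, ⟨0, 2⟩, ⟨1, 1⟩, ⟨1, 2⟩, ⟨2, 1⟩, ⟨2, 2⟩]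

/-- The matrix of the first generator. -/
def matA : Matrix (Fin 3) (Fin 3) E := !![⟨0, 0⟩, ⟨1, 1⟩, ⟨1, 2⟩; ⟨0, 0⟩, ⟨2, 1⟩, ⟨2, 2⟩; ⟨0, 1⟩, ⟨0, 0⟩, ⟨0, 0⟩]

/-- The matrix of the second generator. -/
def matB : Matrix (Fin 3) (Fin 3) E := !![⟨0, 0⟩, ⟨1, 0⟩, ⟨0, 0⟩; ⟨1, 0⟩, ⟨0, 0⟩, ⟨0, 0⟩; ⟨0, 0⟩, ⟨0, 0⟩, ⟨2, 0⟩]

/-- The check that a matrix moves the points as a word moves the lines. -/
def actOK (M : Matrix (Fin 3) (Fin 3) E) (w : List ℕ) : Bool :=
  (List.range 63).all fun i =>
    let j := U33Data.pts.idxOf (wact w (pt i))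
    decide (j < 63) && pt j == wact w (pt i) &&
      scalars.any fun c => (List.finRange 3).all fun r => eq3 ((M *ᵥ evec i) r) (c * evec j r)

/-- The check that a matrix is unitary of determinant one. -/
def matOK (M : Matrix (Fin 3) (Fin 3) E) : Bool :=
  Cfsg.Agent.Exceptional.G2Two.eqM (Mᵀ * M.map star) 1 &&
    eq3 (M 0 0 * M 1 1 * M 2 2 - M 0 0 * M 1 2 * M 2 1 - M 0 1 * M 1 0 * M 2 2 + M 0 1 * M 1 2 * M 2 0 +
      M 0 2 * M 1 0 * M 2 1 - M 0 2 * M 1 1 * M 2 0) 1

/-- The check of the nonzero scalars. -/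
def scalarsOK : Bool := scalars.all fun c => eq3 (c * star c) 1 || eq3 (c * star c) 2

/-- The check of the five reference points. -/
def refOK : Bool :=
  (List.finRange 3).all fun r =>
    eq3 (evec 30 r) ((![1, 0, 0] : Fin 3 → E) r) && eq3 (evec 22 r) ((![0, 1, 0] : Fin 3 → E) r) &&
    eq3 (evec 3 r) ((![0, 0, 1] : Fin 3 → E) r) && eq3 (evec 1 r) ((![1, 1, 0] : Fin 3 → E) r) &&
    eq3 (evec 9 r) ((![0, 1, 1] : Fin 3 → E) r)

/-- The check that the points are distinct. -/
def propOK : Bool :=
  (List.range 63).all fun i => (List.range 63).all fun j => i == j ||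
    (List.finRange 3).any fun r => (List.finRange 3).any fun t =>
      scalars.any fun c => eq3 (evec i r * evec j t - evec i t * evec j r) c

theorem prop_ok : propOK = true := by decide +kernel

theorem pts_ok : ptsOK = true := by decide +kernel

theorem orbA_ok : orbOK U33Data.vA U33Data.maskA U33Data.reachA = true := by decide +kernel

theorem orbB_ok : orbOK U33Data.vB U33Data.maskB U33Data.reachB = true := by decide +kernel

theorem trans_ok : transOK = true := by decide +kernel

theorem actA_ok : actOK matA U33Data.wa = true := by decide +kernel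

theorem actB_ok : actOK matB U33Data.wb = true := by decide +kernel

theorem mat_ok : matOK matA = true ∧ matOK matB = true ∧ scalarsOK = true ∧ refOK = true := by decide +kernel

end Cfsg.Agent.IcoLeech.U33
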