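import Cfsg.Agent.Lib.IcoLeech.U33
import Cfsg.Agent.Lib.Classical.UnitarySimple
import Cfsg.Agent.Lib.Classical.UnitaryFrames

/-!
The subgroup of index 100 of `J2` is the unitary group of degree three over nine elements.
-/

set_option autoImplicit false
set_option linter.unusedSectionVars false
set_option maxRecDepth 100000
set_option maxHeartbeats 1000000

open scoped Matrix

namespace Cfsg.Agent.IcoLeech.U33

open Cfsg.Spor Cfsg.Agent.Classical.Unitary
open Cfsg.Agent.Exceptional.G2Two (E eq3 ι_eq3 map_eqM map_star_ι exists_data)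

variable {F : Type} [Field F] [Fintype F] (d : Cfsg.Agent.Exceptional.G2Two.Data F)

/-- The point of a line. -/
def fvec (i : ℕ) : Fin 3 → F := d.ι ∘ evec i

theorem matOK_gives {M : Matrix (Fin 3) (Fin 3) E} (h : matOK M = true) :
    ∃ A : Cfsg.SU 3 F 3, ∀ v, mat A *ᵥ v = M.map d.ι *ᵥ v := by
  simp only [matOK, Bool.and_eq_true] at h
  have hu' := map_eqM d h.1
  rw [Matrix.map_mul, map_star_ι, show (Mᵀ.map d.ι) = (M.map d.ι)ᵀ from rfl,
    Matrix.map_one _ (map_zero _) (map_one _)] at hu'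
  have hdet : (M.map d.ι).det = 1 := by
    have e := ι_eq3 d h.2
    simp only [map_sub, map_add, map_mul, map_one] at e
    rw [Matrix.det_fin_three]
    exact e
  refine ⟨suMk (M.map d.ι) hdet fun u v => ?_, fun v => suMk_mulVec _ _ _ v⟩
  have hh : ∀ u v : Fin 3 → F, Cfsg.hermForm 3 F 3 u v = u ⬝ᵥ (d.σ ∘ v) := fun u v => by
    simp [Cfsg.hermForm, dotProduct, d.σ_pow]
  rw [hh, hh, show d.σ ∘ (M.map d.ι *ᵥ v) = (M.map d.ι).map d.σ *ᵥ (d.σ ∘ v) from
    funext (RingHom.map_mulVec d.σ _ _), Matrix.dotProduct_mulVec, ← Matrix.vecMul_transpose,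
    Matrix.vecMul_vecMul, hu', Matrix.vecMul_one]

theorem scalar_ne {c : E} (hc : c ∈ scalars) : d.ι c ≠ 0 := by
  intro hz
  have h := List.all_eq_true.1 mat_ok.2.2.1 c hc
  have h3 : (3 : F) = 0 := by rw [← map_ofNat d.ι]; exact d.ι_three
  rw [Bool.or_eq_true] at h
  rcases h with h | h <;> have e := ι_eq3 d h <;> rw [map_mul, hz, zero_mul] at e
  · rw [map_one] at e; exact zero_ne_one e
  · rw [map_ofNat] at e; exact one_ne_zero (show (1 : F) = 0 by linear_combination h3 + e)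

theorem eq_of_proportional {i j : ℕ} (hi : i < 63) (hj : j < 63) {c : F}
    (e : fvec d i = c • fvec d j) : j = i := by
  have h := List.all_eq_true.1 (List.all_eq_true.1 prop_ok i (List.mem_range.2 hi)) j (List.mem_range.2 hj)
  simp only [Bool.or_eq_true, beq_iff_eq, List.any_eq_true] at h
  rcases h with h | ⟨r, -, t, -, a, ha, hm⟩
  · exact h.symm
  · exfalso
    refine scalar_ne d ha ?_
    rw [← ι_eq3 d hm, map_sub, map_mul, map_mul]
    have er : d.ι (evec i r) = c * d.ι (evec j r) := congrFun e r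
    have et : d.ι (evec i t) = c * d.ι (evec j t) := congrFun e t
    rw [er, et]
    ring

/-- A pair acts alike on the lines and on the points. -/
def Rel (p : Cfsg.SU 3 F 3 × J2) : Prop :=
  ∀ i < 63, ∃ j < 63, gact p.2 (pt i) = pt j ∧ ∃ c : F, c ≠ 0 ∧ mat p.1 *ᵥ fvec d i = c • fvec d j

theorem rel_one : Rel d 1 := fun i hi =>
  ⟨i, hi, gact_one (pt_lt hi), 1, one_ne_zero, by
    rw [one_smul]
    show mat (1 : Cfsg.SU 3 F 3) *ᵥ _ = _
    simp [mat]⟩

theorem rel_mul {p q : Cfsg.SU 3 F 3 × J2} (hp : Rel d p) (hq : Rel d q) : Rel d (p * q) := by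
  intro i hi
  obtain ⟨j, hj, ej, c, hc, ec⟩ := hq i hi
  obtain ⟨l, hl, el', c', hc', ec'⟩ := hp j hj
  refine ⟨l, hl, by rw [Prod.snd_mul, gact_mul, ej, el'], c * c', mul_ne_zero hc hc', ?_⟩
  rw [Prod.fst_mul, mul_mulVec, ec, Matrix.mulVec_smul, ec', smul_smul]

theorem rel_gen {M : Matrix (Fin 3) (Fin 3) E} {w : List ℕ} (h : actOK M w = true)
    {A : Cfsg.SU 3 F 3} (hA : ∀ v, mat A *ᵥ v = M.map d.ι *ᵥ v) : Rel d (A, wJ w) := by
  intro i hi
  have h' := List.all_eq_true.1 h i (List.mem_range.2 hi)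
  simp only [Bool.and_eq_true, beq_iff_eq, decide_eq_true_eq, List.any_eq_true, List.all_eq_true] at h'
  obtain ⟨⟨hj, e⟩, c, hc, hr⟩ := h'
  refine ⟨_, hj, by rw [gact_wJ _ (pt_lt hi), e], d.ι c, scalar_ne d hc, funext fun r => ?_⟩
  rw [hA]
  refine (RingHom.map_mulVec d.ι M (evec i) r).symm.trans ((ι_eq3 d (hr r (List.mem_finRange r))).trans ?_)
  rw [map_mul]; rfl

theorem ref_vec {i : ℕ} {v : Fin 3 → E} (h : ∀ r, eq3 (evec i r) (v r) = true) : fvec d i = d.ι ∘ v :=
  funext fun r => ι_eq3 d (h r)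

theorem fix_central {A : Cfsg.SU 3 F 3}
    (h : ∀ i < 63, ∃ c : F, mat A *ᵥ fvec d i = c • fvec d i) : A ∈ Subgroup.center (Cfsg.SU 3 F 3) := by
  have hr := List.all_eq_true.1 mat_ok.2.2.2
  simp only [Bool.and_eq_true] at hr
  have e0 := ref_vec d (i := 30) (v := ![1, 0, 0]) fun r => (hr r (List.mem_finRange r)).1.1.1.1
  have e1 := ref_vec d (i := 22) (v := ![0, 1, 0]) fun r => (hr r (List.mem_finRange r)).1.1.1.2
  have e2 := ref_vec d (i := 3) (v := ![0, 0, 1]) fun r => (hr r (List.mem_finRange r)).1.1.2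
  have e3 := ref_vec d (i := 1) (v := ![1, 1, 0]) fun r => (hr r (List.mem_finRange r)).1.2
  have e4 := ref_vec d (i := 9) (v := ![0, 1, 1]) fun r => (hr r (List.mem_finRange r)).2
  obtain ⟨a, ha⟩ := h 30 (by norm_num)
  obtain ⟨b, hb⟩ := h 22 (by norm_num)
  obtain ⟨c, hc⟩ := h 3 (by norm_num)
  obtain ⟨x, hx⟩ := h 1 (by norm_num)
  obtain ⟨y, hy⟩ := h 9 (by norm_num)
  rw [e0] at ha; rw [e1] at hb; rw [e2] at hc; rw [e3] at hx; rw [e4] at hy
  have ka : ∀ r, mat A r 0 = ![a, 0, 0] r := fun r => by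
    have := congrFun ha r
    fin_cases r <;> simpa [Matrix.mulVec, dotProduct, Fin.sum_univ_three] using this
  have kb : ∀ r, mat A r 1 = ![0, b, 0] r := fun r => by
    have := congrFun hb r
    fin_cases r <;> simpa [Matrix.mulVec, dotProduct, Fin.sum_univ_three] using this
  have kc : ∀ r, mat A r 2 = ![0, 0, c] r := fun r => by
    have := congrFun hc r
    fin_cases r <;> simpa [Matrix.mulVec, dotProduct, Fin.sum_univ_three] using this
  have hab : a = x := by
    simpa [Matrix.mulVec, dotProduct, Fin.sum_univ_three, ka, kb, kc] using congrFun hx 0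
  have hbx : b = x := by
    simpa [Matrix.mulVec, dotProduct, Fin.sum_univ_three, ka, kb, kc] using congrFun hx 1
  have hby : b = y := by
    simpa [Matrix.mulVec, dotProduct, Fin.sum_univ_three, ka, kb, kc] using congrFun hy 1
  have hcy : c = y := by
    simpa [Matrix.mulVec, dotProduct, Fin.sum_univ_three, ka, kb, kc] using congrFun hy 2
  have hs : ∀ v : Fin 3 → F, mat A *ᵥ v = x • v := fun v => funext fun r => by
    fin_cases r <;>
      simp [Matrix.mulVec, dotProduct, Fin.sum_univ_three, ka, kb, kc, hab, hbx, hcy.trans (hby.symm.trans hbx)]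
  refine Subgroup.mem_center_iff.2 fun g => SU_ext fun v => ?_
  rw [mul_mulVec, mul_mulVec, hs, hs, Matrix.mulVec_smul]

theorem nonempty_equiv (hF : Fintype.card F = 9) : Nonempty (↥K ≃* Cfsg.PSU 3 F 3) := by
  classical
  obtain ⟨d⟩ := exists_data hF
  haveI := finite_J2
  have hF9 : Fintype.card F = 3 ^ 2 := by rw [hF]; norm_num
  haveI : Finite (Cfsg.SU 3 F 3) := inferInstance
  obtain ⟨A, hA⟩ := matOK_gives d mat_ok.1
  obtain ⟨B, hB⟩ := matOK_gives d mat_ok.2.1
  let Q : Subgroup (Cfsg.SU 3 F 3 × J2) := Subgroup.closure {(A, wJ U33Data.wa), (B, wJ U33Data.wb)}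
  have hQ : ∀ p ∈ Q, Rel d p ∧ p.2 ∈ K := by
    intro p hp
    have hp' : p ∈ Submonoid.closure
        ({(A, wJ U33Data.wa), (B, wJ U33Data.wb)} : Set (Cfsg.SU 3 F 3 × J2)) := by
      rw [← Subgroup.closure_toSubmonoid_of_finite]; exact hp
    clear hp
    induction hp' using Submonoid.closure_induction with
    | one => exact ⟨rel_one d, one_mem _⟩
    | mul x y _ _ hx hy => exact ⟨rel_mul d hx.1 hy.1, mul_mem hx.2 hy.2⟩
    | mem x hx =>
      rcases hx with rfl | rfl
      · exact ⟨rel_gen d actA_ok hA, wa_mem⟩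
      · exact ⟨rel_gen d actB_ok hB, wb_mem⟩
  have hz : Subgroup.center (Cfsg.SU 3 F 3) = ⊥ := Subgroup.card_eq_one.1
    (by rw [natCard_center hF9 (by norm_num)]; norm_num)
  have inj1 : ∀ p ∈ Q, p.1 = 1 → p = 1 := by
    intro p hp e
    obtain ⟨hr, hk⟩ := hQ p hp
    refine Prod.ext e (eq_one_of_fix hk fun i hi => ?_)
    obtain ⟨j, hj, ej, c, -, ec⟩ := hr i hi
    rw [e] at ec
    rw [ej, eq_of_proportional d hi hj (c := c) (by simpa [mat] using ec)]
  have inj2 : ∀ p ∈ Q, p.2 = 1 → p = 1 := by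
    intro p hp e
    obtain ⟨hr, -⟩ := hQ p hp
    refine Prod.ext ?_ e
    have hm : p.1 ∈ Subgroup.center (Cfsg.SU 3 F 3) := fix_central d fun i hi => by
      obtain ⟨j, hj, ej, c, -, ec⟩ := hr i hi
      rw [e, gact_one (pt_lt hi)] at ej
      rw [← pt_injective hi hj ej] at ec
      exact ⟨c, ec⟩
    rwa [hz, Subgroup.mem_bot] at hm
  let π1 : Q →* Cfsg.SU 3 F 3 := (MonoidHom.fst _ _).comp Q.subtype
  let π2 : Q →* J2 := (MonoidHom.snd _ _).comp Q.subtype
  have h1 : Function.Injective π1 := (injective_iff_map_eq_one _).2 fun p e => Subtype.ext (inj1 p p.2 e)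
  have h2 : Function.Injective π2 := (injective_iff_map_eq_one _).2 fun p e => Subtype.ext (inj2 p p.2 e)
  have hr : π2.range = K := by
    rw [MonoidHom.range_comp, Subgroup.range_subtype, MonoidHom.map_closure, Set.image_pair]
    rfl
  let e2 : Q ≃* K := (MonoidHom.ofInjective h2).trans (MulEquiv.subgroupCongr hr)
  have hP : Nat.card (Cfsg.PSU 3 F 3) = 6048 := by
    have h := natCard_PSU_mul hF9 (n := 3) (by norm_num)
    rw [natCard_GU hF9] at h
    norm_num [Finset.prod_range_succ, Nat.even_iff] at h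
    simp only [Nat.card_eq_fintype_card] at h ⊢
    omega
  let f : Q →* Cfsg.PSU 3 F 3 := (QuotientGroup.mk' _).comp π1
  have hfi : Function.Injective f := by
    refine (injective_iff_map_eq_one _).2 fun a ha => ?_
    rw [MonoidHom.comp_apply, QuotientGroup.mk'_apply, QuotientGroup.eq_one_iff, hz, Subgroup.mem_bot] at ha
    exact h1 (ha.trans (map_one π1).symm)
  have eQ : Q ≃* Cfsg.PSU 3 F 3 := MulEquiv.ofBijective f
    ((Nat.bijective_iff_injective_and_card f).2
      ⟨hfi, (Nat.card_congr e2.toEquiv).trans (card_K.trans hP.symm)⟩)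
  exact ⟨e2.symm.trans eQ⟩

end Cfsg.Agent.IcoLeech.U33
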