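import Cfsg.Agent.Lib.IcoLeech.Norm

/-!
Vectors of the icosian lattice in the model, the Hermitian product and the reflections.
-/

set_option autoImplicit false

namespace Cfsg.Agent.IcoLeech

open Cfsg.Spor Quaternion

/-- A triple of model icosians. -/
structure V3 where
  x : Ico
  y : Ico
  z : Ico
  deriving DecidableEq

namespace V3

open Ico

/-- The Hermitian product. -/
def qip (v w : V3) : Ico :=
  Ico.add (Ico.add (Ico.mul v.x (Ico.conj w.x)) (Ico.mul v.y (Ico.conj w.y))) (Ico.mul v.z (Ico.conj w.z))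

/-- A left multiple. -/
def sm (u : Ico) (v : V3) : V3 := ⟨Ico.mul u v.x, Ico.mul u v.y, Ico.mul u v.z⟩

/-- The reflection in `r`. -/
def refl (r v : V3) : V3 :=
  let a := Ico.half (qip v r)
  ⟨Ico.sub v.x (Ico.mul a r.x), Ico.sub v.y (Ico.mul a r.y), Ico.sub v.z (Ico.mul a r.z)⟩

/-- Membership in the lattice. -/
def inLam (v : V3) : Bool :=
  (Ico.mul (Ico.sub v.x v.y) Ico.hb).even && (Ico.mul (Ico.sub v.y v.z) Ico.hb).even &&
    (Ico.mul (Ico.add (Ico.add v.x v.y) v.z) Ico.h).even

/-- The vector of quaternions. -/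
noncomputable def toV (v : V3) : Fin 3 → ℍ[ℝ] := ![toH v.x, toH v.y, toH v.z]

theorem toV_zero (v : V3) : toV v 0 = toH v.x := rfl

theorem toV_one (v : V3) : toV v 1 = toH v.y := rfl

theorem toV_two (v : V3) : toV v 2 = toH v.z := rfl

theorem toV_injective : Function.Injective toV := by
  intro v w h
  have h0 := toH_injective (congrFun h 0)
  have h1 := toH_injective (congrFun h 1)
  have h2 := toH_injective (congrFun h 2)
  cases v; cases w
  exact V3.mk.injEq .. |>.mpr ⟨h0, h1, h2⟩

theorem toV_mem_iff (v : V3) : toV v ∈ icoLeech ↔ v.inLam = true := by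
  have hall : ∀ t, toV v t ∈ icosians := fun t => by
    fin_cases t <;> exact toH_mem _
  simp only [icoLeech, Set.mem_ofPred_eq, toV_zero, toV_one, toV_two, hall, true_and, implies_true,
    ← toH_sub, ← toH_add, mem_leftIdeal_h, mem_leftIdeal_hb, inLam, Bool.and_eq_true, and_assoc]

theorem exists_toV (x : icoLeech) : ∃ v : V3, v.inLam = true ∧ toV v = (x : Fin 3 → ℍ[ℝ]) := by
  obtain ⟨hI, -⟩ := x.2
  obtain ⟨a, ha⟩ := exists_toH (hI 0)
  obtain ⟨b, hb⟩ := exists_toH (hI 1)
  obtain ⟨c, hc⟩ := exists_toH (hI 2)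
  have e : toV ⟨a, b, c⟩ = (x : Fin 3 → ℍ[ℝ]) := funext fun t => by
    fin_cases t
    exacts [ha, hb, hc]
  exact ⟨⟨a, b, c⟩, (toV_mem_iff _).1 (by rw [e]; exact x.2), e⟩

theorem qip_toV (v w : V3) : toH (qip v w) = Cfsg.Spor.qip (toV v) (toV w) := by
  rw [Cfsg.Spor.qip, Fin.sum_univ_three, toV_zero, toV_one, toV_two, toV_zero, toV_one, toV_two, qip,
    toH_add, toH_add, toH_mul, toH_mul, toH_mul, toH_conj, toH_conj, toH_conj]

theorem sm_toV (u : Ico) (v : V3) : toV (sm u v) = fun t => toH u * toV v t := funext fun t => by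
  fin_cases t <;> exact toH_mul _ _

theorem refl_toV {r v : V3} (h : (qip v r).even = true) : toV (refl r v) = qrefl (toV r) (toV v) := by
  funext t
  rw [qrefl, ← qip_toV]
  fin_cases t <;>
    simp [refl, toV, toH_sub, toH_mul, toH_half h]

end V3

/-- The model vector of a lattice element. -/
noncomputable def vec (x : icoLeech) : V3 := (V3.exists_toV x).choose

theorem vec_inLam (x : icoLeech) : (vec x).inLam = true := (V3.exists_toV x).choose_spec.1

theorem toV_vec (x : icoLeech) : V3.toV (vec x) = (x : Fin 3 → ℍ[ℝ]) := (V3.exists_toV x).choose_spec.2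

theorem vec_injective : Function.Injective vec := fun x y h =>
  Subtype.ext (by rw [← toV_vec x, ← toV_vec y, h])

/-- The lattice element of a model vector. -/
noncomputable def el (v : V3) (h : v.inLam = true) : icoLeech := ⟨V3.toV v, (V3.toV_mem_iff v).2 h⟩

theorem vec_el (v : V3) (h : v.inLam = true) : vec (el v h) = v := V3.toV_injective (toV_vec _)

end Cfsg.Agent.IcoLeech
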